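import Mathlib
import Cfsg.Agent.TH.Alt.Base_m3
import Cfsg.Agent.H396.Comp.Quasi
import Cfsg.Agent.FastGrp
import Cfsg.Agent.Prune
set_option linter.all false

section
prune_inst 0x7ffcfef9afb8bddfffff7ffffffddffe39d4dfffffdffb4bffedfbffffff23673fe5fbbf1df4d8ffded7e2be30b87853f97eea3fef6bdc7ffffd5ff45ffbee1fb7efbfad71d7bc340ffe6ffffbf37fbffffffffffffffffffffffffffffffffffffdffffffff

-- part: TH/Own/Core_mg
section
prune_inst 0x20040000000000000000000000000000000000400000000000000000040000000000000000120010000000000020000000000000000000000000000000000000000000000100000000000000000000000000000000000000000000000000000000000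
set_option linter.all false
open scoped Cfsg.Agent.FastGrp

-- part: TH/Own/Core
section
/-!
# S3541, `BoxOwn`: basic lemmas on `PS` and `Amb`, transport by conjugation (helper74)
-/

set_option autoImplicit false
set_option linter.unusedSectionVars false
set_option linter.unusedVariables false

namespace Cfsg.Agent.TH.Own

open MulAction

variable {G : Type*} [Group G] {p : ℕ} {I : Type*}

namespace PS

variable (S : PS G p I)

/-- the Sylow subgroups of `D J` -/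
abbrev Syl (J : Set I) : Set (Subgroup G) := Cjs (S.D J) S.X

/-- their number -/
noncomputable abbrev W (J : Set I) : ℕ := nS (S.D J) S.X

/-- `O_p(D J)` -/
abbrev V (J : Set I) : Subgroup G := rad (S.D J) S.X

abbrev Split (i : I) : Prop := Spl (S.D {i}) S.X

abbrev Adj (i j : I) : Prop := AdjD S.D S.X i j

/-- the nodes `i` with `D {i} ≤ K` -/
def typ (K : Subgroup G) : Set I := {i | S.D {i} ≤ K}

theorem X_le (J : Set I) : S.X ≤ S.D J := S.D_empty ▸ S.mono (Set.empty_subset J)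

theorem le_univ (J : Set I) : S.D J ≤ S.D Set.univ := S.mono (Set.subset_univ J)

theorem D_inj {J L : Set I} (h : S.D J = S.D L) : J = L := Set.Subset.antisymm (S.le_iff h.le) (S.le_iff h.ge)

theorem D_single_inj {i k : I} (h : S.D {i} = S.D {k}) : i = k := Set.singleton_injective (S.D_inj h)

theorem eq_of_single_le {i k : I} (h : S.D {i} ≤ S.D {k}) : i = k := S.le_iff h rfl

theorem V_le (J : Set I) : S.V J ≤ S.X := rad_le_self _ _

theorem V_isP (J : Set I) : IsPGroup p (S.V J) := S.isP.to_le (S.V_le J)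

theorem V_anti {J L : Set I} (h : J ⊆ L) : S.V L ≤ S.V J := rad_anti (S.mono h)

theorem Syl_mono {J L : Set I} (h : J ⊆ L) : S.Syl J ⊆ S.Syl L := Cjs_mono (S.mono h)

theorem Syl_le {J : Set I} {P : Subgroup G} (h : P ∈ S.Syl J) : P ≤ S.D J := le_of_mem_Cjs (S.X_le J) h

theorem Syl_isP {J : Set I} {P : Subgroup G} (h : P ∈ S.Syl J) : IsPGroup p P := isP_of_mem_Cjs S.isP h

theorem X_mem (J : Set I) : S.X ∈ S.Syl J := self_mem_Cjs _ _

theorem Syl_empty {P : Subgroup G} (h : P ∈ S.Syl ∅) : P = S.X := by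
  obtain ⟨e, he, rfl⟩ := h
  exact cj_of_mem (S.D_empty ▸ he)

theorem V_empty : S.V ∅ = S.X := le_antisymm (S.V_le _) (le_sInf fun P hP => (S.Syl_empty hP).ge)

theorem nm_X {x : G} (hx : x ∈ S.X) (J : Set I) : cj x (S.D J) = S.D J := cj_of_mem (S.X_le J hx)

theorem nm_V {J : Set I} {g : G} (hg : g ∈ S.D J) : cj g (S.V J) = S.V J := nm_rad hg

theorem adj_symm {i j : I} (h : S.Adj i j) : S.Adj j i :=
  ⟨h.1.symm, by rw [Set.pair_comm, mul_comm]; exact h.2⟩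

theorem D_le_of_Syl {J L : Set I} (h : S.Syl J ⊆ S.Syl L) : J ⊆ L :=
  S.le_iff (S.gen J _ fun _ hP => S.Syl_le (h hP))

theorem exists_ne (i : I) : ∃ P ∈ S.Syl {i}, P ≠ S.X := by
  by_contra h
  push Not at h
  exact S.D_le_of_Syl (J := {i}) (L := ∅) (fun P hP => h P hP ▸ S.X_mem ∅) rfl

/-- the overgroups of `X` -/
theorem ov' {K : Subgroup G} (hK : S.X ≤ K) :
    S.D (S.typ K) ≤ K ∧ ∀ k ∈ K, k ∈ S.D Set.univ → cj k S.X ∈ S.Syl (S.typ K) := by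
  obtain ⟨J, h1, h2⟩ := S.ov (K ⊓ S.D Set.univ) (le_inf hK (S.X_le _)) inf_le_right
  have h3 : S.typ K = J := by
    ext i
    constructor
    · intro hi
      refine S.D_le_of_Syl (J := {i}) ?_ rfl
      rintro _ ⟨e, he, rfl⟩
      exact h2 e ⟨hi he, S.le_univ _ he⟩
    · intro hi
      exact (S.mono (Set.singleton_subset_iff.2 hi)).trans (h1.trans inf_le_left)
  rw [h3]
  exact ⟨h1.trans inf_le_left, fun k hk hk' => h2 k ⟨hk, hk'⟩⟩

theorem D_le {K : Subgroup G} {J : Set I} (hK : S.X ≤ K) (h : ∀ i ∈ J, S.D {i} ≤ K) : S.D J ≤ K :=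
  (S.mono h).trans (S.ov' hK).1

theorem typ_D (J : Set I) : S.typ (S.D J) = J := by
  ext i
  exact ⟨fun h => S.le_iff h rfl, fun h => S.mono (Set.singleton_subset_iff.2 h)⟩

theorem D_union (J L : Set I) : S.D (J ∪ L) = S.D J ⊔ S.D L :=
  le_antisymm (S.D_le ((S.X_le J).trans le_sup_left) fun i hi => hi.elim
    (fun h => (S.mono (Set.singleton_subset_iff.2 h)).trans le_sup_left)
    (fun h => (S.mono (Set.singleton_subset_iff.2 h)).trans le_sup_right))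
    (sup_le (S.mono Set.subset_union_left) (S.mono Set.subset_union_right))

/-- a statement which holds on `X` and on all `D {i}`, `i ∈ J` -/
theorem nm_D_of {J : Set I} {K : Subgroup G} (h0 : ∀ x ∈ S.X, cj x K = K) (h : ∀ i ∈ J, ∀ x ∈ S.D {i}, cj x K = K) :
    ∀ x ∈ S.D J, cj x K = K := fun _ hx =>
  nm_iff.1 (S.D_le (K := Subgroup.normalizer (K : Set G)) (fun y hy => nm_iff.2 (h0 y hy))
    (fun i hi y hy => nm_iff.2 (h i hi y hy)) hx)

theorem V_le_iff {J L : Set I} (h : S.V J ≤ S.V L) : L ⊆ J :=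
  S.D_le_of_Syl fun _ hP => S.vx J _ (S.Syl_mono (Set.subset_univ L) hP) (h.trans (rad_le hP))

/-- conjugation -/
def conj (g : G) : PS G p I where
  X := cj g S.X
  D J := cj g (S.D J)
  isP := isPGroup_cj S.isP g
  D_empty := by rw [S.D_empty]
  mono h := cj_mono g (S.mono h)
  le_iff h := S.le_iff ((cj_le_cj_iff g).1 h)
  syl P h1 h2 := by
    obtain ⟨R, hR, h3⟩ := S.syl (cj g⁻¹ P) ((cj_le_iff _).2 (by rwa [inv_inv])) (isPGroup_cj h2 _)
    exact ⟨cj g R, cj_mem_Cjs_cj.2 hR, by rwa [cj_le_iff, inv_inv] at h3⟩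
  ov K h1 h2 := by
    obtain ⟨J, h3, h4⟩ := S.ov (cj g⁻¹ K) ((cj_le_iff g).1 h1) ((cj_le_iff _).2 (by rwa [inv_inv]))
    refine ⟨J, (cj_le_iff g).2 h3, fun k hk => mem_Cjs_cj.2 ?_⟩
    rw [← cj_mul, ← cj_mul]
    exact h4 _ (by simpa only [_root_.Subgroup.mem_map, _root_.map_inv, _root_.MulEquiv.toMonoidHom_eq_coe, _root_.MonoidHom.coe_coe, _root_.MulAut.inv_apply, _root_.MulAut.conj_symm_apply, _root_.mul_left_inj, _root_.mul_right_inj, _root_.exists_eq_right, _root_.inv_inv] using conj_mem_cj g⁻¹ hk)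
  gen J K h := (cj_le_iff g).2 (S.gen J _ fun P hP => (cj_le_iff g).1 (h _ (cj_mem_Cjs_cj.2 hP)))
  nrm n hn h J := nm_cj_iff.2 (S.nrm _ (mem_cj.1 hn) (nm_cj_iff.1 h) J)
  vx J P hP h := by
    rw [rad_cj, cj_le_iff] at h
    exact mem_Cjs_cj.2 (S.vx J _ (mem_Cjs_cj.1 hP) h)
  rk2 j k h h1 h2 := by
    simp only [nS_cj]
    exact S.rk2 j k h ((spl_cj_iff g).1 h1) ((spl_cj_iff g).1 h2)
  endn := by
    simp only [AdjD, nS_cj]
    exact S.endn

theorem conj_Adj (g : G) (i j : I) : (S.conj g).Adj i j ↔ S.Adj i j := by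
  show AdjD (fun J => cj g (S.D J)) (cj g S.X) i j ↔ _
  simp only [AdjD, nS_cj]

theorem At.conj {Ω : Type*} [MulAction G Ω] {T : Subgroup G} [T.Normal] {a : Ω} {S : PS G p I} (h : S.At T a) (g : G) :
    (S.conj g).At T (g • a) where
  leT := (cj_mono g h.leT).trans (cj_normal g T).le
  fix := cj_le_stab.2 h.fix
  nrmH x hx := nm_cj_iff.2 (h.nrmH _ (by rw [mul_smul, mul_smul, hx, inv_smul_smul]))

variable [Finite G]

theorem maxP : MaxP p (S.D Set.univ) S.X :=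
  ⟨S.X_le _, S.isP, fun R hR h1 h2 => by
    obtain ⟨P, hP, h3⟩ := S.syl R h1 hR
    exact (Subgroup.eq_of_le_of_card_ge h2 ((Subgroup.card_le_of_le h3).trans (card_of_mem_Cjs hP).le)).symm⟩

theorem maxP' {K : Subgroup G} (h1 : S.X ≤ K) (h2 : K ≤ S.D Set.univ) : MaxP p K S.X := S.maxP.mono h1 h2

theorem maxD (J : Set I) : MaxP p (S.D J) S.X := S.maxP' (S.X_le J) (S.le_univ J)

theorem maxP_Syl {J : Set I} {P : Subgroup G} (h : P ∈ S.Syl J) : MaxP p (S.D Set.univ) P :=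
  S.maxP.of_mem_Cjs (S.Syl_mono (Set.subset_univ J) h)

theorem W_pos (J : Set I) : 0 < S.W J := nS_pos _ _

theorem W_empty : S.W ∅ = 1 := by
  have : S.Syl ∅ = {S.X} := Set.eq_singleton_iff_unique_mem.2 ⟨S.X_mem _, fun _ => S.Syl_empty⟩
  show (S.Syl ∅).ncard = 1
  rw [this, Set.ncard_singleton]

theorem W_mono {J L : Set I} (h : J ⊆ L) : S.W J ≤ S.W L := Set.ncard_le_ncard (S.Syl_mono h)

variable [hp : Fact p.Prime]

/-- the Sylow subgroups inside an overgroup of `X` -/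
theorem mem_Syl_typ {K P : Subgroup G} (hK : S.X ≤ K) (hP : P ∈ S.Syl Set.univ) (h : P ≤ K) : P ∈ S.Syl (S.typ K) := by
  have h1 : MaxP p (K ⊓ S.D Set.univ) S.X := S.maxP' (le_inf hK (S.X_le _)) inf_le_right
  obtain ⟨k, hk, rfl⟩ := h1.exists_eq ((S.maxP_Syl hP).mono (le_inf h (S.Syl_le hP)) inf_le_right)
  exact (S.ov' hK).2 k hk.1 hk.2

theorem mem_Syl_of_le {J : Set I} {P : Subgroup G} (hP : P ∈ S.Syl Set.univ) (h : P ≤ S.D J) : P ∈ S.Syl J := by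
  have h1 := S.mem_Syl_typ (S.X_le J) hP h
  rwa [S.typ_D] at h1

theorem mem_Syl_inter {J L : Set I} {P : Subgroup G} (h1 : P ∈ S.Syl J) (h2 : P ∈ S.Syl L) : P ∈ S.Syl (J ∩ L) :=
  S.Syl_mono (J := S.typ (S.D J ⊓ S.D L)) (fun i hi => Set.mem_inter (S.le_iff (J := {i}) (le_trans hi inf_le_left) rfl)
      (S.le_iff (J := {i}) (le_trans hi inf_le_right) rfl))
    (S.mem_Syl_typ (K := S.D J ⊓ S.D L) (le_inf (S.X_le J) (S.X_le L)) (S.Syl_mono (Set.subset_univ J) h1)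
      (le_inf (S.Syl_le h1) (S.Syl_le h2)))

theorem eq_X_of_disjoint {J L : Set I} (h : Disjoint J L) {P : Subgroup G} (h1 : P ∈ S.Syl J) (h2 : P ∈ S.Syl L) :
    P = S.X := S.Syl_empty (Set.disjoint_iff_inter_eq_empty.1 h ▸ S.mem_Syl_inter h1 h2)

/-- two Sylow subgroups of `D {i}` generate it -/
theorem D_le_of_two {i : I} {K P : Subgroup G} (hP : P ∈ S.Syl {i}) (hne : P ≠ S.X) (hK : S.X ≤ K) (h : P ≤ K) :
    S.D {i} ≤ K := by
  by_contra h1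
  exact hne (S.eq_X_of_disjoint (Set.disjoint_singleton_left.2 h1) hP
    (S.mem_Syl_typ hK (S.Syl_mono (Set.subset_univ _) hP) h))

theorem D_le_of_two' {i : I} {K P P' : Subgroup G} (hP : P ∈ S.Syl {i}) (hP' : P' ∈ S.Syl {i}) (hne : P ≠ P')
    (h : P ≤ K) (h' : P' ≤ K) : S.D {i} ≤ K := by
  obtain ⟨e, he, rfl⟩ := hP'
  have h1 := S.D_le_of_two (K := cj e⁻¹ K) (cj_mem_Cjs (inv_mem he) hP)
    (fun h2 => hne (by rw [← h2, cj_cj_inv])) ((cj_le_iff e).1 h') (cj_mono _ h)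
  rwa [← cj_le_iff, cj_of_mem he] at h1

theorem W_modEq (J : Set I) : S.W J ≡ 1 [MOD p] := (S.maxD J).nS_modEq

theorem not_dvd_W (J : Set I) : ¬ p ∣ S.W J := fun h =>
  hp.1.one_lt.ne' (Nat.dvd_one.1 ((S.W_modEq J).dvd_iff dvd_rfl |>.1 h))

theorem three_le (i : I) : 3 ≤ S.W {i} := by
  obtain ⟨P, hP, hne⟩ := S.exists_ne i
  have h1 : 1 < S.W {i} := (Set.one_lt_ncard (finite_Cjs _ _)).2 ⟨P, hP, _, S.X_mem _, hne⟩
  have h2 := Nat.le_of_dvd (by omega) ((Nat.modEq_iff_dvd' h1.le).1 (S.W_modEq {i}).symm)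
  have h3 := hp.1.two_le
  omega

theorem Split.exists_pow {S : PS G p I} {i : I} (h : S.Split i) : ∃ n, 0 < n ∧ S.W {i} = p ^ n + 1 := by
  obtain ⟨P, hP, hne⟩ := S.exists_ne i
  obtain ⟨n, hn⟩ := Spl.exists_pow h S.isP (S.X_le _) hP hne
  refine ⟨n, Nat.pos_of_ne_zero ?_, hn⟩
  rintro rfl
  have := S.three_le i
  have h1 : S.W {i} = 2 := hn
  omega

/-- a residue is determined by any of its chambers -/
theorem nm_of_mem_Syl {J : Set I} {g : G} (hg : g ∈ S.D Set.univ) {P : Subgroup G} (h1 : P ∈ S.Syl J)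
    (h2 : cj g P ∈ S.Syl J) : cj g (S.D J) = S.D J := by
  obtain ⟨f, hf, rfl⟩ := h1
  obtain ⟨f', hf', h3⟩ := h2
  have h4 := S.nrm (f'⁻¹ * g * f) (mul_mem (mul_mem (inv_mem (S.le_univ J hf')) hg) (S.le_univ J hf))
    (by rw [cj_mul, cj_mul, h3, cj_inv_cj]) J
  rw [cj_mul, cj_mul, cj_of_mem hf] at h4
  rw [← cj_cj_inv f' (cj g (S.D J)), h4, cj_of_mem hf']

theorem grid_aux {J L : Set I} (h : Disjoint J L) : ∃ φ : S.Syl J × S.Syl L → S.Syl (J ∪ L), Function.Injective φ ∧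
    ∀ x, ∃ e ∈ S.D J, ∃ f ∈ S.D L, (φ x : Subgroup G) = cj (e * f) S.X := by
  choose r hr hr' using fun P : S.Syl J => P.2
  refine ⟨fun x => ⟨cj (r x.1) x.2, cj_mem_Cjs (S.mono Set.subset_union_left (hr x.1))
    (S.Syl_mono Set.subset_union_right x.2.2)⟩, ?_, ?_⟩
  · rintro ⟨P, R⟩ ⟨P', R'⟩ h1
    have h2 : cj (r P) R = cj (r P') R' := congrArg Subtype.val h1
    have h3 : (r P')⁻¹ * r P ∈ S.D J := mul_mem (inv_mem (hr P')) (hr P)
    have h4 := S.nm_of_mem_Syl (S.le_univ J h3) R.2 (by rw [cj_mul, h2, cj_inv_cj]; exact R'.2)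
    have h5 : cj ((r P')⁻¹ * r P) S.X = S.X := S.eq_X_of_disjoint h ⟨_, h3, rfl⟩
      (S.mem_Syl_of_le ⟨_, S.le_univ J h3, rfl⟩ ((cj_mono _ (S.X_le L)).trans h4.le))
    have h6 : P = P' := Subtype.ext (by
      rw [hr' P, hr' P', ← cj_cj_inv (r P') (cj (r P) S.X), ← cj_mul (r P')⁻¹, h5])
    subst h6
    rw [Subtype.ext (cj_inj _ h2)]
  · rintro ⟨P, R, f, hf, rfl⟩
    exact ⟨r P, hr P, f, hf, (cj_mul _ _ _).symm⟩

theorem W_mul_le {J L : Set I} (h : Disjoint J L) : S.W J * S.W L ≤ S.W (J ∪ L) := by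
  obtain ⟨φ, h1, -⟩ := S.grid_aux h
  have h2 := Nat.card_le_card_of_injective φ h1
  rwa [Nat.card_prod, Nat.card_coe_set_eq, Nat.card_coe_set_eq, Nat.card_coe_set_eq] at h2

/-- the grid property -/
theorem grid {J L : Set I} (h : Disjoint J L) (hW : S.W (J ∪ L) = S.W J * S.W L) {P : Subgroup G}
    (hP : P ∈ S.Syl (J ∪ L)) : ∃ e ∈ S.D J, ∃ f ∈ S.D L, P = cj (e * f) S.X := by
  obtain ⟨φ, h1, h2⟩ := S.grid_aux h
  have h3 : Function.Bijective φ := h1.bijective_of_nat_card_le (by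
    rw [Nat.card_prod, Nat.card_coe_set_eq, Nat.card_coe_set_eq, Nat.card_coe_set_eq]
    exact hW.le)
  obtain ⟨x, hx⟩ := h3.2 ⟨P, hP⟩
  obtain ⟨e, he, f, hf, h4⟩ := h2 x
  exact ⟨e, he, f, hf, by rw [← h4, hx]⟩

theorem W_eq_of_grid {J L : Set I} (h : Disjoint J L)
    (hg : ∀ P ∈ S.Syl (J ∪ L), ∃ e ∈ S.D J, ∃ f ∈ S.D L, P = cj (e * f) S.X) : S.W (J ∪ L) = S.W J * S.W L := by
  refine le_antisymm ?_ (S.W_mul_le h)
  choose r hr hr' using fun P : S.Syl J => P.2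
  let ψ : S.Syl J × S.Syl L → Subgroup G := fun x => cj (r x.1) x.2
  have h1 : S.Syl (J ∪ L) ⊆ Set.range ψ := fun P hP => by
    obtain ⟨e, he, f, hf, rfl⟩ := hg P hP
    let R : S.Syl J := ⟨cj e S.X, e, he, rfl⟩
    have h2 : cj ((r R)⁻¹ * e) S.X = S.X := by
      rw [cj_mul]
      exact (congrArg (cj (r R)⁻¹) (hr' R)).trans (cj_inv_cj _ _)
    have h3 := S.nrm _ (S.le_univ J (mul_mem (inv_mem (hr R)) he)) h2 L
    refine ⟨(R, ⟨cj ((r R)⁻¹ * e) (cj f S.X), cj_mem_Cjs_nm h3 h2 ⟨f, hf, rfl⟩⟩), ?_⟩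
    show cj (r R) (cj ((r R)⁻¹ * e) (cj f S.X)) = _
    rw [← cj_mul, mul_inv_cancel_left, cj_mul]
  have h2 := (Set.ncard_le_ncard h1).trans (Finite.card_range_le ψ)
  rwa [Nat.card_prod, Nat.card_coe_set_eq, Nat.card_coe_set_eq] at h2

theorem grid_of_not_adj {j k : I} (hne : j ≠ k) (h : ¬ S.Adj j k) {P : Subgroup G} (hP : P ∈ S.Syl {j, k}) :
    ∃ e ∈ S.D {j}, ∃ f ∈ S.D {k}, P = cj (e * f) S.X :=
  S.grid (Set.disjoint_singleton.2 hne) (by_contra fun h1 => h ⟨hne, h1⟩) hP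

theorem three_mul_le {J : Set I} {i : I} (hi : i ∉ J) : 3 * S.W J ≤ S.W (insert i J) :=
  (Nat.mul_le_mul_right _ (S.three_le i)).trans (S.W_mul_le (Set.disjoint_singleton_left.2 hi))

theorem three_mul_le' {J L : Set I} {i : I} (h : J ⊆ L) (hi : i ∉ J) (hi' : i ∈ L) : 3 * S.W J ≤ S.W L :=
  (S.three_mul_le hi).trans (S.W_mono (Set.insert_subset hi' h))

theorem pow_le_W {J : Set I} (hJ : J.Finite) : 3 ^ J.ncard ≤ S.W J := by
  induction J, hJ using Set.Finite.induction_on with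
  | empty => rw [Set.ncard_empty, pow_zero]; exact S.W_pos _
  | insert hi hs ih =>
    rw [Set.ncard_insert_of_notMem hi hs, pow_succ']
    exact (Nat.mul_le_mul_left _ ih).trans (S.three_mul_le hi)

theorem pow_mul_le {J L A : Set I} (hA : A.Finite) (h : Disjoint A J) (h1 : A ⊆ L) (h2 : J ⊆ L) :
    3 ^ A.ncard * S.W J ≤ S.W L :=
  ((Nat.mul_le_mul_right _ (S.pow_le_W hA)).trans (S.W_mul_le h)).trans (S.W_mono (Set.union_subset h1 h2))

/-- automorphisms permute the `D J` -/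
theorem exists_set {h : G} (h1 : cj h (S.D Set.univ) = S.D Set.univ) (h2 : cj h S.X = S.X) (J : Set I) :
    ∃ L, cj h (S.D J) = S.D L := by
  have h3 : S.X ≤ cj h (S.D J) := h2.ge.trans (cj_mono h (S.X_le J))
  refine ⟨S.typ (cj h (S.D J)), le_antisymm ((cj_le_iff h).2 (S.gen J _ fun P hP => (cj_le_iff h).1 ?_))
    (S.ov' h3).1⟩
  exact S.Syl_le (S.mem_Syl_typ h3 (cj_mem_Cjs_nm h1 h2 (S.Syl_mono (Set.subset_univ J) hP))
    (cj_mono h (S.Syl_le hP)))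

theorem exists_perm {h : G} (h1 : cj h (S.D Set.univ) = S.D Set.univ) (h2 : cj h S.X = S.X) (i : I) :
    ∃ k, cj h (S.D {i}) = S.D {k} := by
  have h0 : ∀ {g : G}, cj g S.X = S.X → ∀ (k : I) (L : Set I), cj g (S.D {k}) = S.D L → L.Nonempty := by
    intro g hg k L h3
    rw [Set.nonempty_iff_ne_empty]
    rintro rfl
    rw [S.D_empty, ← hg] at h3
    exact Set.singleton_ne_empty k (S.D_inj ((cj_inj g h3).trans S.D_empty.symm))
  obtain ⟨L, hL⟩ := S.exists_set h1 h2 {i}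
  obtain ⟨k, hk⟩ := h0 h2 i L hL
  obtain ⟨L', hL'⟩ := S.exists_set (nm_inv h1) (nm_inv h2) {k}
  have h3 : S.D L' ≤ S.D {i} := by
    rw [← hL', cj_le_iff, inv_inv, hL]
    exact S.mono (Set.singleton_subset_iff.2 hk)
  have h4 : L' = {i} := (h0 (nm_inv h2) k L' hL').subset_singleton_iff.1 (S.le_iff h3)
  exact ⟨k, by rw [← h4, ← hL', cj_cj_inv]⟩

/-- the image of `D J` from the images of the `D {i}` -/
theorem cj_D_eq {h : G} (h2 : cj h S.X = S.X) {J L : Set I} (h3 : ∀ i ∈ J, ∃ k ∈ L, cj h (S.D {i}) = S.D {k})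
    (h4 : ∀ k ∈ L, ∃ i ∈ J, cj h (S.D {i}) = S.D {k}) : cj h (S.D J) = S.D L := by
  refine le_antisymm ((cj_le_iff h).2 (S.D_le ((cj_le_iff h).1 (h2.le.trans (S.X_le L))) fun i hi => ?_))
    (S.D_le (h2.ge.trans (cj_mono h (S.X_le J))) fun k hk => ?_)
  · obtain ⟨k, hk, h5⟩ := h3 i hi
    rw [← cj_le_iff, h5]
    exact S.mono (Set.singleton_subset_iff.2 hk)
  · obtain ⟨i, hi, h5⟩ := h4 k hk
    rw [← h5]
    exact cj_mono h (S.mono (Set.singleton_subset_iff.2 hi))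

theorem W_eq_of_cj {h : G} (h2 : cj h S.X = S.X) {J L : Set I} (h3 : cj h (S.D J) = S.D L) : S.W L = S.W J := by
  show nS (S.D L) S.X = _
  rw [← h3]
  conv_lhs => rw [← h2]
  exact nS_cj _ _ _

theorem V_eq_of_cj {h : G} (h2 : cj h S.X = S.X) {J L : Set I} (h3 : cj h (S.D J) = S.D L) :
    cj h (S.V J) = S.V L := by
  show _ = rad (S.D L) S.X
  rw [← rad_cj, h3, h2]

theorem adj_of_cj {h : G} (h2 : cj h S.X = S.X) {i k i' k' : I} (h3 : cj h (S.D {i}) = S.D {i'})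
    (h4 : cj h (S.D {k}) = S.D {k'}) (h5 : S.Adj i k) : S.Adj i' k' := by
  refine ⟨fun h6 => h5.1 (S.D_single_inj (cj_inj h (by rw [h3, h4, h6]))), ?_⟩
  have h6 : cj h (S.D {i, k}) = S.D {i', k'} := by
    rw [Set.insert_eq, Set.insert_eq, S.D_union, S.D_union, cj_sup, h3, h4]
  show S.W {i', k'} ≠ S.W {i'} * S.W {k'}
  rw [S.W_eq_of_cj h2 h3, S.W_eq_of_cj h2 h4, S.W_eq_of_cj h2 h6]
  exact h5.2

/-- the normal closure of `V J` in `D L` -/
def RR (J L : Set I) : Subgroup G := ⨆ e : S.D L, cj (e : G) (S.V J)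

theorem V_le_RR (J L : Set I) : S.V J ≤ S.RR J L := by
  have := le_iSup (fun e : S.D L => cj (e : G) (S.V J)) 1
  rw [Subgroup.coe_one, cj_one] at this
  exact this

theorem RR_le {J L : Set I} : S.RR J L ≤ S.D L :=
  iSup_le fun e => (cj_mono _ ((S.V_le J).trans (S.X_le L))).trans (cj_of_mem e.2).le

theorem nm_RR {J L : Set I} {g : G} (hg : g ∈ S.D L) : cj g (S.RR J L) = S.RR J L := by
  refine nm_of_le ?_
  rw [RR, cj_iSup]
  exact iSup_le fun e => by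
    rw [← cj_mul]
    exact le_iSup (fun e : S.D L => cj (e : G) (S.V J)) ⟨g * e, mul_mem hg e.2⟩

theorem cj_RR {h : G} {J L J' L' : Set I} (h3 : cj h (S.V J) = S.V J') (h4 : cj h (S.D L) = S.D L') :
    cj h (S.RR J L) = S.RR J' L' := by
  have key : ∀ {h : G} {J L J' L' : Set I}, cj h (S.V J) = S.V J' → cj h (S.D L) = S.D L' →
      cj h (S.RR J L) ≤ S.RR J' L' := by
    intro h J L J' L' h3 h4
    rw [RR, cj_iSup]
    refine iSup_le fun e => ?_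
    have h5 : cj h (cj (e : G) (S.V J)) = cj (h * e * h⁻¹) (S.V J') := by
      rw [← h3, ← cj_mul, ← cj_mul, inv_mul_cancel_right]
    rw [h5]
    exact le_iSup (fun e : S.D L' => cj (e : G) (S.V J')) ⟨_, h4 ▸ conj_mem_cj h e.2⟩
  refine le_antisymm (key h3 h4) ?_
  have h5 := key (h := h⁻¹) (J := J') (L := L') (J' := J) (L' := L) (by rw [← h3, cj_inv_cj])
    (by rw [← h4, cj_inv_cj])
  rwa [cj_le_iff, inv_inv] at h5

/-- in a grid, `D J` normalises the normal closure of `V J` in `D L` -/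
theorem nm_RR_of_grid {J L : Set I} (h : Disjoint J L) (hW : S.W (J ∪ L) = S.W J * S.W L) {g : G} (hg : g ∈ S.D J) :
    cj g (S.RR J L) = S.RR J L := by
  refine nm_of_le ?_
  rw [RR, cj_iSup]
  refine iSup_le fun e => ?_
  have h1 : g * e ∈ S.D (L ∪ J) := mul_mem (S.mono Set.subset_union_right hg) (S.mono Set.subset_union_left e.2)
  obtain ⟨e', he', f, hf, h2⟩ := S.grid h.symm (by rw [Set.union_comm, mul_comm]; exact hW) ⟨_, h1, rfl⟩
  have h3 : cj ((e' * f)⁻¹ * (g * e)) S.X = S.X := by rw [cj_mul, h2, cj_inv_cj]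
  have h4 := S.V_eq_of_cj h3 (S.nrm _ (mul_mem (inv_mem (mul_mem (S.le_univ _ he') (S.le_univ _ hf)))
    (S.le_univ _ h1)) h3 J)
  have h5 : cj g (cj (e : G) (S.V J)) = cj e' (S.V J) := by
    rw [← cj_mul, ← cj_cj_inv (e' * f) (cj (g * e) (S.V J)), ← cj_mul (e' * f)⁻¹, h4, cj_mul, S.nm_V hf]
  rw [h5]
  exact le_iSup (fun e : S.D L => cj (e : G) (S.V J)) ⟨e', he'⟩

theorem nm_RR_of_not_adj {j k : I} (hne : j ≠ k) (h : ¬ S.Adj j k) {g : G} (hg : g ∈ S.D {j}) :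
    cj g (S.RR {j} {k}) = S.RR {j} {k} :=
  S.nm_RR_of_grid (Set.disjoint_singleton.2 hne) (by_contra fun h1 => h ⟨hne, h1⟩) hg

theorem RR_sup {J : Set I} {k : I} (hk : k ∉ J) : S.RR J {k} ⊔ S.X = S.D {k} := by
  refine le_antisymm (sup_le S.RR_le (S.X_le _)) ?_
  by_contra h
  have h1 : ∀ g ∈ S.RR J {k}, cj g S.X = S.X := fun g hg =>
    S.eq_X_of_disjoint (L := S.typ (S.RR J {k} ⊔ S.X)) (Set.disjoint_singleton_left.2 h) ⟨g, S.RR_le hg, rfl⟩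
      ((S.ov' le_sup_right).2 g (Subgroup.mem_sup_left hg) (S.le_univ _ (S.RR_le hg)))
  have h2 : S.RR J {k} ≤ S.X := iSup_le fun e =>
    (S.maxD {k}).le_of_nm' (isPGroup_cj (S.V_isP J) _)
      ((le_iSup (fun e : S.D {k} => cj (e : G) (S.V J)) e).trans S.RR_le)
      fun x hx => h1 x (le_iSup (fun e : S.D {k} => cj (e : G) (S.V J)) e hx)
  exact hk (S.V_le_iff ((S.V_le_RR J {k}).trans (le_rad h2 fun g hg => S.nm_RR hg)) rfl)

end PS

/-- conjugation -/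
def US.conj (S : US G p I) (g : G) : US G p I where
  toPS := S.toPS.conj g
  split i := (S.split i).cj g
  pan i P hP hne := by
    have h1 := S.pan i _ (mem_Cjs_cj.1 hP) fun h => hne (by rw [← cj_cj_inv g P, h]; rfl)
    show cj g S.X ⊓ P ≤ rad (cj g _) (cj g _)
    rw [rad_cj, ← cj_cj_inv g P, ← cj_inf]
    exact cj_mono g h1
  proj J P hP hne := by
    obtain ⟨i, hi, R, hR, h1, h2⟩ := S.proj J _ (mem_Cjs_cj.1 hP) fun h => hne (by rw [← cj_cj_inv g P, h]; rfl)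
    refine ⟨i, hi, cj g R, cj_mem_Cjs_cj.2 hR, fun h => h1 (cj_inj g h), fun R' hR' h3 => ?_⟩
    have h4 := h2 _ (mem_Cjs_cj.1 hR') fun h => h3 (by rw [← h, cj_cj_inv])
    rwa [← cj_inf, card_cj, ← card_cj g (R ⊓ _), cj_inf, cj_cj_inv] at h4
  opp := by
    obtain ⟨P₀, h1, h2, h3, h4, h5⟩ := S.opp
    refine ⟨cj g P₀, cj_mem_Cjs_cj.2 h1, ?_, fun P hP h6 => ?_, fun i => ?_, fun h h6 h7 h8 P hP => ?_⟩
    · show cj g S.X ⊓ _ = _
      rw [← cj_inf, h2, cj_bot]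
    · obtain ⟨u, hu, h7⟩ := h3 _ (mem_Cjs_cj.1 hP) (cj_inj g (by rw [cj_inf, cj_cj_inv, cj_bot]; exact h6))
      exact ⟨g * u * g⁻¹, conj_mem_cj g hu, by rw [cj_mul, cj_mul, h7]⟩
    · obtain ⟨R, hR, h6, h7⟩ := h4 i
      refine ⟨cj g R, cj_mem_Cjs_cj.2 hR, by rwa [← cj_inf, Ne, cj_eq_bot], fun R' hR' h8 => ?_⟩
      rw [← cj_cj_inv g R', ← cj_inf, cj_eq_bot]
      exact h7 _ (mem_Cjs_cj.1 hR') fun h => h8 (by rw [← h, cj_cj_inv])
    · have h9 := h5 (g⁻¹ * h * g) (nm_cj_iff.1 h6) (nm_cj_iff.1 h7)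
        (fun i R hR => nm_cj_iff.1 (h8 i _ (cj_mem_Cjs_cj.2 hR))) _ (mem_Cjs_cj.1 hP)
      rw [← cj_cj_inv g P]
      exact nm_cj_iff.2 h9

/-- conjugation -/
def FS.conj (F : FS G p I) (g : G) : FS G p I where
  toPS := F.toPS.conj g
  Y i := cj g (F.Y i)
  Y_le i := cj_mono g (F.Y_le i)
  Y_nrm i x hx := nm_cj_iff.2 (F.Y_nrm i _ (mem_cj.1 hx))
  y1 i := by
    obtain ⟨P, hP, h1, h2⟩ := F.y1 i
    exact ⟨cj g P, cj_mem_Cjs_cj.2 hP, fun h => h1 (cj_inj g h), cj_mono g h2⟩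
  y2 J Z h1 h2 P hP h3 h4 := by
    obtain ⟨i, hi, h5⟩ := F.y2 J (cj g⁻¹ Z) ((cj_le_iff _).2 (by rw [inv_inv]; exact h1))
      (fun x hx => nm_cj_iff.2 (by rw [inv_inv]; exact h2 _ (conj_mem_cj g hx))) _ (mem_Cjs_cj.1 hP)
      (fun h => h3 (by rw [← cj_cj_inv g P, h]; rfl)) (cj_mono _ h4)
    exact ⟨i, hi, by rwa [cj_le_iff, inv_inv] at h5⟩
  y3 i k h := F.y3 i k ((cj_le_cj_iff g).1 h)
  multi i hi := by
    obtain ⟨K, a, h1, h2, h3, h4⟩ := F.multi i fun h => hi (h.cj g)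
    refine ⟨cj g K, a, (rad_cj g _ _).le.trans (cj_mono g h1), cj_mono g h2, (nS_cj g _ _).symm ▸ h3, ?_⟩
    have h5 : {P ∈ Cjs (cj g (F.D {i})) (cj g F.X) | cj g K ≤ P} = cj g '' {P ∈ Cjs (F.D {i}) F.X | K ≤ P} := by
      ext P
      constructor
      · rintro ⟨h6, h7⟩
        exact ⟨cj g⁻¹ P, ⟨mem_Cjs_cj.1 h6, (cj_le_iff g).1 h7⟩, cj_cj_inv g P⟩
      · rintro ⟨R, ⟨h6, h7⟩, rfl⟩
        exact ⟨cj_mem_Cjs_cj.2 h6, cj_mono g h7⟩
    show ¬ p ^ a ∣ {P ∈ Cjs (cj g (F.D {i})) (cj g F.X) | cj g K ≤ P}.ncard - 1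
    rwa [h5, Set.ncard_image_of_injective _ fun _ _ h => cj_inj g h]
  iso5 i h1 h2 := (nS_cj g _ _).symm ▸ F.iso5 i ((spl_cj_iff g).1 h1) fun k hk => h2 k ((F.toPS.conj_Adj g i k).2 hk)

section At

variable {Ω : Type*} [MulAction G Ω] {T : Subgroup G} {a : Ω}

theorem FS.At.conj [hT : T.Normal] {F : FS G p I} (h : F.At T a) (g : G) : (F.conj g).At T (g • a) where
  toAt := h.toAt.conj g
  maxX P h1 h2 h3 h4 h5 := by
    have h6 := h.maxX (cj g⁻¹ P) (isPGroup_cj h1 _) ((cj_mono _ h2).trans (cj_normal _ T).le)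
      (cj_le_stab'.2 (by rwa [inv_inv])) (fun x hx => by
        have h7 := nm_cj_iff.1 (h4 _ (mem_cj.1 hx))
        rwa [show g⁻¹ * (g⁻¹⁻¹ * x * g⁻¹) * g = x by group] at h7)
      (fun x hx hxa hxX => nm_cj_iff.2 (h5 _ (by simpa only [_root_.inv_inv] using hT.conj_mem x hx g)
        (by rw [mul_smul, mul_smul, inv_smul_smul, hxa, inv_inv]) (by rw [inv_inv]; exact nm_cj hxX)))
    rwa [cj_le_iff, inv_inv] at h6
  rig2 h1 x hx h2 h3 := by
    obtain ⟨y, hy, h4⟩ := h.rig2 (fun i => ⟨(spl_cj_iff g).1 (h1 i).1, (nS_cj g _ _).symm.trans (h1 i).2⟩)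
      (g⁻¹ * x * g) (by rw [mul_smul, mul_smul, hx, inv_smul_smul]) (nm_cj_iff.1 h2) fun i => nm_cj_iff.1 (h3 i)
    refine ⟨g * y * g⁻¹, conj_mem_cj g hy, fun P hP => ?_⟩
    rw [← cj_cj_inv g P, nm_cj_iff, show g⁻¹ * (g * y * g⁻¹ * x) * g = y * (g⁻¹ * x * g) by group]
    exact h4 _ (mem_Cjs_cj.1 hP)

theorem Fold.conj {I' : Type*} {S : US G p I} {F : FS G p I'} {κ : I → I'} (h : Fold S F κ a) (g : G) :
    Fold (S.conj g) (F.conj g) κ (g • a) where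
  surj := h.surj
  D_eq J := (congrArg (cj g) (h.D_eq J)).trans (cj_sup _ _ _)
  inf := (cj_inf _ _ _).symm.trans (congrArg (cj g) h.inf)
  nX x hx h1 := nm_cj_iff.2 (h.nX _ (by rw [mul_smul, mul_smul, hx, inv_smul_smul]) (nm_cj_iff.1 h1))
  fib i k h1 := by
    obtain ⟨x, hx, h2⟩ := h.fib i k h1
    refine ⟨g * x * g⁻¹, conj_mem_cj g hx, ?_⟩
    show cj _ (cj g (S.D {i})) = cj g (S.D {k})
    rw [← cj_mul, inv_mul_cancel_right, cj_mul, h2]

theorem quasi_equiv {A B : Type*} [Group A] [Group B] (e : A ≃* B) (h : Cfsg.IsQuasisimple A) :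
    Cfsg.IsQuasisimple B := by
  have h1 := h.1
  have h2 := h.2
  refine ⟨Group.IsPerfect.ofSurjective (f := e.toMonoidHom) e.surjective, ?_⟩
  exact (QuotientGroup.congr (Subgroup.center A) (Subgroup.center B) e (by
    ext x
    obtain ⟨y, rfl⟩ := e.surjective x
    refine (Subgroup.mem_map_iff_mem (f := (e : A →* B)) e.injective).trans ?_
    rw [Subgroup.mem_center_iff, Subgroup.mem_center_iff]
    refine ⟨fun h3 b => ?_, fun h3 a => e.injective (by rw [map_mul, map_mul]; exact h3 _)⟩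
    obtain ⟨a, rfl⟩ := e.surjective b
    rw [← map_mul, ← map_mul, h3])).symm.isSimpleGroup

/-- conjugation -/
def Comps.conj {S : US G p I} {ι : Type*} (C : Comps S ι) (g : G) : Comps (S.conj g) ι where
  c := C.c
  E l := cj g (C.E l)
  surj := C.surj
  quasi l := quasi_equiv ((C.E l).equivMapOfInjective _ (MulAut.conj g).injective) (C.quasi l)
  comm l l' h := by
    rintro _ ⟨x, hx, rfl⟩ _ ⟨y, hy, rfl⟩
    rw [← map_mul, ← map_mul, C.comm l l' h x hx y hy]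
  top := (congrArg (cj g) C.top).trans (cj_iSup _ _)
  D_eq A := (congrArg (cj g) (C.D_eq A)).trans (by simp only [cj_sup, cj_iSup]; rfl)
  X_eq := (congrArg (cj g) C.X_eq).trans (by simp only [cj_iSup, cj_inf]; rfl)
  X_ne l h := C.X_ne l (cj_eq_bot.1 ((cj_inf g _ _).trans h))
  perm h h1 l := by
    obtain ⟨l', h2⟩ := C.perm _ (nm_cj_iff.1 h1) l
    exact ⟨l', by rw [← h2, ← cj_mul, ← cj_mul, show g * (g⁻¹ * h * g) = h * g by group]⟩

end At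

namespace Amb

variable {Ω : Type*} [MulAction G Ω] {T : Subgroup G} {m : ℕ} (A : Amb Ω T p m)

include A

theorem finite [Finite G] : Finite Ω := by
  rcases isEmpty_or_nonempty Ω with h | ⟨⟨a⟩⟩
  · infer_instance
  · exact Finite.of_surjective (fun g : G => g • a) fun b => by
      obtain ⟨t, -, ht⟩ := A.trans a b
      exact ⟨t, ht⟩

theorem eq_bot_of_fix {N : Subgroup G} (h : ∀ b : Ω, N ≤ stabilizer G b) : N = ⊥ :=
  (Subgroup.eq_bot_iff_forall _).2 fun x hx => A.faith x fun b => h b hx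

/-- a non-trivial normal subgroup of `G_a` has normaliser `G_a` -/
theorem smul_eq_of_nm {a : Ω} {N : Subgroup G} (h0 : N ≠ ⊥) (h1 : N ≤ stabilizer G a)
    (h2 : ∀ h : G, h • a = a → cj h N = N) {g : G} (hg : cj g N = N) : g • a = a := by
  by_contra h3
  have h4 := (A.max a).2 (Subgroup.normalizer (N : Set G))
    (lt_of_le_of_ne (fun h hh => nm_iff.2 (h2 h hh)) fun h5 => h3 (by
      have h6 := nm_iff.2 hg
      rwa [← h5] at h6))
  refine h0 (A.eq_bot_of_fix fun b => ?_)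
  obtain ⟨t, -, rfl⟩ := A.trans a b
  exact le_stab_smul (nm_iff.1 (h4 ▸ Subgroup.mem_top t)) h1

/-- `O_p(T_a) = 1` -/
theorem eq_bot_of_nm {a : Ω} {P : Subgroup G} (hP : IsPGroup p P) (h1 : P ≤ T) (h2 : P ≤ stabilizer G a)
    (h3 : ∀ g ∈ T, g • a = a → cj g P = P) : P = ⊥ :=
  A.eq_bot_of_fix fun b => by
    obtain ⟨t, ht, h4, h5⟩ := A.syl a b P hP h1 h2
    rwa [h3 t ht h4] at h5

/-- the group is not doubly transitive -/
theorem not_trans {a : Ω} {P : Subgroup G} (hP : IsPGroup p P) (h1 : P ≤ T) (h2 : P ≤ stabilizer G a)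
    (h : ∀ b c : Ω, b ≠ a → c ≠ a → P ≤ stabilizer G b → P ≤ stabilizer G c → ∃ g : G, g • a = a ∧ g • b = c) :
    False := by
  obtain ⟨b, c, hb, hc, h3⟩ := A.not2 a
  obtain ⟨t, -, h4, h5⟩ := A.syl a b P hP h1 h2
  obtain ⟨s, -, h6, h7⟩ := A.syl a c P hP h1 h2
  obtain ⟨g, h8, h9⟩ := h (t⁻¹ • b) (s⁻¹ • c) (fun h => hb (by rw [← h4, ← h, smul_inv_smul]))
    (fun h => hc (by rw [← h6, ← h, smul_inv_smul])) (cj_le_stab'.1 h5) (cj_le_stab'.1 h7)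
  refine h3 (s * g * t⁻¹) ?_ ?_
  · rw [mul_smul, mul_smul, inv_smul_eq_iff.2 h4.symm, h8, h6]
  · rw [mul_smul, mul_smul, h9, smul_inv_smul]

variable [Finite G]

/-- a common Sylow subgroup of `T_a` and `T_b` -/
theorem exists_S (a b : Ω) {P : Subgroup G} (hP : IsPGroup p P) (h1 : P ≤ T) (h2 : P ≤ stabilizer G a)
    (h3 : P ≤ stabilizer G b) :
    ∃ R, P ≤ R ∧ MaxP p (T ⊓ stabilizer G a) R ∧ MaxP p (T ⊓ stabilizer G b) R := by
  have := Fact.mk A.prime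
  have := A.nrm
  obtain ⟨R, h4, hR⟩ := exists_maxP (L := T ⊓ stabilizer G a ⊓ stabilizer G b) hP (le_inf (le_inf h1 h2) h3)
  have key : ∀ x y : Ω, MaxP p (T ⊓ stabilizer G x ⊓ stabilizer G y) R → MaxP p (T ⊓ stabilizer G x) R := by
    intro x y h
    obtain ⟨R', -, hR'⟩ := exists_maxP (p := p) (L := T ⊓ stabilizer G x) (P := ⊥) IsPGroup.of_bot bot_le
    obtain ⟨t, ht, h5, h6⟩ := A.syl x y R' hR'.isP (hR'.le.trans inf_le_left) (hR'.le.trans inf_le_right)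
    refine hR'.of_card h.isP (h.le.trans inf_le_left) ?_
    rw [← card_cj t R']
    exact h.card_le (isPGroup_cj hR'.isP t) (le_inf ((cj_mono t hR'.le).trans (cj_of_mem (H := T ⊓ stabilizer G x) ⟨ht, h5⟩).le) h6)
  exact ⟨R, h4, key a b hR, key b a (by rwa [inf_right_comm])⟩

/-- orbits of `G_{ay}` on `z` and of `G_{az}` on `y` -/
theorem ncard_Orb_eq {a y z : Ω} (hy : y ≠ a) (hz : z ≠ a) :
    (Orb (stabilizer G a ⊓ stabilizer G y) z).ncard = (Orb (stabilizer G a ⊓ stabilizer G z) y).ncard := by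
  have h1 := ncard_Orb_mul (stabilizer G a ⊓ stabilizer G y) z
  have h2 := ncard_Orb_mul (stabilizer G a ⊓ stabilizer G z) y
  rw [A.card2 a y hy.symm] at h1
  rw [A.card2 a z hz.symm, inf_right_comm] at h2
  exact Nat.eq_of_mul_eq_mul_right Nat.card_pos (h1.trans h2.symm)

end Amb

namespace PS.At

variable {Ω : Type*} [MulAction G Ω] {T : Subgroup G} {m : ℕ} {a : Ω} {S : PS G p I} (h : S.At T a)

include h

theorem D_le (J : Set I) : S.D J ≤ T ⊓ stabilizer G a := (S.le_univ J).trans (le_inf h.leT h.fix)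

theorem X_le : S.X ≤ T ⊓ stabilizer G a := (S.X_le Set.univ).trans (h.D_le _)

theorem D_fix (J : Set I) : S.D J ≤ stabilizer G a := (h.D_le J).trans inf_le_right

theorem X_fix : S.X ≤ stabilizer G a := h.X_le.trans inf_le_right

theorem X_T : S.X ≤ T := h.X_le.trans inf_le_left

variable [Finite G] [hp : Fact p.Prime]

theorem inf_mem {R : Subgroup G} (hR : MaxP p (T ⊓ stabilizer G a) R) : R ⊓ S.D Set.univ ∈ S.Syl Set.univ :=
  S.maxP.mem_Cjs (hR.inf (h.D_le _) fun g hg => h.nrmH g hg.2)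

theorem inf_eq {R P : Subgroup G} (hR : MaxP p (T ⊓ stabilizer G a) R) {J : Set I} (hP : P ∈ S.Syl J) (h1 : P ≤ R) :
    R ⊓ S.D Set.univ = P :=
  (S.maxP_Syl hP).max _ (hR.isP.to_le inf_le_left) inf_le_right (le_inf h1 ((S.Syl_le hP).trans (S.le_univ J)))

/-- a `p`-subgroup of `T_a` which contains a Sylow subgroup of `D univ` normalises it -/
theorem nm_of_le {R P : Subgroup G} (hR : IsPGroup p R) (h0 : R ≤ stabilizer G a) {J : Set I} (hP : P ∈ S.Syl J)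
    (h1 : P ≤ R) {g : G} (hg : g ∈ R) : cj g P = P := by
  have h2 : R ⊓ S.D Set.univ = P :=
    (S.maxP_Syl hP).max _ (hR.to_le inf_le_left) inf_le_right (le_inf h1 ((S.Syl_le hP).trans (S.le_univ J)))
  rw [← h2]
  exact nm_inf (cj_of_mem hg) (h.nrmH g (h0 hg))

theorem cj_mem_Syl {g : G} (hg : g • a = a) {P : Subgroup G} (hP : P ∈ S.Syl Set.univ) : cj g P ∈ S.Syl Set.univ :=
  S.maxP.mem_Cjs (h.nrmH g hg ▸ (S.maxP_Syl hP).cj g)

/-- the formula for `m` -/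
theorem m_eq (A : Amb Ω T p m) {b : Ω} (hb : b ≠ a) (hX : S.X ≤ stabilizer G b) :
    S.W (S.typ (stabilizer G b)) *
      Nat.card ↥(stabilizer G a ⊓ stabilizer G b ⊓ Subgroup.normalizer (S.X : Set G)) = m := by
  rw [← A.card2 a b hb.symm, ← nS_mul (stabilizer G a ⊓ stabilizer G b) S.X]
  congr 1
  show Set.ncard _ = Set.ncard _
  congr 1
  ext P
  constructor
  · rintro ⟨e, he, rfl⟩
    exact ⟨e, ⟨h.D_fix _ he, (S.ov' hX).1 he⟩, rfl⟩
  · rintro ⟨k, hk, rfl⟩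
    exact S.mem_Syl_typ hX (h.cj_mem_Syl hk.1 (S.X_mem _)) ((cj_mono k hX).trans (cj_of_mem hk.2).le)

/-- every point is fixed by a Sylow subgroup of `D univ` -/
theorem exists_Syl (A : Amb Ω T p m) {b : Ω} {K : Subgroup G} (hK : IsPGroup p K) (h1 : K ≤ S.D Set.univ)
    (h2 : K ≤ stabilizer G b) : ∃ P ∈ S.Syl Set.univ, K ≤ P ∧ P ≤ stabilizer G b := by
  obtain ⟨R, h3, h4, h5⟩ := A.exists_S a b hK (h1.trans h.leT) (h1.trans h.fix) h2
  exact ⟨_, h.inf_mem h4, le_inf h3 h1, inf_le_left.trans (h5.le.trans inf_le_right)⟩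

theorem V_univ (A : Amb Ω T p m) : S.V Set.univ = ⊥ :=
  A.eq_bot_of_fix fun b => by
    obtain ⟨P, hP, -, h1⟩ := h.exists_Syl A (b := b) (K := ⊥) IsPGroup.of_bot bot_le bot_le
    exact (rad_le hP).trans h1

omit h in
theorem _root_.Cfsg.Agent.TH.Own.PS.V_ne_bot (S : PS G p I) {J : Set I} (hJ : J ≠ Set.univ) : S.V J ≠ ⊥ := fun h =>
  hJ (Set.eq_univ_of_univ_subset (S.V_le_iff (h ▸ bot_le)))

omit h in
theorem _root_.Cfsg.Agent.TH.Own.PS.X_ne_bot (S : PS G p I) : S.X ≠ ⊥ := by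
  obtain ⟨i, -⟩ := S.endn
  rw [← S.V_empty]
  exact S.V_ne_bot fun h => Set.notMem_empty i (h ▸ Set.mem_univ i)

/-- a normal `p`-subgroup of `D univ` is trivial -/
theorem eq_bot_of_nm (A : Amb Ω T p m) {P : Subgroup G} (hP : IsPGroup p P) (h1 : P ≤ S.D Set.univ)
    (h2 : ∀ g ∈ S.D Set.univ, cj g P = P) : P = ⊥ :=
  le_bot_iff.1 (h.V_univ A ▸ le_rad (S.maxP.le_of_nm hP h1 fun x hx => h2 x (S.X_le _ hx)) h2)

theorem smul_eq (A : Amb Ω T p m) {g : G} (hg : cj g (S.D Set.univ) = S.D Set.univ) : g • a = a :=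
  A.smul_eq_of_nm (fun h1 => S.X_ne_bot (le_bot_iff.1 (h1 ▸ S.X_le _))) h.fix h.nrmH hg

/-- an element which fixes all Sylow subgroups centralises `D univ` -/
theorem comm_of_fix (A : Amb Ω T p m) {g : G} (hg : ∀ P ∈ S.Syl Set.univ, cj g P = P) :
    ∀ e ∈ S.D Set.univ, g * e = e * g := by
  have h1 : S.D Set.univ ≤ Subgroup.centralizer {g} := S.gen _ _ fun P hP x hx => by
    have h2 : g * x * g⁻¹ * x⁻¹ ∈ P := mul_mem (nm_conj (hg P hP) hx) (inv_mem hx)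
    have h3 : g * x * g⁻¹ * x⁻¹ ∈ S.V Set.univ := mem_rad.2 fun R hR => by
      obtain ⟨n, hn⟩ := exists_pow_of_isP (S.Syl_isP hP) h2
      refine (S.maxP_Syl hR).mem_of_nm hn (S.Syl_le hP h2) ?_
      rw [cj_mul, cj_mul, cj_mul, nm_inv (hg _ (cj_mem_Cjs (inv_mem (S.Syl_le hP hx)) hR)), cj_cj_inv, hg R hR]
    rw [h.V_univ A, Subgroup.mem_bot, mul_inv_eq_one, mul_inv_eq_iff_eq_mul] at h3
    exact Subgroup.mem_centralizer_singleton_iff.2 h3.symm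
  exact fun e he => (Subgroup.mem_centralizer_singleton_iff.1 (h1 he)).symm

end PS.At

end Cfsg.Agent.TH.Own
end

-- part: TH/Own/SpAbs
section
/-!
# S3541, `BoxOwn`: a group with `q + 1` Sylow subgroups acting on a `p`-group which is the union of their
centralisers (helper74)
-/

set_option autoImplicit false
set_option linter.unusedSectionVars false
set_option linter.unusedVariables false

namespace Cfsg.Agent.TH.Own

open MulAction

/-- a set partitioned into pieces of the same size -/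
theorem ncard_eq_mul {α β : Type*} {A : Set α} {B : Set β} (hA : A.Finite) (hB : B.Finite) (f : β → Set α) {c : ℕ}
    (h1 : ∀ x ∈ A, ∃ y ∈ B, x ∈ f y) (h2 : ∀ y ∈ B, f y ⊆ A) (h3 : ∀ y ∈ B, ∀ y' ∈ B, ∀ x ∈ f y, x ∈ f y' → y = y')
    (h4 : ∀ y ∈ B, (f y).ncard = c) : A.ncard = B.ncard * c := by
  have := hB.fintype
  have : Finite A := hA
  let φ : (Σ y : B, f y) → A := fun x => ⟨x.2, h2 _ x.1.2 x.2.2⟩
  have hφ : Function.Bijective φ := by
    constructor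
    · rintro ⟨⟨y, hy⟩, x, hx⟩ ⟨⟨y', hy'⟩, x', hx'⟩ h
      have h5 : x = x' := congrArg Subtype.val h
      subst h5
      have h6 : y = y' := h3 y hy y' hy' x hx hx'
      subst h6
      rfl
    · rintro ⟨x, hx⟩
      obtain ⟨y, hy, h5⟩ := h1 x hx
      exact ⟨⟨⟨y, hy⟩, x, h5⟩, rfl⟩
  have : ∀ y : B, Finite (f y) := fun y => hA.subset (h2 _ y.2)
  rw [← Nat.card_coe_set_eq, ← Nat.card_eq_of_bijective φ hφ, Nat.card_sigma,
    Finset.sum_congr rfl fun (y : B) _ => (Nat.card_coe_set_eq (f y)).trans (h4 _ y.2), Finset.sum_const, Finset.card_univ,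
    smul_eq_mul, ← Nat.card_eq_fintype_card, Nat.card_coe_set_eq]

theorem arith_val {p a b s : ℕ} (hp : p.Prime) (hb : 0 < b) (hs : 0 < s) (h : p ^ a + s = s * p ^ b + p ^ b) (c : ℕ) :
    p ^ c ∣ s ↔ c ≤ b := by
  have h1 : 1 < p ^ b := Nat.one_lt_pow hb.ne' hp.one_lt
  have h2 : b < a := (Nat.pow_lt_pow_iff_right hp.one_lt).1 (by nlinarith)
  constructor
  · intro h3
    by_contra h4
    have h5 : p ^ (b + 1) ∣ s := (pow_dvd_pow p (by omega)).trans h3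
    have h6 : p ^ (b + 1) ∣ s * p ^ b + p ^ b := h ▸ dvd_add (pow_dvd_pow p h2) h5
    have h7 := (Nat.dvd_add_right (h5.mul_right _)).1 h6
    have := (Nat.pow_dvd_pow_iff_le_right hp.one_lt).1 h7
    omega
  · intro h3
    have h4 : p ^ c ∣ p ^ b := pow_dvd_pow p h3
    have h5 : p ^ c ∣ p ^ a + s := h ▸ dvd_add (h4.mul_left _) h4
    exact (Nat.dvd_add_right (pow_dvd_pow p (by omega))).1 h5

theorem arith_split {p a b n : ℕ} (hp : p.Prime) (hb : 0 < b) (h : p ^ a + p ^ n = p ^ n * p ^ b + p ^ b) :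
    b = n ∧ p ^ a = p ^ n * p ^ n := by
  have h0 : 0 < p ^ n := pow_pos hp.pos n
  have h1 := (arith_val hp hb h0 h n).1 dvd_rfl
  have h2 := (Nat.pow_dvd_pow_iff_le_right hp.one_lt).1 ((arith_val hp hb h0 h b).2 le_rfl)
  have h3 : b = n := le_antisymm h2 h1
  subst h3
  exact ⟨rfl, by omega⟩

variable {G : Type*} [Group G] {p : ℕ}

theorem Spl.of_mem {D X P : Subgroup G} (h : Spl D X) (hP : P ∈ Cjs D X) : Spl D P := by
  obtain ⟨e, he, rfl⟩ := hP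
  have h1 := h.cj e
  rwa [cj_of_mem he] at h1

/-- two conjugates generate -/
theorem Spl.le_of_two {D X P P' K : Subgroup G} (h : Spl D X) (gen : ∀ K, (∀ P ∈ Cjs D X, P ≤ K) → D ≤ K)
    (hP : P ∈ Cjs D X) (hP' : P' ∈ Cjs D X) (hne : P ≠ P') (h1 : P ≤ K) (h2 : P' ≤ K) : D ≤ K := by
  refine gen K fun R hR => ?_
  by_cases h3 : R = P
  · rwa [h3]
  · rw [← Cjs_eq_of_mem hP] at hP' hR
    obtain ⟨x, hx, rfl⟩ := h.of_mem hP P' hP' hne.symm R hR h3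
    exact (cj_mono x h2).trans (cj_of_mem (h1 hx)).le

section Abs

variable {D X : Subgroup G} {N : Type*} [Group N] [MulDistribMulAction D N]

variable (D N) in
/-- the centraliser in `N` of `P` -/
def CC (P : Subgroup G) : Subgroup N where
  carrier := {w | ∀ x : D, (x : G) ∈ P → x • w = w}
  one_mem' x _ := smul_one x
  mul_mem' {a b} ha hb x hx := by rw [smul_mul', ha x hx, hb x hx]
  inv_mem' {a} ha x hx := by rw [smul_inv', ha x hx]

theorem smul_mem_CC {P : Subgroup G} {w : N} (hw : w ∈ CC D N P) (e : D) : e • w ∈ CC D N (cj (e : G) P) := by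
  intro x hx
  have h1 := hw (e⁻¹ * x * e) (mem_cj.1 hx)
  rwa [mul_smul, mul_smul, inv_smul_eq_iff] at h1

theorem smul_eq_of_CC {w : N} (hw : w ∈ CC D N D) (e : D) : e • w = w := hw e e.2

theorem CC_D_le (P : Subgroup G) : CC D N D ≤ CC D N P := fun _ hw x _ => hw x x.2

theorem smul_mem_CC_D {w : N} (e : D) : e • w ∈ CC D N D ↔ w ∈ CC D N D :=
  ⟨fun h => by
    have h1 := smul_eq_of_CC h e⁻¹
    rw [inv_smul_smul] at h1
    rwa [h1], fun h => by rwa [smul_eq_of_CC h]⟩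

variable (p D X N) in
/-- the hypotheses -/
structure Sp : Prop where
  mx : MaxP p D X
  spl : Spl D X
  gen : ∀ K, (∀ P ∈ Cjs D X, P ≤ K) → D ≤ K
  isP : IsPGroup p N
  cov : ∀ w : N, ∃ P ∈ Cjs D X, w ∈ CC D N P
  act : ∃ w ∈ CC D N X, w ∉ CC D N D

namespace Sp

variable [Finite G] [Finite N] [hp : Fact p.Prime] (h : Sp p D X N)

include h

theorem of_mem {P : Subgroup G} (hP : P ∈ Cjs D X) : Sp p D P N where
  mx := h.mx.of_mem_Cjs hP
  spl := h.spl.of_mem hP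
  gen := by rw [Cjs_eq_of_mem hP]; exact h.gen
  isP := h.isP
  cov := by rw [Cjs_eq_of_mem hP]; exact h.cov
  act := by
    obtain ⟨e, he, rfl⟩ := hP
    obtain ⟨w, h1, h2⟩ := h.act
    exact ⟨(⟨e, he⟩ : D) • w, smul_mem_CC h1 ⟨e, he⟩, fun h3 => h2 ((smul_mem_CC_D _).1 h3)⟩

theorem eq_of_mem {P P' : Subgroup G} (hP : P ∈ Cjs D X) (hP' : P' ∈ Cjs D X) {w : N} (h1 : w ∈ CC D N P)
    (h2 : w ∈ CC D N P') (h3 : w ∉ CC D N D) : P = P' := by
  by_contra hne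
  have h4 := h.spl.le_of_two h.gen (K := (stabilizer D w).map D.subtype) hP hP' hne
    (fun x hx => ⟨⟨x, le_of_mem_Cjs h.mx.le hP hx⟩, h1 _ hx, rfl⟩)
    (fun x hx => ⟨⟨x, le_of_mem_Cjs h.mx.le hP' hx⟩, h2 _ hx, rfl⟩)
  refine h3 fun x hx => ?_
  obtain ⟨y, hy, hy'⟩ := h4 hx
  rw [← Subtype.ext hy']
  exact hy

theorem exists_ne : ∃ P ∈ Cjs D X, P ≠ X := by
  by_contra h1
  push Not at h1
  obtain ⟨w, h2, h3⟩ := h.act
  exact h3 fun x hx => h2 x (h.gen X (fun P hP => (h1 P hP).le) hx)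

theorem exists_pow : ∃ n, nS D X = p ^ n + 1 := by
  obtain ⟨P, hP, hne⟩ := h.exists_ne
  exact h.spl.exists_pow h.mx.isP h.mx.le hP hne

theorem count {M : Subgroup N} (hM : ∀ (e : D), ∀ w ∈ M, e • w ∈ M) (h0 : CC D N D ≤ M) :
    Nat.card M + nS D X * Nat.card (CC D N D) = nS D X * Nat.card ↥(M ⊓ CC D N X) + Nat.card (CC D N D) := by
  have h1 : ((M : Set N) \ CC D N D).ncard = (Cjs D X).ncard * (((M ⊓ CC D N X : Subgroup N) : Set N) \ CC D N D).ncard :=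
    ncard_eq_mul (Set.toFinite _) (Set.toFinite _) (fun P => ((M ⊓ CC D N P : Subgroup N) : Set N) \ CC D N D)
      (fun w hw => by
        obtain ⟨P, hP, h2⟩ := h.cov w
        exact ⟨P, hP, ⟨hw.1, h2⟩, hw.2⟩)
      (fun P _ w hw => ⟨hw.1.1, hw.2⟩)
      (fun P hP P' hP' w hw hw' => h.eq_of_mem hP hP' hw.1.2 hw'.1.2 hw.2)
      (by
        rintro _ ⟨e, he, rfl⟩
        rw [← Set.ncard_image_of_injective (((M ⊓ CC D N X : Subgroup N) : Set N) \ CC D N D)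
          (MulAction.injective (⟨e, he⟩ : D))]
        congr 1
        ext w
        constructor
        · rintro ⟨⟨h2, h3⟩, h4⟩
          refine ⟨(⟨e, he⟩ : D)⁻¹ • w, ⟨⟨hM _ _ h2, ?_⟩, fun h5 => h4 ((smul_mem_CC_D _).1 h5)⟩, smul_inv_smul _ _⟩
          have h5 := smul_mem_CC h3 (⟨e, he⟩ : D)⁻¹
          rwa [Subgroup.coe_inv, cj_inv_cj] at h5
        · rintro ⟨v, ⟨⟨h2, h3⟩, h4⟩, rfl⟩
          exact ⟨⟨hM _ _ h2, smul_mem_CC h3 ⟨e, he⟩⟩, fun h5 => h4 ((smul_mem_CC_D _).1 h5)⟩)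
  have h2 := Set.ncard_sdiff_add_ncard_of_subset (s := (CC D N D : Set N)) (t := (M : Set N)) h0
  have h3 := Set.ncard_sdiff_add_ncard_of_subset (s := (CC D N D : Set N))
    (t := ((M ⊓ CC D N X : Subgroup N) : Set N)) (le_inf h0 (CC_D_le X))
  have e : ∀ K : Subgroup N, Nat.card K = (K : Set N).ncard := fun K => Nat.card_coe_set_eq (K : Set N)
  rw [e, e, e, ← h2, ← h3, h1, nS]
  ring

theorem card_of_inv {M : Subgroup N} (hM : ∀ (e : D), ∀ w ∈ M, e • w ∈ M) (h0 : CC D N D ≤ M) (h1 : ¬ M ≤ CC D N D)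
    {n : ℕ} (hn : nS D X = p ^ n + 1) : Nat.card ↥(M ⊓ CC D N X) = p ^ n * Nat.card (CC D N D) ∧
      Nat.card M = p ^ n * p ^ n * Nat.card (CC D N D) := by
  have h2 := h.count hM h0
  obtain ⟨a, ha⟩ := relIndex_eq_pow (A := CC D N D) (h.isP.to_subgroup M)
  obtain ⟨b, hb⟩ := relIndex_eq_pow (A := CC D N D) (h.isP.to_subgroup (M ⊓ CC D N X))
  have h3 := card_mul_relIndex h0
  have h4 := card_mul_relIndex (le_inf h0 (CC_D_le X) : CC D N D ≤ M ⊓ CC D N X)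
  rw [ha] at h3
  rw [hb] at h4
  have h5 : 0 < Nat.card (CC D N D) := Nat.card_pos
  rw [← h3, ← h4, hn] at h2
  have h6 : p ^ a + p ^ n = p ^ n * p ^ b + p ^ b := Nat.eq_of_mul_eq_mul_left h5 (by linarith only [h2])
  have h7 : 0 < b := Nat.pos_of_ne_zero (by
    rintro rfl
    have h8 : p ^ a = 1 := by rw [pow_zero] at h6; omega
    rw [h8, Subgroup.relIndex_eq_one] at ha
    exact h1 ha)
  obtain ⟨rfl, h8⟩ := arith_split hp.1 h7 h6
  rw [← h3, ← h4, h8]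
  exact ⟨mul_comm _ _, mul_comm _ _⟩

theorem card_top {n : ℕ} (hn : nS D X = p ^ n + 1) : Nat.card (CC D N X) = p ^ n * Nat.card (CC D N D) ∧
    Nat.card N = p ^ n * p ^ n * Nat.card (CC D N D) := by
  obtain ⟨w, h1, h2⟩ := h.act
  have h3 := h.card_of_inv (M := ⊤) (fun _ _ _ => trivial) le_top (fun h3 => h2 (h3 trivial)) hn
  rwa [top_inf_eq, Subgroup.card_top] at h3

/-- irreducibility -/
theorem eq_top {M : Subgroup N} (hM : ∀ (e : D), ∀ w ∈ M, e • w ∈ M) (h0 : CC D N D ≤ M) (h1 : ¬ M ≤ CC D N D) :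
    M = ⊤ := by
  obtain ⟨n, hn⟩ := h.exists_pow
  exact Subgroup.eq_top_of_card_eq _ ((h.card_of_inv hM h0 h1 hn).2.trans (h.card_top hn).2.symm)

theorem normal0 : (CC D N D).Normal := by
  obtain ⟨w₀, -, h2⟩ := h.act
  obtain ⟨w, -, h3, h4⟩ := exists_nm_of_lt (V := CC D N D) (Q := ⊤) (h.isP.to_subgroup ⊤) le_top
    fun h5 => h2 (h5 trivial)
  refine Subgroup.normalizer_eq_top_iff.1 (h.eq_top (fun e v hv => nm_iff.2 (nm_of_conj fun x hx => ?_))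
    Subgroup.le_normalizer fun h5 => h3 (h5 (nm_iff.2 h4)))
  have h5 := (smul_mem_CC_D e).2 (nm_conj (nm_iff.1 hv) hx)
  rwa [smul_mul', smul_mul', smul_inv', smul_eq_of_CC hx] at h5

theorem comm_mem (a b : N) : a * b * a⁻¹ * b⁻¹ ∈ CC D N D := by
  have := h.normal0
  obtain ⟨w₀, -, h2⟩ := h.act
  have : Nontrivial (N ⧸ CC D N D) := ⟨⟨w₀, 1, fun h3 => h2 ((QuotientGroup.eq_one_iff w₀).1 h3)⟩⟩
  have h3 := (h.isP.to_quotient (CC D N D)).bot_lt_center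
  have h4 : ∀ v : N, v ∈ (Subgroup.center (N ⧸ CC D N D)).comap (QuotientGroup.mk' _) ↔
      ∀ y : N, v * y * v⁻¹ * y⁻¹ ∈ CC D N D := fun v => by
    rw [Subgroup.mem_comap, Subgroup.mem_center_iff]
    constructor
    · intro h5 y
      rw [← QuotientGroup.eq_one_iff, QuotientGroup.mk_mul, QuotientGroup.mk_mul, QuotientGroup.mk_mul,
        QuotientGroup.mk_inv, QuotientGroup.mk_inv, ← show (y : N ⧸ CC D N D) * v = v * y from h5 y]
      group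
    · intro h5 y
      induction y using QuotientGroup.induction_on with
      | _ y =>
      have h6 := (QuotientGroup.eq_one_iff _).2 (h5 y)
      rw [QuotientGroup.mk_mul, QuotientGroup.mk_mul, QuotientGroup.mk_mul, QuotientGroup.mk_inv,
        QuotientGroup.mk_inv, mul_inv_eq_one, mul_inv_eq_iff_eq_mul] at h6
      exact h6.symm
  have h5 := h.eq_top (M := (Subgroup.center (N ⧸ CC D N D)).comap (QuotientGroup.mk' _))
    (fun e v hv => (h4 _).2 fun y => by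
      have h6 := (smul_mem_CC_D e).2 ((h4 v).1 hv (e⁻¹ • y))
      rwa [smul_mul', smul_mul', smul_mul', smul_inv', smul_inv', smul_inv_smul] at h6)
    (fun v hv => (h4 _).2 fun y => by
      have h6 := mul_mem hv (h.normal0.conj_mem _ (inv_mem hv) y)
      rwa [← mul_assoc, ← mul_assoc] at h6)
    (fun h6 => by
      obtain ⟨x, hx, hx'⟩ := SetLike.exists_of_lt h3
      induction x using QuotientGroup.induction_on with
      | _ x => exact hx' ((QuotientGroup.eq_one_iff x).2 (h6 hx)))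
  exact (h4 a).1 (h5 ▸ trivial) b

theorem normal_of_le {M : Subgroup N} (h0 : CC D N D ≤ M) : M.Normal := ⟨fun x hx g => by
  have h1 := mul_mem (h0 (h.comm_mem g x)) hx
  rwa [inv_mul_cancel_right] at h1⟩

theorem normalC (P : Subgroup G) : (CC D N P).Normal := h.normal_of_le (CC_D_le P)

/-- `N` is the product of two components -/
theorem exists_mul {P : Subgroup G} (hP : P ∈ Cjs D X) (hne : P ≠ X) (y : N) :
    ∃ z ∈ CC D N X, ∃ y' ∈ CC D N P, y = z * y' := by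
  obtain ⟨n, hn⟩ := h.exists_pow
  have := h.normalC P
  have h1 : CC D N X ⊓ CC D N P = CC D N D := le_antisymm (fun w hw => by_contra fun h2 =>
    hne (h.eq_of_mem hP (self_mem_Cjs D X) hw.2 hw.1 h2)) (le_inf (CC_D_le _) (CC_D_le _))
  have h2 := (h.card_top hn).1
  have h3 := ((h.of_mem hP).card_top (n := n) (by rw [nS, Cjs_eq_of_mem hP]; exact hn)).1
  have h4 := card_mul_relIndex (inf_le_left : CC D N X ⊓ CC D N P ≤ CC D N X)
  have h5 := card_mul_relIndex (le_sup_right : CC D N P ≤ CC D N X ⊔ CC D N P)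
  rw [Subgroup.relIndex_sup_right] at h5
  rw [Subgroup.inf_relIndex_left, h1, h2] at h4
  have h6 : (CC D N P).relIndex (CC D N X) = p ^ n := Nat.eq_of_mul_eq_mul_left Nat.card_pos (h4.trans (mul_comm _ _))
  have h7 : CC D N X ⊔ CC D N P = ⊤ := Subgroup.eq_top_of_card_eq _ (by rw [← h5, h6, h3, (h.card_top hn).2]; ring)
  exact mem_sup_nm (fun x _ => cj_normal x _) (h7 ▸ trivial)

theorem cj_eq_of_smul {P : Subgroup G} (hP : P ∈ Cjs D X) {e : D} {y : N} (h1 : y ∈ CC D N P) (h2 : y ∉ CC D N D)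
    {P' : Subgroup G} (hP' : P' ∈ Cjs D X) (h3 : e • y ∈ CC D N P') : cj (e : G) P = P' :=
  h.eq_of_mem (cj_mem_Cjs e.2 hP) hP' (smul_mem_CC h1 e) h3 fun h4 => h2 ((smul_mem_CC_D e).1 h4)

/-- an element of `X` which fixes a second component is trivial on `N / N0` -/
theorem triv_of_fix {x : D} (hx : (x : G) ∈ X) {P : Subgroup G} (hP : P ∈ Cjs D X) (hne : P ≠ X)
    (hxP : cj (x : G) P = P) (y : N) : y⁻¹ * x • y ∈ CC D N D := by
  have hn0 := h.normal0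
  -- a fixed coset in `CC P`
  obtain ⟨y₀, h1, h2, h3⟩ : ∃ y₀ ∈ CC D N P, y₀ ∉ CC D N D ∧ y₀⁻¹ * x • y₀ ∈ CC D N D := by
    let σ : N →* N := MulDistribMulAction.toMonoidHom N x
    obtain ⟨k, hk⟩ := exists_pow_of_isP h.mx.isP hx
    have hk' : x ^ p ^ k = 1 := Subtype.ext hk
    let act : MulAction D (N ⧸ CC D N D) :=
      { smul := fun e => Quotient.map' (fun w => e • w) fun a b hab => by
          rw [QuotientGroup.leftRel_apply] at hab ⊢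
          rw [← smul_inv', ← smul_mul']
          exact (smul_mem_CC_D e).2 hab
        one_smul := fun a => Quotient.inductionOn' a fun a => congrArg Quotient.mk'' (one_smul D a)
        mul_smul := fun e f a => Quotient.inductionOn' a fun a => congrArg Quotient.mk'' (mul_smul e f a) }
    have h4 := @modEq_fix D _ _ act p _ _ (isP_zpowers hk')
      (((CC D N P).map (QuotientGroup.mk' (CC D N D)) : Subgroup _) : Set _) (Set.toFinite _)
      (by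
        rintro g hg _ ⟨w, hw, rfl⟩
        have h5 : cj (g : G) P = P :=
          nm_iff.1 ((Subgroup.zpowers_le (H := (Subgroup.normalizer (P : Set G)).comap D.subtype)).2 (nm_iff.2 hxP) hg)
        exact ⟨g • w, h5 ▸ smul_mem_CC hw g, rfl⟩)
    obtain ⟨w, h5, h6⟩ := (h.of_mem hP).act
    obtain ⟨c, hc⟩ := card_eq_pow ((h.isP.to_quotient (CC D N D)).to_subgroup ((CC D N P).map (QuotientGroup.mk' _)))
    have h7 : c ≠ 0 := by
      rintro rfl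
      rw [pow_zero, Subgroup.card_eq_one] at hc
      have h8 : (QuotientGroup.mk' (CC D N D)) w ∈ (CC D N P).map (QuotientGroup.mk' _) := ⟨w, h5, rfl⟩
      rw [hc] at h8
      exact h6 ((QuotientGroup.eq_one_iff w).1 h8)
    rw [← Nat.card_coe_set_eq, SetLike.coe_sort_coe, hc] at h4
    have h8 := (h4.dvd_iff dvd_rfl).1 (dvd_pow_self p h7)
    have h9 : (1 : N ⧸ CC D N D) ∈ ((CC D N P).map (QuotientGroup.mk' (CC D N D)) : Set _) ∩
        @Fx D _ _ act (Subgroup.zpowers x) := ⟨one_mem _, fun g _ => congrArg Quotient.mk'' (smul_one g)⟩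
    have h10 := lt_of_lt_of_le hp.1.one_lt (Nat.le_of_dvd ((Set.ncard_pos (Set.toFinite _)).2 ⟨_, h9⟩) h8)
    obtain ⟨_, ⟨⟨v, hv, rfl⟩, h11⟩, h12⟩ := Set.exists_ne_of_one_lt_ncard h10 1
    refine ⟨v, hv, fun h13 => h12 ((QuotientGroup.eq_one_iff v).2 h13), ?_⟩
    exact QuotientGroup.eq.1 (h11 (Subgroup.mem_zpowers x)).symm
  -- `x` fixes all components
  have h4 : ∀ R ∈ Cjs D X, cj (x : G) R = R := fun R hR => by
    by_cases h5 : R = X
    · rw [h5]; exact cj_of_mem hx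
    obtain ⟨z, hz, y', hy', h6⟩ := h.exists_mul hR h5 y₀
    have h7 : y' ∉ CC D N D := fun h8 =>
      hne (h.eq_of_mem hP (self_mem_Cjs D X) h1 (h6 ▸ mul_mem hz (CC_D_le X h8)) h2)
    refine h.cj_eq_of_smul hR hy' h7 hR ?_
    rw [h6, smul_mul', hz x hx, mul_inv_rev, mul_assoc, inv_mul_cancel_left] at h3
    exact (mul_mem_cancel_left (inv_mem hy')).1 (CC_D_le R h3)
  have h5 : ∀ y ∈ CC D N P, y⁻¹ * x • y ∈ CC D N D := fun y hy => by
    by_cases h6 : y ∈ CC D N D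
    · rw [smul_eq_of_CC h6, inv_mul_cancel]; exact one_mem _
    obtain ⟨z, hz, hz'⟩ := h.act
    obtain ⟨R, hR, h7⟩ := h.cov (y * z)
    have h8 : R ≠ P := by
      rintro rfl
      exact hne (h.eq_of_mem hP (self_mem_Cjs D X) ((mul_mem_cancel_left hy).1 h7) hz hz')
    by_contra h9
    refine h8 (h.eq_of_mem hR hP ?_ (mul_mem (inv_mem hy) (hxP ▸ smul_mem_CC hy x)) h9)
    have h10 := (h.normalC R).conj_mem _ (mul_mem (inv_mem h7) (h4 R hR ▸ smul_mem_CC h7 x)) z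
    rw [smul_mul', hz x hx] at h10
    rwa [show z * ((y * z)⁻¹ * (x • y * z)) * z⁻¹ = y⁻¹ * x • y by group] at h10
  obtain ⟨z, hz, y', hy', rfl⟩ := h.exists_mul hP hne y
  rw [smul_mul', hz x hx, mul_inv_rev, mul_assoc, inv_mul_cancel_left]
  exact h5 y' hy'

/-- `X` is trivial on `N / C(X)` -/
theorem shear {x : D} (hx : (x : G) ∈ X) (y : N) : y⁻¹ * x • y ∈ CC D N X := by
  obtain ⟨P, hP, h1⟩ := h.cov (y⁻¹ * x • y)
  by_cases hne : P = X
  · rwa [hne] at h1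
  obtain ⟨z, hz, y', hy', rfl⟩ := h.exists_mul hP hne y
  by_cases h2 : y' ∈ CC D N D
  · rw [smul_mul', hz x hx, smul_eq_of_CC h2, inv_mul_cancel]; exact one_mem _
  refine CC_D_le X (h.triv_of_fix hx hP hne (h.cj_eq_of_smul hP hy' h2 hP ?_) _)
  rw [smul_mul', hz x hx, mul_inv_rev, mul_assoc, inv_mul_cancel_left] at h1
  exact (mul_mem_cancel_left (inv_mem hy')).1 h1

theorem exists_shear {y z : N} (hy : y ∉ CC D N X) (hz : z ∈ CC D N X) :
    ∃ x : D, (x : G) ∈ X ∧ (y * z)⁻¹ * x • y ∈ CC D N D := by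
  obtain ⟨P, hP, h1⟩ := h.cov y
  obtain ⟨P', hP', h2⟩ := h.cov (y * z)
  obtain ⟨x, hx, h3⟩ := h.spl P hP (fun h3 => hy (h3 ▸ h1)) P' hP'
    (fun h3 => hy ((mul_mem_cancel_right hz).1 (h3 ▸ h2)))
  refine ⟨⟨x, h.mx.le hx⟩, hx, by_contra fun h4 => ?_⟩
  have h5 : P' = X := h.eq_of_mem hP' (self_mem_Cjs D X)
    (mul_mem (inv_mem h2) (h3 ▸ smul_mem_CC h1 ⟨x, h.mx.le hx⟩))
    (by rw [mul_inv_rev, mul_assoc]; exact mul_mem (inv_mem hz) (h.shear hx y)) h4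
  exact hy ((mul_mem_cancel_right hz).1 (h5 ▸ h2))

/-- `N_D(X)` is transitive on the non-trivial cosets in `C(X)` -/
theorem trans {z z' : N} (hz : z ∈ CC D N X) (h1 : z ∉ CC D N D) (hz' : z' ∈ CC D N X) (h2 : z' ∉ CC D N D) :
    ∃ d : D, cj (d : G) X = X ∧ z'⁻¹ * d • z ∈ CC D N D := by
  obtain ⟨P, hP, hne⟩ := h.exists_ne
  have hP' := h.of_mem hP
  obtain ⟨y, hy, hy'⟩ := hP'.act
  have hX := self_mem_Cjs D X
  have h3 : ∀ {v : N}, v ∈ CC D N X → v ∉ CC D N D → v ∉ CC D N P := fun a b c => hne (h.eq_of_mem hP hX c a b)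
  have h4 : y ∉ CC D N X := fun c => h3 c hy' hy
  obtain ⟨x₁, -, e1⟩ := hP'.exists_shear (h3 hz h1) hy
  obtain ⟨x₂, -, e2⟩ := h.exists_shear (y := z * y) (z := y⁻¹ * (z⁻¹ * z') * y)
    (fun c => h4 ((mul_mem_cancel_left hz).1 c)) (by
      have := (h.normalC X).conj_mem _ (mul_mem (inv_mem hz) hz') y⁻¹
      rwa [inv_inv] at this)
  obtain ⟨x₃, -, e3⟩ := hP'.exists_shear (y := z' * y) (z := y⁻¹)
    (fun c => h3 hz' h2 ((mul_mem_cancel_right hy).1 c)) (inv_mem hy)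
  have h5 : z'⁻¹ * (x₃ * x₂ * x₁) • z ∈ CC D N D := by
    have h6 := mul_mem (mul_mem e3 ((smul_mem_CC_D x₃).2 e2)) ((smul_mem_CC_D (x₃ * x₂)).2 e1)
    rw [show z * y * (y⁻¹ * (z⁻¹ * z') * y) = z' * y by group, mul_inv_cancel_right, smul_mul' x₃ (z' * y)⁻¹,
      smul_inv', smul_mul' (x₃ * x₂) (z * y)⁻¹, smul_inv', ← mul_smul, ← mul_smul] at h6
    convert h6 using 1
    group
  exact ⟨_, h.cj_eq_of_smul hX hz h1 hX ((mul_mem_cancel_left (inv_mem hz')).1 (CC_D_le X h5)), h5⟩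

theorem fix_of_triv {c : D} (hc : ∀ y : N, y⁻¹ * c • y ∈ CC D N D) {P : Subgroup G} (hP : P ∈ Cjs D X) :
    cj (c : G) P = P := by
  obtain ⟨y, hy, hy'⟩ := (h.of_mem hP).act
  exact h.cj_eq_of_smul hP hy hy' hP ((mul_mem_cancel_left (inv_mem hy)).1 (CC_D_le P (hc y)))

/-- `X / O_p(D)` is abelian -/
theorem comm_mem_rad {x x' : G} (hx : x ∈ X) (hx' : x' ∈ X) : x * x' * x⁻¹ * x'⁻¹ ∈ rad D X := by
  let a : D := ⟨x, h.mx.le hx⟩
  let b : D := ⟨x', h.mx.le hx'⟩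
  have h1 : ∀ y : N, ((b * a) • y)⁻¹ * (a * b) • y ∈ CC D N D := fun y => by
    have h2 := h.shear (x := a) hx y
    have h3 := h.shear (x := b) hx' y
    have h4 : (a * b) • y = y * (y⁻¹ * a • y) * (y⁻¹ * b • y) := by
      rw [mul_inv_cancel_left, ← h3 a hx, ← smul_mul', mul_inv_cancel_left, mul_smul]
    have h5 : (b * a) • y = y * (y⁻¹ * b • y) * (y⁻¹ * a • y) := by
      rw [mul_inv_cancel_left, ← h2 b hx', ← smul_mul', mul_inv_cancel_left, mul_smul]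
    have h6 := h.comm_mem (y⁻¹ * a • y)⁻¹ (y⁻¹ * b • y)⁻¹
    rw [h4, h5]
    convert h6 using 1
    group
  have h2 : x * x' * x⁻¹ * x'⁻¹ ∈ X := mul_mem (mul_mem (mul_mem hx hx') (inv_mem hx)) (inv_mem hx')
  obtain ⟨n, hn⟩ := exists_pow_of_isP h.mx.isP h2
  refine mem_rad.2 fun P hP => (h.mx.of_mem_Cjs hP).mem_of_nm hn (h.mx.le h2) ?_
  have h3 := h.fix_of_triv (c := a * b * (b * a)⁻¹) (fun y => by
    have h4 := h1 ((b * a)⁻¹ • y)
    rwa [smul_inv_smul, ← mul_smul] at h4) hP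
  rwa [show ((a * b * (b * a)⁻¹ : D) : G) = x * x' * x⁻¹ * x'⁻¹ by
    show x * x' * (x' * x)⁻¹ = _
    group] at h3

/-- `C(X) = Z(C(X)) N0` -/
theorem exists_central {z : N} (hz : z ∈ CC D N X) :
    ∃ k ∈ CC D N X, (∀ v ∈ CC D N X, k * v = v * k) ∧ k⁻¹ * z ∈ CC D N D := by
  obtain ⟨P, hP, hne⟩ := h.exists_ne
  obtain ⟨y, hy, hy'⟩ := (h.of_mem hP).act
  have h1 : y ∉ CC D N X := fun c => hne (h.eq_of_mem hP (self_mem_Cjs D X) hy c hy')
  obtain ⟨x, hx, h2⟩ := h.exists_shear h1 hz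
  refine ⟨y⁻¹ * x • y, h.shear hx y, fun v hv => ?_, ?_⟩
  · have h3 := (h.normalC X).conj_mem v hv y x hx
    rw [smul_mul', smul_mul', smul_inv', hv x hx] at h3
    calc y⁻¹ * x • y * v = y⁻¹ * (x • y * v * (x • y)⁻¹) * x • y := by group
      _ = _ := by rw [h3]; group
  · have h3 := inv_mem h2
    rwa [show ((y * z)⁻¹ * x • y)⁻¹ = (y⁻¹ * x • y)⁻¹ * z by group] at h3

end Sp

end Abs

end Cfsg.Agent.TH.Own
end

private theorem dce_8ed005a62f89 : _root_.True := by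
  try have : _root_.True := by simp only [_root_.Cfsg.Agent.TH.Own.AdjD.eq_1]
  try have : _root_.True := by simp only [_root_.Cfsg.Agent.TH.Own.PS.RR.eq_1]
  exact _root_.True.intro
end

-- part: TH/Own/RkMain
section
prune_inst 0x1000000000000800000000000000000000000000000000008104c00000000000000000000000000000000000000000000000000000004000000000000000000000000000000000000000000000
set_option linter.all false
open scoped Cfsg.Agent.FastGrp

-- part: TH/Own/RkMd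
section
/-!
# S3541, `BoxRk1`: the spread lemma for a section `Q / V` of the group (helper90)
-/

set_option autoImplicit false
set_option linter.unusedSectionVars false
set_option linter.unusedVariables false

namespace Cfsg.Agent.TH.Own.Rk

open MulAction

variable {G : Type*} [Group G] {p : ℕ}

/-- `[w, S] ≤ V` -/
def InC (V : Subgroup G) (S : Set G) (w : G) : Prop := ∀ x ∈ S, w⁻¹ * (x * w * x⁻¹) ∈ V

/-- the elements of `Q` which are centralised by `S` modulo `V` -/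
def Cm {Q V : Subgroup G} (h : ∀ w ∈ Q, cj w V = V) (S : Set G) : Subgroup G where
  carrier := {w | w ∈ Q ∧ InC V S w}
  one_mem' := ⟨one_mem _, fun x _ => by simp⟩
  mul_mem' {a b} ha hb := ⟨mul_mem ha.1 hb.1, fun x hx => by
    have h1 := mul_mem (nm_conj' (h b hb.1) (ha.2 x hx)) (hb.2 x hx)
    rwa [show b⁻¹ * (a⁻¹ * (x * a * x⁻¹)) * b * (b⁻¹ * (x * b * x⁻¹)) = (a * b)⁻¹ * (x * (a * b) * x⁻¹) by group] at h1⟩
  inv_mem' {a} ha := ⟨inv_mem ha.1, fun x hx => by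
    have h1 := nm_conj (h a ha.1) (inv_mem (ha.2 x hx))
    rwa [show a * (a⁻¹ * (x * a * x⁻¹))⁻¹ * a⁻¹ = a⁻¹⁻¹ * (x * a⁻¹ * x⁻¹) by group] at h1⟩

theorem mem_Cm {Q V : Subgroup G} {h : ∀ w ∈ Q, cj w V = V} {S : Set G} {w : G} : w ∈ Cm h S ↔ w ∈ Q ∧ InC V S w := Iff.rfl

theorem Cm_le {Q V : Subgroup G} (h : ∀ w ∈ Q, cj w V = V) (S : Set G) : Cm h S ≤ Q := fun _ hw => hw.1

theorem le_Cm {Q V : Subgroup G} (h : ∀ w ∈ Q, cj w V = V) (hle : V ≤ Q) {S : Set G} (hS : ∀ x ∈ S, cj x V = V) :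
    V ≤ Cm h S := fun w hw => ⟨hle hw, fun x hx => mul_mem (inv_mem hw) (nm_conj (hS x hx) hw)⟩

section Pt

variable {Ω : Type*} [MulAction G Ω]

theorem inC_iff {Q V : Subgroup G} {c : Ω} (hc : ∀ w ∈ Q, w • c = c ↔ w ∈ V) {x w : G} (hx : x • c = c)
    (hxQ : cj x Q = Q) (hw : w ∈ Q) : w⁻¹ * (x * w * x⁻¹) ∈ V ↔ x • w • c = w • c := by
  rw [← hc _ (mul_mem (inv_mem hw) (nm_conj hxQ hw)), mul_smul, inv_smul_eq_iff, mul_smul, mul_smul,
    inv_smul_eq_iff.2 hx.symm]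

end Pt

variable (p) in
/-- `D` acts on `Q / V`, which is the union of the centralisers of the Sylow subgroups of `D` -/
structure Md (D P V Q : Subgroup G) : Prop where
  le : V ≤ Q
  isP : IsPGroup p Q
  nV : ∀ w ∈ Q, cj w V = V
  dQ : ∀ d ∈ D, cj d Q = Q
  dV : ∀ d ∈ D, cj d V = V
  mx : MaxP p D P
  spl : Spl D P
  gen : ∀ K, (∀ R ∈ Cjs D P, R ≤ K) → D ≤ K
  cov : ∀ w ∈ Q, ∃ R ∈ Cjs D P, InC V R w
  triv : ∀ w ∈ Q, InC V D w → w ∈ V
  ne : ¬ Q ≤ V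

namespace Md

variable {D P V Q : Subgroup G} (h : Md p D P V Q)

include h

theorem normal : (V.subgroupOf Q).Normal := ⟨fun x hx w => nm_conj (x := (x : G)) (h.nV w w.2) hx⟩

/-- conjugation on `Q` -/
def cjQ (d : D) : Q →* Q where
  toFun w := ⟨d * w * (d : G)⁻¹, nm_conj (h.dQ d d.2) w.2⟩
  map_one' := Subtype.ext (by simp)
  map_mul' a b := Subtype.ext (by simp only [mul_assoc, _root_.Subgroup.coe_mul, _root_.MulMemClass.mk_mul_mk, _root_.inv_mul_cancel_left])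

/-- the action on the quotient -/
@[reducible] def act [(V.subgroupOf Q).Normal] : MulDistribMulAction D (Q ⧸ V.subgroupOf Q) where
  smul d := QuotientGroup.map _ _ (h.cjQ d) fun _ hw => nm_conj (h.dV d d.2) hw
  one_smul n := QuotientGroup.induction_on n fun w => congrArg QuotientGroup.mk (Subtype.ext (by simp [cjQ]))
  mul_smul d e n := QuotientGroup.induction_on n fun w =>
    congrArg QuotientGroup.mk (Subtype.ext (by simp only [cjQ, mul_assoc, _root_.Subgroup.coe_mul, _root_.mul_inv_rev, _root_.MonoidHom.coe_mk, _root_.OneHom.coe_mk]))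
  smul_mul d := map_mul _
  smul_one d := map_one _

theorem mem_CC [(V.subgroupOf Q).Normal] {R : Subgroup G} (hR : R ≤ D) (w : Q) :
    (w : Q ⧸ V.subgroupOf Q) ∈ @CC G _ D _ _ h.act R ↔ InC V R w :=
  ⟨fun h1 x hx => (QuotientGroup.eq (s := V.subgroupOf Q) (a := w) (b := h.cjQ ⟨x, hR hx⟩ w)).1 (h1 ⟨x, hR hx⟩ hx).symm,
    fun h1 x hx => ((QuotientGroup.eq (s := V.subgroupOf Q) (a := w) (b := h.cjQ x w)).2 (h1 x hx)).symm⟩

theorem CC_D [(V.subgroupOf Q).Normal] : @CC G _ D _ _ h.act D = ⊥ :=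
  eq_bot_iff.2 fun n hn => by
    induction n using QuotientGroup.induction_on with
    | _ w => exact (QuotientGroup.eq_one_iff w).2 (h.triv w w.2 ((h.mem_CC le_rfl w).1 hn))

variable [Finite G] [hp : Fact p.Prime]

theorem sp [(V.subgroupOf Q).Normal] : @Sp G _ p D P _ _ h.act := by
  let _ := h.act
  refine ⟨h.mx, h.spl, h.gen, h.isP.to_quotient _, fun n => ?_, ?_⟩
  · induction n using QuotientGroup.induction_on with
    | _ w =>
    obtain ⟨R, hR, h1⟩ := h.cov w w.2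
    exact ⟨R, hR, (h.mem_CC (le_of_mem_Cjs h.mx.le hR) w).2 h1⟩
  · obtain ⟨w, hw, h1⟩ := SetLike.not_le_iff_exists.1 h.ne
    obtain ⟨_, ⟨e, he, rfl⟩, h2⟩ := h.cov w hw
    have h3 := smul_mem_CC ((h.mem_CC (le_of_mem_Cjs h.mx.le ⟨e, he, rfl⟩) ⟨w, hw⟩).2 h2) (⟨e, he⟩ : D)⁻¹
    rw [Subgroup.coe_inv, cj_inv_cj] at h3
    refine ⟨_, h3, fun h4 => h1 ?_⟩
    rw [smul_mem_CC_D, h.CC_D] at h4
    exact (QuotientGroup.eq_one_iff (⟨w, hw⟩ : Q)).1 h4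

theorem of_mem {R : Subgroup G} (hR : R ∈ Cjs D P) : Md p D R V Q :=
  { h with
    mx := h.mx.of_mem_Cjs hR
    spl := h.spl.of_mem hR
    gen := by rw [Cjs_eq_of_mem hR]; exact h.gen
    cov := by rw [Cjs_eq_of_mem hR]; exact h.cov }

theorem exists_pow : ∃ n, 0 < n ∧ nS D P = p ^ n + 1 := by
  have := h.normal
  let _ := h.act
  obtain ⟨n, hn⟩ := h.sp.exists_pow
  refine ⟨n, Nat.pos_of_ne_zero ?_, hn⟩
  rintro rfl
  have h1 := (h.sp.card_top hn).2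
  rw [h.CC_D, Subgroup.card_bot, pow_zero] at h1
  exact h.ne (Subgroup.relIndex_eq_one.1 h1)

theorem card {n : ℕ} (hn : nS D P = p ^ n + 1) :
    V.relIndex Q = p ^ n * p ^ n ∧ V.relIndex (Cm h.nV P) = p ^ n := by
  have := h.normal
  let _ := h.act
  obtain ⟨h1, h2⟩ := h.sp.card_top hn
  rw [h.CC_D, Subgroup.card_bot, mul_one] at h1 h2
  refine ⟨h2, ?_⟩
  have h3 : (CC D (Q ⧸ V.subgroupOf Q) P).comap (QuotientGroup.mk' _) = (Cm h.nV P).subgroupOf Q := by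
    ext w
    rw [Subgroup.mem_comap, Subgroup.mem_subgroupOf, mem_Cm]
    exact (h.mem_CC h.mx.le w).trans ⟨fun a => ⟨w.2, a⟩, fun a => a.2⟩
  have h4 := Subgroup.index_comap_of_surjective (CC D (Q ⧸ V.subgroupOf Q) P) (QuotientGroup.mk'_surjective _)
  rw [h3] at h4
  have h5 := (CC D (Q ⧸ V.subgroupOf Q) P).card_mul_index
  rw [h1, h2, ← h4] at h5
  have h0 : 0 < p ^ n := pow_pos hp.1.pos n
  have h6 : (Cm h.nV P).relIndex Q = p ^ n := Nat.eq_of_mul_eq_mul_left h0 h5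
  have h7 := Subgroup.relIndex_mul_relIndex V (Cm h.nV P) Q
    (le_Cm h.nV h.le fun x hx => h.dV x (h.mx.le hx)) (Cm_le _ _)
  rw [h6] at h7
  exact Nat.eq_of_mul_eq_mul_right h0 (h7.trans h2)

/-- irreducibility -/
theorem irr {M : Subgroup G} (h1 : M ≤ Q) (h2 : V ≤ M) (h3 : ∀ d ∈ D, ∀ w ∈ M, d * w * d⁻¹ ∈ M) : M ≤ V ∨ Q ≤ M := by
  have := h.normal
  let _ := h.act
  by_cases h4 : M ≤ V
  · exact .inl h4
  right
  have h5 := h.sp.eq_top (M := (M.subgroupOf Q).map (QuotientGroup.mk' _))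
    (by
      rintro e _ ⟨w, hw, rfl⟩
      exact ⟨h.cjQ e w, h3 e e.2 w hw, rfl⟩)
    (by rw [h.CC_D]; exact bot_le)
    (fun h6 => h4 fun w hw => by
      have h7 := h6 ⟨⟨w, h1 hw⟩, hw, rfl⟩
      rw [h.CC_D] at h7
      exact (QuotientGroup.eq_one_iff (⟨w, h1 hw⟩ : Q)).1 h7)
  intro w hw
  obtain ⟨v, hv, e⟩ : (QuotientGroup.mk' _ (⟨w, hw⟩ : Q)) ∈ (M.subgroupOf Q).map (QuotientGroup.mk' (V.subgroupOf Q)) :=
    h5 ▸ trivial
  exact (mul_mem_cancel_left (inv_mem hv)).1 (h2 ((QuotientGroup.eq (s := V.subgroupOf Q) (a := v) (b := ⟨w, hw⟩)).1 e))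

/-- `N_D(P)` is transitive on the non-trivial cosets centralised by `P` -/
theorem trans {z z' : G} (hz : z ∈ Cm h.nV P) (h1 : z ∉ V) (hz' : z' ∈ Cm h.nV P) (h2 : z' ∉ V) :
    ∃ d ∈ D, cj d P = P ∧ z'⁻¹ * (d * z * d⁻¹) ∈ V := by
  have := h.normal
  let _ := h.act
  obtain ⟨d, h3, h4⟩ := h.sp.trans ((h.mem_CC h.mx.le ⟨z, hz.1⟩).2 hz.2)
    (by rw [h.CC_D]; exact fun e => h1 ((QuotientGroup.eq_one_iff (⟨z, hz.1⟩ : Q)).1 e))
    ((h.mem_CC h.mx.le ⟨z', hz'.1⟩).2 hz'.2)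
    (by rw [h.CC_D]; exact fun e => h2 ((QuotientGroup.eq_one_iff (⟨z', hz'.1⟩ : Q)).1 e))
  rw [h.CC_D, Subgroup.mem_bot, inv_mul_eq_one] at h4
  exact ⟨d, d.2, h3, (QuotientGroup.eq (s := V.subgroupOf Q) (a := ⟨z', hz'.1⟩) (b := h.cjQ d ⟨z, hz.1⟩)).1 h4⟩

variable {Ω : Type*} [MulAction G Ω]

omit h in
theorem ncard_Orb {M : Subgroup G} {c : Ω} (h1 : V ≤ M) (hc : ∀ w ∈ M, w • c = c ↔ w ∈ V) :
    (Orb M c).ncard = V.relIndex M := by
  have h2 := ncard_Orb_mul M c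
  have h3 : M ⊓ stabilizer G c = V := le_antisymm (fun w hw => (hc w hw.1).1 hw.2) fun w hw => ⟨h1 hw, (hc w (h1 hw)).2 hw⟩
  rw [h3, ← card_mul_relIndex h1, mul_comm] at h2
  exact Nat.eq_of_mul_eq_mul_left Nat.card_pos h2

theorem Orb_Cm {c : Ω} (hc : ∀ w ∈ Q, w • c = c ↔ w ∈ V) (hP : P ≤ stabilizer G c) :
    Orb (Cm h.nV P) c = Orb Q c ∩ Fx P := by
  ext y
  constructor
  · rintro ⟨w, hw, rfl⟩
    exact ⟨⟨w, hw.1, rfl⟩, fun x hx => (inC_iff hc (hP hx) (h.dQ x (h.mx.le hx)) hw.1).1 (hw.2 x hx)⟩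
  · rintro ⟨⟨w, hw, rfl⟩, h1⟩
    exact ⟨w, ⟨hw, fun x hx => (inC_iff hc (hP hx) (h.dQ x (h.mx.le hx)) hw).2 (h1 hx)⟩, rfl⟩

theorem ncard_fix {n : ℕ} (hn : nS D P = p ^ n + 1) {c : Ω} (hc : ∀ w ∈ Q, w • c = c ↔ w ∈ V)
    (hP : P ≤ stabilizer G c) : (Orb Q c ∩ Fx P).ncard = p ^ n := by
  rw [← h.Orb_Cm hc hP, ncard_Orb (le_Cm h.nV h.le fun x hx => h.dV x (h.mx.le hx)) fun w hw => hc w hw.1, (h.card hn).2]

omit hp in
theorem semi_smul {c : Ω} (hc : ∀ w ∈ Q, w • c = c ↔ w ∈ V) {v : G} (hv : v ∈ Q) :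
    ∀ w ∈ Q, w • v • c = v • c ↔ w ∈ V := fun w hw => by
  rw [← mul_smul, ← inv_smul_eq_iff, ← mul_smul, hc _ (mul_mem (inv_mem hv) (mul_mem hw hv)), ← mul_assoc, ← mem_cj,
    h.nV v hv]

/-- **affine** : an orbit all of whose points are fixed by Sylow subgroups of `D` has a point fixed by `D` -/
theorem affine {c : Ω} (hc : ∀ w ∈ Q, w • c = c ↔ w ∈ V)
    (hf : ∀ w ∈ Q, ∃ R ∈ Cjs D P, R ≤ stabilizer G (w • c)) : ∃ w ∈ Q, D ≤ stabilizer G (w • c) := by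
  by_contra hcon
  obtain ⟨n, hn0, hn⟩ := h.exists_pow
  have h1 : 1 < p ^ n := Nat.one_lt_pow hn0.ne' hp.1.one_lt
  let B : Set (Subgroup G) := {R ∈ Cjs D P | ∃ w ∈ Q, R ≤ stabilizer G (w • c)}
  have h2 : (Orb Q c).ncard = B.ncard * p ^ n :=
    ncard_eq_mul (finite_Orb Q c) ((finite_Cjs D P).subset fun _ a => a.1) (fun R => Orb Q c ∩ Fx R)
      (by
        rintro _ ⟨w, hw, rfl⟩
        obtain ⟨R, hR, h2⟩ := hf w hw
        exact ⟨R, ⟨hR, w, hw, h2⟩, ⟨w, hw, rfl⟩, h2⟩)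
      (fun _ _ => Set.inter_subset_left)
      (by
        rintro R hR R' hR' _ ⟨⟨w, hw, rfl⟩, h2⟩ h3
        by_contra hne
        exact hcon ⟨w, hw, h.spl.le_of_two h.gen hR.1 hR'.1 hne h2 h3.2⟩)
      (by
        rintro R ⟨hR, w, hw, h2⟩
        rw [← Orb_eq (L := Q) (b := c) ⟨w, hw, rfl⟩]
        exact (h.of_mem hR).ncard_fix (by rw [nS, Cjs_eq_of_mem hR]; exact hn) (h.semi_smul hc hw) h2)
  rw [ncard_Orb h.le hc, (h.card hn).1] at h2
  have h3 : B.ncard = p ^ n := (Nat.eq_of_mul_eq_mul_right (by omega) h2).symm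
  obtain ⟨R, hR, h4⟩ := hf 1 (one_mem _)
  rw [one_smul] at h4
  obtain ⟨R', hR', h5⟩ := Set.exists_ne_of_one_lt_ncard (s := B) (by omega) R
  have h6 : Cjs D P ⊆ B := fun R'' hR'' => by
    by_cases e : R'' = R
    · exact ⟨hR'', 1, one_mem _, by rwa [one_smul, e]⟩
    obtain ⟨x, hx, rfl⟩ := h.spl.of_mem hR R' (by rw [Cjs_eq_of_mem hR]; exact hR'.1) h5 R''
      (by rw [Cjs_eq_of_mem hR]; exact hR'') e
    obtain ⟨w, hw, h7⟩ := hR'.2
    refine ⟨hR'', x * w * x⁻¹, nm_conj (h.dQ x (le_of_mem_Cjs h.mx.le hR hx)) hw, ?_⟩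
    rw [mul_smul, mul_smul, inv_smul_eq_iff.2 (h4 hx).symm]
    exact cj_le_stab.2 h7
  have h7 := Set.ncard_le_ncard h6 ((finite_Cjs D P).subset fun _ a => a.1)
  rw [nS] at hn
  omega

end Md

end Cfsg.Agent.TH.Own.Rk
end

-- part: TH/Own/RkGeo
section
/-!
# S3541, `BoxRk1`: the groups `E b` of rank one attached to the points (helper90)
-/

set_option autoImplicit false
set_option linter.unusedSectionVars false
set_option linter.unusedVariables false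

namespace Cfsg.Agent.TH.Own.Rk

open MulAction

variable {G : Type*} [Group G]

/-- the setting -/
structure Geo (Ω : Type*) [MulAction G Ω] (T : Subgroup G) (p m : ℕ) (E : Ω → Subgroup G) : Prop where
  A : Amb Ω T p m
  eqv : ∀ (g : G) (b : Ω), E (g • b) = cj g (E b)
  leT : ∀ b, E b ≤ T
  fix : ∀ b, E b ≤ stabilizer G b
  spl : ∀ b P, MaxP p (E b) P → Spl (E b) P
  gen : ∀ b P, MaxP p (E b) P → ∀ K, (∀ R ∈ Cjs (E b) P, R ≤ K) → E b ≤ K
  ti : ∀ b P P', MaxP p (E b) P → MaxP p (E b) P' → P ≠ P' → P ⊓ P' = ⊥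
  ne : ∀ b P, MaxP p (E b) P → ∃ P', MaxP p (E b) P' ∧ P' ≠ P
  quasi : ∀ b, Cfsg.IsQuasisimple ↥(E b)
  reg : ∀ b P P', MaxP p (E b) P → MaxP p (E b) P' → P ≠ P' → ∃ t ∈ E b, ∃ r j : ℕ, r.Prime ∧ r ≠ p ∧ t ^ r ^ j = 1 ∧
    cj t P = P ∧ cj t P' = P' ∧ ∀ u ∈ P, u * t = t * u → u = 1

/-- `O_p(N_{T_b}(P))` -/
def Xo {Ω : Type*} [MulAction G Ω] (T : Subgroup G) (p : ℕ) (b : Ω) (P : Subgroup G) : Subgroup G :=
  Op p (T ⊓ stabilizer G b ⊓ Subgroup.normalizer (P : Set G))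

theorem cj_Op [Finite G] {p : ℕ} [Fact p.Prime] (g : G) (L : Subgroup G) : cj g (Op p L) = Op p (cj g L) := by
  have key : ∀ (g : G) (L : Subgroup G), cj g (Op p L) ≤ Op p (cj g L) := fun g L => by
    obtain ⟨h1, h2, h3⟩ := Op_spec (p := p) L
    exact le_Op (cj_mono g h1) (isPGroup_cj h2 g) fun x hx => nm_cj_iff.2 (h3 _ (mem_cj.1 hx))
  refine le_antisymm (key g L) ?_
  have h1 := key g⁻¹ (cj g L)
  rwa [cj_inv_cj, cj_le_iff, inv_inv] at h1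

theorem eq_one_of_pow {p r i j : ℕ} (hp : p.Prime) (hr : r.Prime) (hne : r ≠ p) {x : G} (h1 : x ^ p ^ i = 1)
    (h2 : x ^ r ^ j = 1) : x = 1 := by
  have h3 := Nat.dvd_gcd (orderOf_dvd_of_pow_eq_one h1) (orderOf_dvd_of_pow_eq_one h2)
  rw [Nat.Coprime.gcd_eq_one (Nat.Coprime.pow _ _ ((Nat.coprime_primes hp hr).2 hne.symm)), Nat.dvd_one] at h3
  exact orderOf_eq_one_iff.1 h3

/-- the action by conjugation -/
@[reducible] def cAct (G : Type*) [Group G] : MulAction G G where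
  smul g x := g * x * g⁻¹
  one_smul x := by show 1 * x * 1⁻¹ = x; simp
  mul_smul g k x := by show g * k * x * (g * k)⁻¹ = g * (k * x * k⁻¹) * g⁻¹; group

/-- a fixed coset contains a fixed element -/
theorem exists_fixed [Finite G] {p r j : ℕ} [hp : Fact p.Prime] (hr : r.Prime) (hne : r ≠ p) {t w : G} (ht : t ^ r ^ j = 1)
    {X : Subgroup G} (hX : IsPGroup p X) (hn : cj t X = X) (hw : w⁻¹ * (t * w * t⁻¹) ∈ X) :
    ∃ x ∈ X, t * (w * x) = w * x * t := by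
  have := Fact.mk hr
  let K : Subgroup G :=
    { carrier := {g | cj g X = X ∧ w⁻¹ * (g * w * g⁻¹) ∈ X}
      one_mem' := ⟨cj_one X, by simp⟩
      mul_mem' := fun {a b} ha hb => ⟨nm_mul ha.1 hb.1, by
        have h1 := mul_mem ha.2 (nm_conj ha.1 hb.2)
        rwa [show w⁻¹ * (a * w * a⁻¹) * (a * (w⁻¹ * (b * w * b⁻¹)) * a⁻¹) = w⁻¹ * (a * b * w * (a * b)⁻¹) by group] at h1⟩
      inv_mem' := fun {a} ha => ⟨nm_inv ha.1, by
        have h1 := inv_mem (nm_conj' ha.1 ha.2)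
        rwa [show (a⁻¹ * (w⁻¹ * (a * w * a⁻¹)) * a)⁻¹ = w⁻¹ * (a⁻¹ * w * a⁻¹⁻¹) by group] at h1⟩ }
  have h1 := @modEq_fix G _ G (cAct G) r _ _ (isP_zpowers ht) {v | w⁻¹ * v ∈ X} (Set.toFinite _) fun g hg v hv => by
    obtain ⟨h2, h3⟩ : g ∈ K := (Subgroup.zpowers_le (H := K)).2 ⟨hn, hw⟩ hg
    have h4 := mul_mem h3 (nm_conj h2 hv)
    show w⁻¹ * (g * v * g⁻¹) ∈ X
    rwa [show w⁻¹ * (g * w * g⁻¹) * (g * (w⁻¹ * v) * g⁻¹) = w⁻¹ * (g * v * g⁻¹) by group] at h4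
  have h2 : {v | w⁻¹ * v ∈ X}.ncard = Nat.card X := by
    rw [show {v | w⁻¹ * v ∈ X} = (fun x => w * x) '' X from Set.ext fun v =>
      ⟨fun a => ⟨_, a, mul_inv_cancel_left _ _⟩, by rintro ⟨x, hx, rfl⟩; simpa using hx⟩,
      Set.ncard_image_of_injective _ (mul_right_injective w)]
    exact (Nat.card_coe_set_eq (X : Set G)).symm
  obtain ⟨n, hn'⟩ := card_eq_pow hX
  rw [h2, hn'] at h1
  have h3 : ({v | w⁻¹ * v ∈ X} ∩ @Fx G _ G (cAct G) (Subgroup.zpowers t)).Nonempty := by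
    rw [← Set.ncard_pos (Set.toFinite _)]
    refine Nat.pos_of_ne_zero fun e => ?_
    rw [e] at h1
    exact hne ((Nat.prime_dvd_prime_iff_eq hr hp.1).1 (hr.dvd_of_dvd_pow ((Nat.modEq_zero_iff_dvd).1 h1)))
  obtain ⟨v, h4, h5⟩ := h3
  refine ⟨w⁻¹ * v, h4, ?_⟩
  have h6 : t * v * t⁻¹ = v := h5 (Subgroup.mem_zpowers t)
  rw [mul_inv_cancel_left, ← mul_inv_eq_iff_eq_mul, h6]

/-- the overgroup of `X` -/
structure QX (T : Subgroup G) (p : ℕ) (X Q : Subgroup G) (Ω : Type*) [MulAction G Ω] : Prop where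
  isP : IsPGroup p Q
  leT : Q ≤ T
  le : X ≤ Q
  nX : ∀ w ∈ Q, cj w X = X
  nQ : ∀ g, cj g X = X → cj g Q = Q
  ne : ¬ Q ≤ X
  semi : ∀ c : Ω, X ≤ stabilizer G c → ∀ w ∈ Q, w • c = c ↔ w ∈ X

namespace Geo

variable {Ω : Type*} [MulAction G Ω] {T : Subgroup G} {p m : ℕ} {E : Ω → Subgroup G} (h : Geo Ω T p m E)

include h

theorem cjS {b : Ω} {P : Subgroup G} (hP : MaxP p (E b) P) (g : G) : MaxP p (E (g • b)) (cj g P) := h.eqv g b ▸ hP.cj g

theorem nmE {g : G} {b : Ω} (hg : g • b = b) : cj g (E b) = E b := by rw [← h.eqv, hg]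

theorem cjS' {b : Ω} {P : Subgroup G} (hP : MaxP p (E b) P) {g : G} (hg : g • b = b) : MaxP p (E b) (cj g P) := by
  have := h.cjS hP g
  rwa [hg] at this

theorem S_fix {b : Ω} {P : Subgroup G} (hP : MaxP p (E b) P) : P ≤ stabilizer G b := hP.le.trans (h.fix b)

theorem S_T {b : Ω} {P : Subgroup G} (hP : MaxP p (E b) P) : P ≤ T := hP.le.trans (h.leT b)

theorem ne_bot {b : Ω} {P : Subgroup G} (hP : MaxP p (E b) P) : P ≠ ⊥ := fun e => by
  obtain ⟨P', h1, h2⟩ := h.ne b P hP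
  exact h2 (hP.max P' h1.isP h1.le (e ▸ bot_le))

theorem exists_ne_one {b : Ω} {P : Subgroup G} (hP : MaxP p (E b) P) : ∃ u ∈ P, u ≠ 1 := by
  by_contra e
  exact h.ne_bot hP ((Subgroup.eq_bot_iff_forall _).2 fun x hx => by_contra fun e' => e ⟨x, hx, e'⟩)

theorem eq_one_of_mem {b : Ω} {P P' : Subgroup G} (hP : MaxP p (E b) P) (hP' : MaxP p (E b) P') (hne : P ≠ P') {u : G}
    (h1 : u ∈ P) (h2 : u ∈ P') : u = 1 := Subgroup.mem_bot.1 (h.ti b P P' hP hP' hne ▸ (⟨h1, h2⟩ : u ∈ P ⊓ P'))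

theorem eq_of_nm {b : Ω} {P R : Subgroup G} (hP : MaxP p (E b) P) (hR : MaxP p (E b) R) {u : G} (hu : u ∈ P) (h1 : u ≠ 1)
    (h2 : cj u R = R) : R = P := by
  by_contra e
  obtain ⟨n, hn⟩ := exists_pow_of_isP hP.isP hu
  exact h1 (h.eq_one_of_mem hR hP e (hR.mem_of_nm hn (hP.le hu) h2) hu)

theorem qs {b : Ω} {N : Subgroup G} (h1 : ∀ e ∈ E b, ∀ x ∈ N, x ∈ E b → e * x * e⁻¹ ∈ N) :
    E b ≤ N ∨ ∀ x ∈ N, x ∈ E b → ∀ e ∈ E b, e * x = x * e := by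
  rcases H396.Comp.normal_cases (h.quasi b) (L := N.subgroupOf (E b)) ⟨fun x hx e => h1 e e.2 x hx x.2⟩ with h2 | h2
  · exact .inr fun x hx hx' e he =>
      congrArg Subtype.val (Subgroup.mem_center_iff.1 (h2 (show (⟨x, hx'⟩ : E b) ∈ N.subgroupOf (E b) from hx)) ⟨e, he⟩)
  · exact .inl (Subgroup.subgroupOf_eq_top.1 h2)

variable [Finite G] [hp : Fact p.Prime]

theorem exS0 (b : Ω) : ∃ P, MaxP p (E b) P := by
  obtain ⟨P, -, h1⟩ := exists_maxP (p := p) (L := E b) (P := ⊥) IsPGroup.of_bot bot_le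
  exact ⟨P, h1⟩

theorem E_ne_bot (b : Ω) : E b ≠ ⊥ := fun e => by
  obtain ⟨P, hP⟩ := h.exS0 b
  exact h.ne_bot hP (le_bot_iff.1 (e ▸ hP.le))

theorem smul_eq {g : G} {b : Ω} (hg : cj g (E b) = E b) : g • b = b :=
  h.A.smul_eq_of_nm (h.E_ne_bot b) (h.fix b) (fun _ a => h.nmE a) hg

theorem le_of_two {b : Ω} {P P' K : Subgroup G} (hP : MaxP p (E b) P) (hP' : MaxP p (E b) P') (hne : P ≠ P')
    (h1 : P ≤ K) (h2 : P' ≤ K) : E b ≤ K :=
  (h.spl b P hP).le_of_two (h.gen b P hP) (self_mem_Cjs _ _) (hP.mem_Cjs hP') hne h1 h2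

theorem inf_S {b : Ω} {R : Subgroup G} (hR : MaxP p (T ⊓ stabilizer G b) R) : MaxP p (E b) (R ⊓ E b) :=
  hR.inf (le_inf (h.leT b) (h.fix b)) fun g hg => h.nmE hg.2

/-- every point is fixed by a Sylow subgroup of `E b` -/
theorem exS (b c : Ω) : ∃ P, MaxP p (E b) P ∧ P ≤ stabilizer G c := by
  obtain ⟨R, -, h1, h2⟩ := h.A.exists_S b c (P := ⊥) IsPGroup.of_bot bot_le bot_le bot_le
  exact ⟨_, h.inf_S h1, inf_le_left.trans (h2.le.trans inf_le_right)⟩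

theorem uniq {b c : Ω} (hc : ¬ E b ≤ stabilizer G c) {P P' : Subgroup G} (hP : MaxP p (E b) P) (hP' : MaxP p (E b) P')
    (h1 : P ≤ stabilizer G c) (h2 : P' ≤ stabilizer G c) : P = P' := by
  by_contra e
  exact hc (h.le_of_two hP hP' e h1 h2)

theorem nm_of_uniq {b c : Ω} (hc : ¬ E b ≤ stabilizer G c) {P : Subgroup G} (hP : MaxP p (E b) P)
    (h1 : P ≤ stabilizer G c) {g : G} (hb : g • b = b) (hg : g • c = c) : cj g P = P :=
  h.uniq hc (h.cjS' hP hb) hP (by rw [← hg]; exact cj_le_stab.2 h1) h1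

/-- `O_p(E b) = 1` -/
theorem opE {b : Ω} {N : Subgroup G} (hN : IsPGroup p N) (h1 : N ≤ E b) (h2 : ∀ e ∈ E b, cj e N = N) : N = ⊥ := by
  obtain ⟨P, hP⟩ := h.exS0 b
  obtain ⟨P', hP', hne⟩ := h.ne b P hP
  rw [← le_bot_iff, ← h.ti b P' P hP' hP hne]
  exact le_inf (hP'.le_of_nm hN h1 fun x hx => h2 x (hP'.le hx)) (hP.le_of_nm hN h1 fun x hx => h2 x (hP.le hx))

/-- a `p`-group which normalises `E b` and is normalised by it centralises it -/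
theorem comm_of_nm {b : Ω} {N : Subgroup G} (hN : IsPGroup p N) (h1 : N ≤ stabilizer G b) (h2 : ∀ e ∈ E b, cj e N = N)
    {x e : G} (hx : x ∈ N) (he : e ∈ E b) : e * x = x * e := by
  have h3 := h.opE (N := N ⊓ E b) (hN.to_le inf_le_left) inf_le_right fun e he => nm_inf (h2 e he) (cj_of_mem he)
  have h4 : e * x * e⁻¹ * x⁻¹ ∈ N ⊓ E b := Subgroup.mem_inf.2 ⟨mul_mem (nm_conj (h2 e he) hx) (inv_mem hx), by
    have h5 := mul_mem he (nm_conj (h.nmE (h1 hx)) (inv_mem he))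
    rwa [← mul_assoc, ← mul_assoc] at h5⟩
  rwa [h3, Subgroup.mem_bot, mul_inv_eq_one, mul_inv_eq_iff_eq_mul] at h4

theorem exists_cj {b : Ω} {P P' P'' : Subgroup G} (hP : MaxP p (E b) P) (hP' : MaxP p (E b) P') (hP'' : MaxP p (E b) P'')
    (h1 : P' ≠ P) (h2 : P'' ≠ P) : ∃ u ∈ P, cj u P' = P'' :=
  h.spl b P hP P' (hP.mem_Cjs hP') h1 P'' (hP.mem_Cjs hP'') h2

theorem cj_uniq {b : Ω} {P P' : Subgroup G} (hP : MaxP p (E b) P) (hP' : MaxP p (E b) P') (h1 : P' ≠ P) {u u' : G}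
    (hu : u ∈ P) (hu' : u' ∈ P) (e : cj u P' = cj u' P') : u = u' := by
  by_contra e'
  exact h1 (h.eq_of_nm hP hP' (mul_mem (inv_mem hu') hu) (fun a => e' (inv_mul_eq_one.1 a).symm)
    (by rw [cj_mul, e, cj_inv_cj]))

theorem comm_of_three {b : Ω} {P P' : Subgroup G} (hP : MaxP p (E b) P) (hP' : MaxP p (E b) P') (h1 : P' ≠ P) {u k : G}
    (hu : u ∈ P) (k1 : cj k P = P) (k2 : cj k P' = P') (k3 : cj k (cj u P') = cj u P') : k * u = u * k :=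
  mul_inv_eq_iff_eq_mul.1 (h.cj_uniq hP hP' h1 (nm_conj k1 hu) hu (by rw [cj_mul, nm_inv k2, cj_mul, k3]))

theorem cj_ne {b : Ω} {P P' : Subgroup G} (h1 : P' ≠ P) {u : G} (hu : cj u P = P) : cj u P' ≠ P := fun e =>
  h1 (cj_inj u (e.trans hu.symm))

omit h in
theorem nm_cj_of_comm {P : Subgroup G} {u k : G} (k2 : cj k P = P) (e : k * u = u * k) : cj k (cj u P) = cj u P := by
  rw [← cj_mul, e, cj_mul, k2]

/-- the number of Sylow subgroups normalised by `K` -/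
theorem ncard_fixS {b : Ω} {P P' : Subgroup G} (hP : MaxP p (E b) P) (hP' : MaxP p (E b) P') (h1 : P' ≠ P) {K : Set G}
    (k1 : ∀ k ∈ K, cj k P = P) (k2 : ∀ k ∈ K, cj k P' = P') :
    {R | MaxP p (E b) R ∧ ∀ k ∈ K, cj k R = R}.ncard = Nat.card ↥(P ⊓ Subgroup.centralizer K) + 1 := by
  have h2 : {R | MaxP p (E b) R ∧ ∀ k ∈ K, cj k R = R} =
      insert P ((fun u => cj u P') '' ((P ⊓ Subgroup.centralizer K : Subgroup G) : Set G)) := by
    ext R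
    constructor
    · rintro ⟨h3, h4⟩
      by_cases e : R = P
      · exact .inl e
      obtain ⟨u, hu, rfl⟩ := h.exists_cj hP hP' h3 h1 e
      exact .inr ⟨u, ⟨hu, fun k hk => h.comm_of_three hP hP' h1 hu (k1 k hk) (k2 k hk) (h4 k hk)⟩, rfl⟩
    · rintro (rfl | ⟨u, hu, rfl⟩)
      · exact ⟨hP, k1⟩
      · exact ⟨h.cjS' hP' (h.S_fix hP hu.1), fun k hk => nm_cj_of_comm (k2 k hk) (hu.2 k hk)⟩
  rw [h2, Set.ncard_insert_of_notMem (by
      rintro ⟨u, hu, e⟩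
      exact h.cj_ne (b := b) h1 (cj_of_mem hu.1) e) (Set.toFinite _),
    Set.InjOn.ncard_image fun u hu u' hu' e => h.cj_uniq hP hP' h1 hu.1 hu'.1 e]
  exact congrArg (· + 1) (Nat.card_coe_set_eq _).symm

theorem setS_eq {b : Ω} {P : Subgroup G} (hP : MaxP p (E b) P) : Cjs (E b) P = {R | MaxP p (E b) R} :=
  Set.ext fun _ => ⟨hP.of_mem_Cjs, hP.mem_Cjs⟩

theorem ncard_S {b : Ω} {P : Subgroup G} (hP : MaxP p (E b) P) : {R | MaxP p (E b) R}.ncard = Nat.card P + 1 := by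
  obtain ⟨P', hP', h1⟩ := h.ne b P hP
  have h2 := h.ncard_fixS hP hP' h1 (K := ∅) (fun _ a => a.elim) fun _ a => a.elim
  rw [show P ⊓ Subgroup.centralizer ∅ = P from inf_eq_left.2 fun _ _ _ a => a.elim] at h2
  simpa only [_root_.Set.mem_empty_iff_false, _root_.IsEmpty.forall_iff, _root_.implies_true, _root_.and_true] using h2

/-- an element which normalises all Sylow subgroups of `E b` centralises `E b` -/
theorem comm_of_fixS {b : Ω} {g : G} (hg : ∀ R, MaxP p (E b) R → cj g R = R) {e : G} (he : e ∈ E b) : g * e = e * g := by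
  obtain ⟨P, hP⟩ := h.exS0 b
  have h1 : E b ≤ Subgroup.centralizer {g} := h.gen b P hP _ fun R hR x hx => by
    have hR' := hP.of_mem_Cjs hR
    obtain ⟨R', h2, h3⟩ := h.ne b R hR'
    exact Subgroup.mem_centralizer_singleton_iff.2
      (h.comm_of_three hR' h2 h3 hx (hg _ hR') (hg _ h2) (hg _ (h.cjS' h2 (h.S_fix hR' hx)))).symm
  exact (Subgroup.mem_centralizer_singleton_iff.1 (h1 he)).symm

theorem nmP_of_le {b : Ω} {P R : Subgroup G} (hP : MaxP p (E b) P) (hR : IsPGroup p R) (h0 : R ≤ stabilizer G b)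
    (h1 : P ≤ R) {g : G} (hg : g ∈ R) : cj g P = P := by
  rw [← hP.max (R ⊓ E b) (hR.to_le inf_le_left) inf_le_right (le_inf h1 hP.le)]
  exact nm_inf (cj_of_mem hg) (h.nmE (h0 hg))

omit h in
theorem X_isP (b : Ω) (P : Subgroup G) : IsPGroup p (Xo T p b P) := (Op_spec _).2.1

omit h in
theorem X_T (b : Ω) (P : Subgroup G) : Xo T p b P ≤ T := (Op_spec _).1.trans (inf_le_left.trans inf_le_left)

omit h in
theorem X_fix (b : Ω) (P : Subgroup G) : Xo T p b P ≤ stabilizer G b :=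
  (Op_spec _).1.trans (inf_le_left.trans inf_le_right)

omit h in
theorem X_nm {b : Ω} {P : Subgroup G} {x : G} (hx : x ∈ Xo T p b P) : cj x P = P := nm_iff.1 ((Op_spec _).1 hx).2

omit h in
theorem le_X {b : Ω} {P R : Subgroup G} (hR : IsPGroup p R) (h1 : R ≤ T) (h2 : R ≤ stabilizer G b)
    (h3 : ∀ x ∈ R, cj x P = P) (h4 : ∀ g ∈ T, g • b = b → cj g P = P → cj g R = R) : R ≤ Xo T p b P :=
  le_Op (fun x hx => ⟨⟨h1 hx, h2 hx⟩, nm_iff.2 (h3 x hx)⟩) hR fun g hg => h4 g hg.1.1 hg.1.2 (nm_iff.1 hg.2)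

theorem S_le_X {b : Ω} {P : Subgroup G} (hP : MaxP p (E b) P) : P ≤ Xo T p b P :=
  le_X hP.isP (h.S_T hP) (h.S_fix hP) (fun _ => cj_of_mem) fun _ _ _ a => a

theorem cj_X (g : G) (b : Ω) (P : Subgroup G) : cj g (Xo T p b P) = Xo T p (g • b) (cj g P) := by
  have := h.A.nrm
  rw [Xo, cj_Op, cj_inf, cj_inf, cj_normal, cj_stab, cj_normalizer, Xo]

theorem nmX {g : G} {b : Ω} {P : Subgroup G} (h1 : g • b = b) (h2 : cj g P = P) : cj g (Xo T p b P) = Xo T p b P := by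
  rw [h.cj_X, h1, h2]

theorem X_inf {b : Ω} {P : Subgroup G} (hP : MaxP p (E b) P) : Xo T p b P ⊓ E b = P :=
  hP.max _ ((X_isP b P).to_le inf_le_left) inf_le_right (le_inf (h.S_le_X hP) hP.le)

theorem nm_of_nmX {b : Ω} {P : Subgroup G} (hP : MaxP p (E b) P) {g : G} (h1 : g • b = b)
    (h2 : cj g (Xo T p b P) = Xo T p b P) : cj g P = P := by
  have h3 := nm_inf h2 (h.nmE h1)
  rwa [h.X_inf hP] at h3

/-- `Fix X = Fix P` -/
theorem X_le_stab {b c : Ω} {P : Subgroup G} (hP : MaxP p (E b) P) (hc : P ≤ stabilizer G c) :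
    Xo T p b P ≤ stabilizer G c := by
  obtain ⟨R, h1, h2, h3⟩ := h.A.exists_S b c hP.isP (h.S_T hP) (h.S_fix hP) hc
  have h4 := h2.le.trans inf_le_right
  exact (h2.le_of_nm (X_isP b P) (le_inf (X_T b P) (X_fix b P)) fun x hx =>
    h.nmX (h4 hx) (h.nmP_of_le hP h2.isP h4 h1 hx)).trans (h3.le.trans inf_le_right)

/-- the overgroup of `D` -/
theorem exists_Q {a : Ω} {D : Subgroup G} (h0 : D ≠ ⊥) (hD : IsPGroup p D) (h1 : D ≤ T) (h2 : D ≤ stabilizer G a)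
    (h3 : ∀ R : Subgroup G, IsPGroup p R → D ≤ R → R ≤ T → R ≤ stabilizer G a → (∀ x ∈ R, cj x D = D) →
      (∀ g, g • a = a → cj g D = D → cj g R = R) → R ≤ D) :
    ∃ Q : Subgroup G, IsPGroup p Q ∧ Q ≤ T ∧ D ≤ Q ∧ (∀ w ∈ Q, cj w D = D) ∧ (∀ g, cj g D = D → cj g Q = Q) ∧ ¬ Q ≤ D ∧
      ∀ w ∈ Q, w • a = a ↔ w ∈ D := by
  obtain ⟨Q, q1, q2, q3, q4, q5⟩ := h.A.gt a D h0 hD h1 h2
  have h4 : ∀ g, cj g D = D → cj g (Q ⊓ Subgroup.normalizer (D : Set G)) = Q ⊓ Subgroup.normalizer (D : Set G) :=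
    fun g hg => nm_inf (q4 g hg) (by rw [cj_normalizer, hg])
  have h5 : D ≤ Q ⊓ Subgroup.normalizer (D : Set G) := le_inf q3 Subgroup.le_normalizer
  refine ⟨Q ⊓ Subgroup.normalizer (D : Set G), q1.to_le inf_le_left, inf_le_left.trans q2, h5, fun w hw => nm_iff.1 hw.2,
    h4, fun e => ?_, fun w hw => ⟨fun e => ?_, fun e => h2 e⟩⟩
  · obtain ⟨w, a1, a2, a3⟩ := exists_nm_of_lt q1 q3 fun e' => q5 (e'.trans h2)
    exact a2 (e ⟨a1, nm_iff.2 a3⟩)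
  · exact h3 (Q ⊓ Subgroup.normalizer (D : Set G) ⊓ stabilizer G a) (q1.to_le (inf_le_left.trans inf_le_left))
      (le_inf h5 h2) (inf_le_left.trans (inf_le_left.trans q2)) inf_le_right (fun x hx => nm_iff.1 hx.1.2)
      (fun g a1 a2 => nm_inf (h4 g a2) (nm_stab a1)) ⟨hw, e⟩

/-- the `Q`-trick -/
theorem semi {a c : Ω} {D Q : Subgroup G} (hD : IsPGroup p D) (h1 : D ≤ T) (h2 : D ≤ stabilizer G a)
    (hc : D ≤ stabilizer G c) (q1 : IsPGroup p Q) (q2 : Q ≤ T) (q4 : ∀ g, cj g D = D → cj g Q = Q)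
    (q5 : ∀ w ∈ Q, w • a = a ↔ w ∈ D)
    (h3 : ∀ R : Subgroup G, IsPGroup p R → D ≤ R → R ≤ T → R ≤ stabilizer G a → ∀ g ∈ R, cj g D = D) :
    ∀ w ∈ Q, w • c = c ↔ w ∈ D := fun w hw => ⟨fun e => by
  obtain ⟨R, r1, r2, r3⟩ := h.A.exists_S a c hD h1 h2 hc
  have h4 := r3.le_of_nm (P := Q ⊓ stabilizer G c) (q1.to_le inf_le_left) (inf_le_inf_right _ q2) fun x hx =>
    nm_inf (q4 x (h3 R r2.isP r1 (r2.le.trans inf_le_left) (r2.le.trans inf_le_right) x hx)) (nm_stab (r3.le hx).2)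
  exact (q5 w hw).1 (r2.le (h4 ⟨hw, e⟩)).2, fun e => hc e⟩

theorem exists_QX {a : Ω} {P : Subgroup G} (hP : MaxP p (E a) P) : ∃ Q, QX T p (Xo T p a P) Q Ω := by
  obtain ⟨Q, q1, q2, q3, q4, q5, q6, q7⟩ := h.exists_Q (a := a) (D := Xo T p a P)
    (fun e => h.ne_bot hP (le_bot_iff.1 (e ▸ h.S_le_X hP))) (X_isP a P) (X_T a P) (X_fix a P)
    fun R r1 r2 r3 r4 r5 r6 => le_X r1 r3 r4 (fun x hx => h.nm_of_nmX hP (r4 hx) (r5 x hx))
      fun g _ a1 a2 => r6 g a1 (h.nmX a1 a2)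
  exact ⟨Q, q1, q2, q3, q4, q5, q6, fun c hc => h.semi (X_isP a P) (X_T a P) (X_fix a P) hc q1 q2 q5 q7
    fun R r1 r2 r3 r4 g hg => h.nmX (r4 hg) (h.nmP_of_le hP r1 r4 ((h.S_le_X hP).trans r2) hg)⟩

end Geo

end Cfsg.Agent.TH.Own.Rk
end

-- part: TH/Own/RkPhi
section
/-!
# S3541, `BoxRk1`: `E a` fixes only the point `a` (helper90)
-/

set_option autoImplicit false
set_option linter.unusedSectionVars false
set_option linter.unusedVariables false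

namespace Cfsg.Agent.TH.Own.Rk

open MulAction

variable {G : Type*} [Group G]

theorem QX.cj {T X Q : Subgroup G} {p : ℕ} {Ω : Type*} [MulAction G Ω] [T.Normal] (q : QX T p X Q Ω) (g : G) :
    QX T p (cj g X) (cj g Q) Ω where
  isP := isPGroup_cj q.isP g
  leT := (cj_mono g q.leT).trans (cj_normal g T).le
  le := cj_mono g q.le
  nX w hw := nm_cj_iff.2 (q.nX _ (mem_cj.1 hw))
  nQ k hk := nm_cj_iff.2 (q.nQ _ (nm_cj_iff.1 hk))
  ne e := q.ne ((cj_le_cj_iff g).1 e)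
  semi c hc w hw := by
    rw [mem_cj, ← q.semi (g⁻¹ • c) (cj_le_stab'.1 hc) _ (mem_cj.1 hw), mul_smul, mul_smul, smul_inv_smul,
      smul_left_cancel_iff]

theorem QX.fix {T X Q : Subgroup G} {p : ℕ} {Ω : Type*} [MulAction G Ω] (q : QX T p X Q Ω) {c : Ω}
    (hc : X ≤ stabilizer G c) {w : G} (hw : w ∈ Q) : X ≤ stabilizer G (w • c) := le_stab_smul (q.nX w hw) hc

namespace Geo

variable {Ω : Type*} [MulAction G Ω] {T : Subgroup G} {p m : ℕ} {E : Ω → Subgroup G} (h : Geo Ω T p m E)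
  [Finite G] [hp : Fact p.Prime]

include h

theorem exists_reg (b : Ω) : ∃ t ∈ E b, ∃ r j : ℕ, r.Prime ∧ r ≠ p ∧ t ^ r ^ j = 1 ∧ ¬ ∀ e ∈ E b, e * t = t * e := by
  obtain ⟨P, hP⟩ := h.exS0 b
  obtain ⟨P', hP', hne⟩ := h.ne b P hP
  obtain ⟨t, ht, r, j, h1, h2, h3, -, -, h4⟩ := h.reg b P P' hP hP' hne.symm
  obtain ⟨u, hu, h5⟩ := h.exists_ne_one hP
  exact ⟨t, ht, r, j, h1, h2, h3, fun e => h5 (h4 u hu (e u (hP.le hu)))⟩

/-- an element centralised by `E b` modulo a `p`-group which centralises `E b` fixes `b` -/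
theorem triv {b : Ω} {V : Subgroup G} (hV : IsPGroup p V) (hc : ∀ x ∈ V, ∀ e ∈ E b, e * x = x * e) {w : G}
    (hw : InC V (E b) w) : w • b = b := by
  have h1 : ∀ e ∈ E b, ∃ x ∈ V, w⁻¹ * e * w = x * e := fun e he => ⟨_, hw e he, by group⟩
  rcases h.qs (b := b) (N := Subgroup.centralizer {w}) (fun e he k hk hk' => by
    obtain ⟨x, hx, h2⟩ := h1 e he
    have h3 := Subgroup.mem_centralizer_singleton_iff.1 hk
    have h4 := hc x hx _ (mul_mem (mul_mem he hk') (inv_mem he))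
    rw [Subgroup.mem_centralizer_singleton_iff]
    calc e * k * e⁻¹ * w = w * ((w⁻¹ * e * w) * (w⁻¹ * (k * w)) * (w⁻¹ * e * w)⁻¹) := by group
      _ = w * (x * (e * k * e⁻¹) * x⁻¹) := by rw [h2, h3]; group
      _ = _ := by rw [← h4]; group) with h2 | h2
  · exact h.smul_eq (nm_of_comm fun x hx => (Subgroup.mem_centralizer_singleton_iff.1 (h2 hx)).symm)
  · obtain ⟨t, ht, r, j, r1, r2, r3, r4⟩ := h.exists_reg b
    obtain ⟨x, hx, h3⟩ := h1 t ht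
    obtain ⟨n, hn⟩ := exists_pow_of_isP hV hx
    have h4 : x ^ r ^ j = 1 := by
      have h5 : (w⁻¹ * t * w⁻¹⁻¹) ^ r ^ j = 1 := by rw [conj_pow, r3]; group
      rwa [inv_inv, h3, Commute.mul_pow (hc x hx t ht).symm, r3, mul_one] at h5
    rw [eq_one_of_pow hp.1 r1 r2 hn h4, one_mul] at h3
    refine absurd (h2 t (Subgroup.mem_centralizer_singleton_iff.2 ?_) ht) r4
    rw [← inv_mul_eq_iff_eq_mul, ← mul_assoc, h3]

theorem eq_of_E_le {a b : Ω} (e : E a ≤ E b) : b = a := by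
  obtain ⟨g, -, rfl⟩ := h.A.trans a b
  rw [h.eqv] at e
  exact h.smul_eq (Subgroup.eq_of_le_of_card_ge e (card_cj g _).le).symm

theorem comm_of_le {a b : Ω} (hab : E a ≤ stabilizer G b) (hne : b ≠ a) {e f : G} (he : e ∈ E a) (hf : f ∈ E b) :
    e * f = f * e := by
  by_cases hba : E b ≤ stabilizer G a
  · rcases h.qs (b := a) (N := E b) (fun e he x hx _ => nm_conj (h.nmE (hab he)) hx) with h1 | h1
    · exact absurd (h.eq_of_E_le h1) hne
    obtain ⟨P, hP⟩ := h.exS0 a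
    have h2 : E a ≤ Subgroup.centralizer {f} := h.gen a P hP _ fun R hR x hx => by
      have hR' := hP.of_mem_Cjs hR
      have h3 : f * x * f⁻¹ * x⁻¹ ∈ E a := mul_mem (nm_conj (h.nmE (hba hf)) (hR'.le hx)) (inv_mem (hR'.le hx))
      have h4 : f * x * f⁻¹ * x⁻¹ ∈ E b := by
        have h5 := mul_mem hf (nm_conj (h.nmE (hab (hR'.le hx))) (inv_mem hf))
        rwa [← mul_assoc, ← mul_assoc] at h5
      have h5 := h1 _ h4 h3
      obtain ⟨n, hn⟩ := exists_pow_of_isP hR'.isP hx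
      have h6 : (f * x * f⁻¹ * x⁻¹) ^ p ^ n = 1 := by
        have h7 : (f * x * f⁻¹ * x⁻¹ * x) ^ p ^ n = 1 := by rw [inv_mul_cancel_right, conj_pow, hn]; group
        rwa [Commute.mul_pow (h5 x (hR'.le hx)).symm, hn, mul_one] at h7
      have h7 := h.opE (isP_zpowers h6) ((Subgroup.zpowers_le).2 h3) fun e he => nm_of_comm fun y hy => by
        obtain ⟨k, rfl⟩ := hy
        exact (Commute.zpow_right (h5 e he) k)
      rw [Subgroup.zpowers_eq_bot, mul_inv_eq_one, mul_inv_eq_iff_eq_mul] at h7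
      exact Subgroup.mem_centralizer_singleton_iff.2 h7.symm
    exact Subgroup.mem_centralizer_singleton_iff.1 (h2 he)
  · obtain ⟨U, hU, h1⟩ := h.exS b a
    have h2 : ∀ e ∈ E a, cj e U = U := fun e he => h.nm_of_uniq hba hU h1 (hab he) (h.fix a he)
    have h3 : ∀ e ∈ E a, ∀ u ∈ U, e * u = u * e := fun e he u hu => h.comm_of_nm hU.isP h1 h2 hu he
    obtain ⟨t, ht, r, j, r1, r2, r3, r4⟩ := h.exists_reg a
    have := Fact.mk r1
    have h4 := @modEq_fix G _ _ (cjAct G) r _ _ (isP_zpowers r3) ({R | MaxP p (E b) R} \ {U}) (Set.toFinite _)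
      fun g hg R hR => by
        have h5 : g ∈ E a := (Subgroup.zpowers_le).2 ht hg
        exact ⟨h.cjS' hR.1 (hab h5), h.cj_ne (b := b) hR.2 (h2 g h5)⟩
    have h5 := Set.ncard_sdiff_singleton_add_one (s := {R | MaxP p (E b) R}) (a := U) hU
    obtain ⟨n, hn⟩ := card_eq_pow hU.isP
    rw [h.ncard_S hU, Nat.add_right_cancel_iff, hn] at h5
    rw [h5] at h4
    obtain ⟨P', h6, h7⟩ : (({R | MaxP p (E b) R} \ {U}) ∩ @Fx G _ _ (cjAct G) (Subgroup.zpowers t)).Nonempty := by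
      rw [← Set.ncard_pos (Set.toFinite _)]
      refine Nat.pos_of_ne_zero fun e => ?_
      rw [e] at h4
      exact r2 ((Nat.prime_dvd_prime_iff_eq r1 hp.1).1 (r1.dvd_of_dvd_pow ((Nat.modEq_zero_iff_dvd).1 h4)))
    have h8 : cj t P' = P' := h7 (Subgroup.mem_zpowers t)
    have h9 : ∀ g : G, g ∈ ⨅ R ∈ {R | MaxP p (E b) R}, Subgroup.normalizer (R : Set G) ↔
        ∀ R, MaxP p (E b) R → cj g R = R := fun g => by
      simp only [Subgroup.mem_iInf, nm_iff, Set.mem_ofPred_eq]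
    rcases h.qs (b := a) (N := ⨅ R ∈ {R | MaxP p (E b) R}, Subgroup.normalizer (R : Set G)) (fun e he x hx _ =>
      (h9 _).2 fun R hR => by
        rw [cj_mul, cj_mul, (h9 x).1 hx _ (h.cjS' hR (hab (inv_mem he))), cj_cj_inv]) with h10 | h10
    · exact h.comm_of_fixS ((h9 e).1 (h10 he)) hf
    · refine absurd (h10 t ((h9 t).2 fun R hR => ?_) ht) r4
      by_cases e1 : R = U
      · rw [e1]; exact h2 t ht
      obtain ⟨u, hu, rfl⟩ := h.exists_cj hU h6.1 hR h6.2 e1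
      exact nm_cj_of_comm h8 (h3 t ht u hu)

theorem sym {a b : Ω} (hab : E a ≤ stabilizer G b) : E b ≤ stabilizer G a := by
  by_cases e : b = a
  · rw [e]; exact h.fix a
  · exact fun f hf => h.smul_eq (nm_of_comm fun x hx => (h.comm_of_le hab e hx hf).symm)

theorem iv_aux {a : Ω} {X Q : Subgroup G} (q : QX T p X Q Ω) (hX : X ≤ stabilizer G a) {t : G} (ht : t ∈ E a) {r j : ℕ}
    (r1 : r.Prime) (r2 : r ≠ p) (r3 : t ^ r ^ j = 1) (h1 : cj t X = X) {w : G} (hw : w ∈ Q) (h2 : t • w • a = w • a) :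
    ∃ c ∈ Q, t * c = c * t ∧ c • a = w • a := by
  obtain ⟨x, hx, h3⟩ := exists_fixed r1 r2 r3 (q.isP.to_le q.le) h1
    ((inC_iff (q.semi a hX) (h.fix a ht) (q.nQ t h1) hw).2 h2)
  exact ⟨w * x, mul_mem hw (q.le hx), h3, by rw [mul_smul, hX hx]⟩

/-- some element of `N_E(U)` moves a point of the orbit `Q a` -/
theorem iv {a : Ω} {U Q : Subgroup G} (hU : MaxP p (E a) U) (q : QX T p (Xo T p a U) Q Ω)
    (h3 : 3 ≤ (Orb Q a).ncard) : ∃ s ∈ E a, cj s U = U ∧ ∃ w ∈ Q, s • w • a ≠ w • a := by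
  by_contra hcon
  have hc : ∀ s ∈ E a, cj s U = U → ∀ w ∈ Q, s • w • a = w • a := fun s a1 a2 w a3 =>
    by_contra fun e => hcon ⟨s, a1, a2, w, a3, e⟩
  have := h.A.nrm
  obtain ⟨U', hU', hne⟩ := h.ne a U hU
  obtain ⟨e, he, rfl⟩ := hU.exists_eq hU'
  obtain ⟨t, ht, r, j, r1, r2, r3, t1, t2, t3⟩ := h.reg a U _ hU hU' hne.symm
  have ea : e • a = a := h.fix a he
  have q' := q.cj e
  rw [h.cj_X, ea] at q'
  have hc' : ∀ w ∈ cj e Q, t • w • a = w • a := fun w hw => by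
    have h4 := hc (e⁻¹ * t * e) (mul_mem (mul_mem (inv_mem he) ht) he) (nm_cj_iff.1 t2) _ (mem_cj.1 hw)
    rwa [← mul_smul, show e⁻¹ * t * e * (e⁻¹ * w * e) = e⁻¹ * (t * w * e) by group, mul_smul, mul_smul, mul_smul,
      mul_smul, mul_smul, ea, smul_left_cancel_iff] at h4
  obtain ⟨u, hu, hu1⟩ := h.exists_ne_one hU
  have H : ∀ {X' Q' : Subgroup G} (q : QX T p X' Q' Ω), X' ≤ stabilizer G a → cj t X' = X' → ∀ w ∈ Q',
      t • w • a = w • a → E a ≤ stabilizer G (w • a) → w • a = a := fun q a1 a2 w hw a3 a4 => by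
    by_contra a5
    obtain ⟨c, -, c1, c2⟩ := h.iv_aux q a1 ht r1 r2 r3 a2 hw a3
    refine hu1 (t3 u hu (h.comm_of_le a4 a5 (hU.le hu) ?_))
    rw [← c2, h.eqv, mem_cj, mul_assoc, c1, inv_mul_cancel_left]
    exact ht
  have tX := h.nmX (h.fix a ht) t1
  have tX' := h.nmX (h.fix a ht) t2
  have H1 := fun w hw => H q (X_fix a U) tX w hw (hc t ht t1 w hw)
  have H2 := fun w hw => H q' (X_fix a _) tX' w hw (hc' w hw)
  have D1 : ∀ c : Ω, t • c = c → ¬ cj e U ≤ stabilizer G c → Xo T p a U ≤ stabilizer G c := fun c c1 c2 => by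
    obtain ⟨P, hP, c3⟩ := h.exS a c
    have c4 := h.nm_of_uniq (fun c5 => c2 (hU'.le.trans c5)) hP c3 (h.fix a ht) c1
    by_cases c5 : P = U
    · exact h.X_le_stab hU (c5 ▸ c3)
    obtain ⟨v, hv, rfl⟩ := h.exists_cj hU hU' hP hne c5
    rw [t3 v hv (h.comm_of_three hU hU' hne hv t1 t2 c4).symm, cj_one] at c3
    exact absurd c3 c2
  have D2 : ∀ w ∈ Q, w • a ≠ a → ¬ cj e U ≤ stabilizer G (w • a) := fun w hw c1 c2 =>
    c1 (H1 w hw (h.le_of_two hU hU' hne.symm ((h.S_le_X hU).trans (q.fix (X_fix a U) hw)) c2))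
  obtain ⟨w₀, w1, w2⟩ := SetLike.not_le_iff_exists.1 q'.ne
  obtain ⟨c, c1, c2, c3⟩ := h.iv_aux q' (X_fix a _) ht r1 r2 r3 tX' w1 (hc' w₀ w1)
  have c4 : c • a ≠ a := fun e' => w2 ((q'.semi a (X_fix a _) w₀ w1).1 (c3 ▸ e'))
  have D3 : ∀ x ∈ Xo T p a U, ∀ w ∈ Q, w • a ≠ a → (c * x * c⁻¹) • w • a = w • a := fun x hx w hw a1 => by
    have a2 := D1 (c⁻¹ • w • a) (by
      rw [← mul_smul, show t * c⁻¹ = c⁻¹ * t by rw [mul_inv_eq_iff_eq_mul, mul_assoc, c2, inv_mul_cancel_left],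
        mul_smul, hc t ht t1 w hw]) fun a3 => D2 w hw a1 (by
      have a4 := q'.fix (h.X_le_stab hU' a3) c1
      rw [smul_inv_smul] at a4
      exact (h.S_le_X hU').trans a4)
    rw [mul_smul, mul_smul, a2 hx, smul_inv_smul]
  have h4 := Set.ncard_sdiff_singleton_add_one (s := Orb Q a) (a := a) (self_mem_Orb Q a) (finite_Orb Q a)
  obtain ⟨_, ⟨⟨w₁, a1, rfl⟩, a2⟩, _, ⟨⟨w₂, a3, rfl⟩, a4⟩, a5⟩ :=
    (Set.one_lt_ncard (s := Orb Q a \ {a}) ((finite_Orb Q a).subset Set.sdiff_subset)).1 (by omega)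
  have D4 : ∀ x ∈ Xo T p a U, (c * x * c⁻¹) • a = a := fun x hx => by
    have b1 := D3 x hx w₁ a1 a2
    have b2 : cj (c * x * c⁻¹) (cj w₁ U) = cj w₁ U := h.nm_of_uniq (fun b3 => a5 (by
        rw [h.eqv, cj_le_stab', ← mul_smul] at b3
        have b4 := H1 _ (mul_mem (inv_mem a1) a3) b3
        rw [mul_smul, inv_smul_eq_iff] at b4
        exact b4.symm)) (h.cjS hU w₁)
      (((cj_mono w₁ (h.S_le_X hU)).trans (q.nX w₁ a1).le).trans (q.fix (X_fix a U) a3)) b1 (D3 x hx w₂ a3 a4)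
    have b3 := h.nmX b1 b2
    rw [← h.cj_X, q.nX w₁ a1] at b3
    have b4 : (c * x * c⁻¹) • a = ((c * x * c⁻¹) * w₁⁻¹ * (c * x * c⁻¹)⁻¹ * w₁) • a := by
      rw [mul_smul _ w₁, mul_smul _ (c * x * c⁻¹)⁻¹, inv_smul_eq_iff.2 b1.symm, mul_smul _ w₁⁻¹, inv_smul_smul]
    by_contra b5
    have b6 := D3 x hx _ (mul_mem (nm_conj (q.nQ _ b3) (inv_mem a1)) a1) (b4 ▸ b5)
    rw [← b4, smul_left_cancel_iff] at b6
    exact b5 b6
  have h5 : U ≤ stabilizer G (c⁻¹ • a) := fun x hx => by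
    have b1 := D4 x (h.S_le_X hU hx)
    rw [mul_smul, mul_smul, ← eq_inv_smul_iff] at b1
    exact b1
  have h6 := H2 c⁻¹ (inv_mem c1) (h.le_of_two hU hU' hne.symm h5 ((h.S_le_X hU').trans (q'.fix (X_fix a _) (inv_mem c1))))
  exact c4 (inv_smul_eq_iff.1 h6).symm

theorem nS_eq {b : Ω} {P : Subgroup G} (hP : MaxP p (E b) P) : nS (E b) P = Nat.card P + 1 := by
  rw [nS, h.setS_eq hP, h.ncard_S hP]

/-- the module `Q / V` for `E b` -/
theorem md {b : Ω} {P V Q : Subgroup G} (hP : MaxP p (E b) P) (q1 : IsPGroup p Q) (q2 : V ≤ Q) (q3 : ∀ w ∈ Q, cj w V = V)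
    (q4 : ∀ g, cj g V = V → cj g Q = Q) (q5 : ¬ Q ≤ V) (q6 : ∀ w ∈ Q, w • b = b ↔ w ∈ V)
    (hc : ∀ x ∈ V, ∀ e ∈ E b, e * x = x * e) : Md p (E b) P V Q :=
  have h1 : ∀ d ∈ E b, cj d V = V := fun d hd => nm_of_comm fun x hx => hc x hx d hd
  { le := q2
    isP := q1
    nV := q3
    dQ := fun d hd => q4 d (h1 d hd)
    dV := h1
    mx := hP
    spl := h.spl b P hP
    gen := h.gen b P hP
    cov := fun w hw => by
      obtain ⟨R, r1, r2⟩ := h.exS b (w • b)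
      exact ⟨R, hP.mem_Cjs r1, fun x hx =>
        (inC_iff q6 (h.S_fix r1 hx) (q4 x (h1 x (r1.le hx))) hw).2 (r2 hx)⟩
    triv := fun w hw a => (q6 w hw).1 (h.triv (q1.to_le q2) hc a)
    ne := q5 }

theorem affine {b c : Ω} {P V Q : Subgroup G} (d : Md p (E b) P V Q) (hc : ∀ w ∈ Q, w • c = c ↔ w ∈ V) :
    ∃ w ∈ Q, E b ≤ stabilizer G (w • c) :=
  d.affine hc fun w _ => by
    obtain ⟨R, r1, r2⟩ := h.exS b (w • c)
    exact ⟨R, d.mx.mem_Cjs r1, r2⟩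

theorem tr {a b b' : Ω} (hb : E a ≤ stabilizer G b) (hb' : E a ≤ stabilizer G b') (hne : b' ≠ a) :
    E b' ≤ stabilizer G b := by
  obtain ⟨U, hU⟩ := h.exS0 a
  obtain ⟨Q, q⟩ := h.exists_QX hU
  obtain ⟨P, hP⟩ := h.exS0 b'
  have h1 : ∀ e ∈ E a, ∀ f ∈ E b', e * f = f * e := fun e he f hf => h.comm_of_le hb' hne he hf
  have h2 := h.X_le_stab hU (hU.le.trans hb)
  have h3 := h.X_le_stab hU (hU.le.trans hb')
  have d := h.md hP q.isP q.le q.nX q.nQ q.ne (q.semi b' h3) fun x hx f hf =>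
    h.comm_of_nm (X_isP a U) h3 (fun f hf => h.nmX (h.sym hb' hf) (nm_of_comm fun u hu => (h1 u (hU.le hu) f hf).symm)) hx hf
  obtain ⟨n, n0, hn⟩ := d.exists_pow
  have h4 : 1 < p ^ n := Nat.one_lt_pow n0.ne' hp.1.one_lt
  obtain ⟨s, s1, s2, w, w1, w2⟩ := h.iv hU q (by
    rw [Md.ncard_Orb q.le (q.semi a (X_fix a U)), (d.card hn).1]
    nlinarith only [h4])
  have s3 := h.nmX (h.fix a s1) s2
  have s4 := q.nQ s s3
  have h5 : Cm q.nX {s} ≤ Xo T p a U :=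
    (d.irr (Cm_le _ _) (le_Cm q.nX q.le fun x hx => by rwa [Set.mem_singleton_iff.1 hx]) fun f hf v hv =>
      ⟨nm_conj (d.dQ f hf) hv.1, fun x hx => by
        rw [Set.mem_singleton_iff.1 hx]
        have h6 := nm_conj (d.dV f hf) (hv.2 s rfl)
        have h7 := h1 s s1 f hf
        rwa [show f * (v⁻¹ * (s * v * s⁻¹)) * f⁻¹ = f * v⁻¹ * f⁻¹ * ((f * s) * v * (f * s)⁻¹) by group, ← h7,
          show f * v⁻¹ * f⁻¹ * ((s * f) * v * (s * f)⁻¹) = (f * v * f⁻¹)⁻¹ * (s * (f * v * f⁻¹) * s⁻¹) by group] at h6⟩).resolve_right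
      fun e => w2 ((inC_iff (q.semi a (X_fix a U)) (h.fix a s1) s4 w1).1 ((e w1).2 s rfl))
  obtain ⟨v, v1, v2⟩ := h.affine d (q.semi b h2)
  have h6 : E b' ≤ stabilizer G ((s * v * s⁻¹ * v⁻¹) • v • b) := fun f hf => by
    show f • _ = _
    rw [mul_smul, inv_smul_smul, mul_smul, inv_smul_eq_iff.2 (hb s1).symm, mul_smul, ← mul_smul f, ← h1 s s1 f hf,
      mul_smul, v2 hf]
  have h7 : s * v * s⁻¹ * v⁻¹ ∈ Q := mul_mem (nm_conj s4 v1) (inv_mem v1)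
  have h8 := d.semi_smul (q.semi b h2) v1
  have h9 := (h8 _ h7).2 (d.triv _ h7 fun f hf => (inC_iff h8 (v2 hf) (d.dQ f hf) h7).2 (h6 hf))
  rw [mul_smul, inv_smul_smul, mul_smul, inv_smul_eq_iff.2 (hb s1).symm, mul_smul] at h9
  have h10 : v ∈ Xo T p a U := h5 ⟨v1, fun x hx => by
    rw [Set.mem_singleton_iff.1 hx]
    exact (inC_iff (q.semi b h2) (hb s1) s4 v1).2 h9⟩
  rwa [h2 h10] at v2

/-- `E a` fixes only `a` -/
theorem phi {a b : Ω} (hb : E a ≤ stabilizer G b) : b = a := by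
  have h1 : ∀ {x y z : Ω}, E x ≤ stabilizer G y → E y ≤ stabilizer G z → E x ≤ stabilizer G z := fun {x y z} a1 a2 => by
    by_cases e : x = y
    · rwa [e]
    · exact h.tr a2 (h.sym a1) e
  let K : Subgroup G :=
    { carrier := {g | E a ≤ stabilizer G (g • a)}
      one_mem' := by show E a ≤ stabilizer G ((1 : G) • a); rw [one_smul]; exact h.fix a
      mul_mem' := fun {g k} hg hk => h1 hg (by rw [h.eqv, mul_smul]; exact cj_le_stab.2 hk)
      inv_mem' := fun {g} hg => h.sym (by rw [h.eqv, cj_le_stab', inv_inv]; exact hg) }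
  have h2 : stabilizer G a ≤ K := fun g hg => by show E a ≤ stabilizer G (g • a); rw [hg]; exact h.fix a
  obtain ⟨g, -, rfl⟩ := h.A.trans a b
  by_contra e
  have h3 := (h.A.max a).2 K (lt_of_le_of_ne h2 fun e' => e (show g ∈ stabilizer G a from e' ▸ hb))
  refine h.E_ne_bot a (h.A.eq_bot_of_fix fun c => ?_)
  obtain ⟨k, -, rfl⟩ := h.A.trans a c
  exact (h3 ▸ Subgroup.mem_top k : k ∈ K)

end Geo

end Cfsg.Agent.TH.Own.Rk
end

-- part: TH/Own/RkNB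
section
/-!
# S3541, `BoxRk1`: `p ∤ |C_T(E)|`, no bad points, `X = U` (helper90)
-/

set_option autoImplicit false
set_option linter.unusedSectionVars false
set_option linter.unusedVariables false

namespace Cfsg.Agent.TH.Own.Rk

open MulAction

variable {G : Type*} [Group G]

theorem mem_of_coprime {H : Subgroup G} {x : G} {a b : ℕ} (h : a.Coprime b) (h1 : x ^ a ∈ H) (h2 : x ^ b ∈ H) : x ∈ H := by
  have h3 : x = (x ^ a) ^ Nat.gcdA a b * (x ^ b) ^ Nat.gcdB a b := by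
    rw [← zpow_natCast, ← zpow_natCast, ← zpow_mul, ← zpow_mul, ← zpow_add, ← Nat.gcd_eq_gcd_ab, h.gcd_eq_one]
    simp
  rw [h3]
  exact mul_mem (zpow_mem h1 _) (zpow_mem h2 _)

theorem nm_pow {g : G} {K : Subgroup G} (h : cj g K = K) (n : ℕ) : cj (g ^ n) K = K :=
  nm_iff.1 (pow_mem (nm_iff.2 h) n)

theorem nm_cen {K : Subgroup G} {g : G} (h : cj g K = K) :
    cj g (Subgroup.centralizer (K : Set G)) = Subgroup.centralizer (K : Set G) := by rw [cj_centralizer, h]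

/-- a `p`-group which normalises a non-trivial `p`-group centralises a non-trivial element -/
theorem inf_cen_ne_bot [Finite G] {p : ℕ} [hp : Fact p.Prime] {U R : Subgroup G} (hU : IsPGroup p U) (hR : IsPGroup p R)
    (h0 : U ≠ ⊥) (h1 : ∀ x ∈ R, cj x U = U) : U ⊓ Subgroup.centralizer (R : Set G) ≠ ⊥ := fun e => by
  have h2 := @modEq_fix G _ G (cAct G) p _ _ hR (U : Set G) (Set.toFinite _) fun g hg v hv => nm_conj (h1 g hg) hv
  have h3 : (U : Set G) ∩ @Fx G _ G (cAct G) R = {1} := by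
    ext v
    constructor
    · rintro ⟨a1, a2⟩
      exact Subgroup.mem_bot.1 (e ▸ (⟨a1, fun k hk => mul_inv_eq_iff_eq_mul.1 (a2 hk)⟩ :
        v ∈ U ⊓ Subgroup.centralizer (R : Set G)))
    · rintro rfl
      exact ⟨one_mem U, fun k _ => by show k * 1 * k⁻¹ = 1; simp⟩
  obtain ⟨n, hn⟩ := card_eq_pow hU
  rw [h3, Set.ncard_singleton, ← Nat.card_coe_set_eq, SetLike.coe_sort_coe, hn] at h2
  have h4 : n ≠ 0 := fun a => h0 (Subgroup.card_eq_one.1 (by rw [hn, a, pow_zero]))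
  exact hp.1.one_lt.ne' (Nat.dvd_one.1 ((h2.dvd_iff dvd_rfl).1 (dvd_pow_self p h4)))

theorem one_lt_card_of_ne_bot [Finite G] {K : Subgroup G} (h : K ≠ ⊥) : 1 < Nat.card K := (Subgroup.one_lt_card_iff_ne_bot K).2 h

namespace Geo

variable {Ω : Type*} [MulAction G Ω] {T : Subgroup G} {p m : ℕ} {E : Ω → Subgroup G} (h : Geo Ω T p m E)
  [Finite G] [hp : Fact p.Prime]

include h

theorem uniq' {b c : Ω} (hc : c ≠ b) {P P' : Subgroup G} (hP : MaxP p (E b) P) (hP' : MaxP p (E b) P')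
    (h1 : P ≤ stabilizer G c) (h2 : P' ≤ stabilizer G c) : P = P' := h.uniq (fun e => hc (h.phi e)) hP hP' h1 h2

theorem nm' {b c : Ω} (hc : c ≠ b) {P : Subgroup G} (hP : MaxP p (E b) P) (h1 : P ≤ stabilizer G c) {g : G}
    (hb : g • b = b) (hg : g • c = c) : cj g P = P := h.nm_of_uniq (fun e => hc (h.phi e)) hP h1 hb hg

/-- a non-trivial element of `P` fixes only the points fixed by `P` -/
theorem fix_of_mem {b c : Ω} {P : Subgroup G} (hP : MaxP p (E b) P) {u : G} (hu : u ∈ P) (h1 : u ≠ 1) (hc : u • c = c) :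
    P ≤ stabilizer G c := by
  by_cases e : c = b
  · rw [e]; exact h.S_fix hP
  obtain ⟨R, r1, r2⟩ := h.exS b c
  rwa [h.eq_of_nm hP r1 hu h1 (h.nm' e r1 r2 (h.S_fix hP hu) hc)] at r2

theorem two_of_md {a : Ω} {D P V Q P₀ : Subgroup G} (d : Md p D P V Q) (hD : D ≤ stabilizer G a)
    (hV : V ≤ stabilizer G a) (p1 : IsPGroup p P₀) (p2 : P₀ ≤ T) (p3 : P₀ ≤ stabilizer G a)
    (p4 : ∀ b, b ≠ a → P₀ ≤ stabilizer G b → b ∈ Orb (Cm d.nV P) a) : False :=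
  h.A.not_trans p1 p2 p3 fun b c hb hc b1 c1 => by
    obtain ⟨z, hz, rfl⟩ := p4 b hb b1
    obtain ⟨z', hz', rfl⟩ := p4 c hc c1
    obtain ⟨g, g1, -, g2⟩ := d.trans hz (fun e => hb (hV e)) hz' fun e => hc (hV e)
    refine ⟨g, hD g1, ?_⟩
    have h1 : (z'⁻¹ * (g * z * g⁻¹)) • a = a := hV g2
    rwa [mul_smul, inv_smul_eq_iff, mul_smul, mul_smul, inv_smul_eq_iff.2 (hD g1).symm] at h1

/-- `p ∤ |C_T(E)|` -/
theorem nopc {a : Ω} {g : G} (hg : g ∈ T) {n : ℕ} (hn : g ^ p ^ n = 1) (hc : ∀ e ∈ E a, e * g = g * e) : g = 1 := by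
  by_contra h0
  have := h.A.nrm
  obtain ⟨S, s1, hS⟩ := exists_maxP (L := T ⊓ Subgroup.centralizer (E a : Set G)) (isP_zpowers hn)
    ((Subgroup.zpowers_le).2 ⟨hg, hc⟩)
  have s2 : ∀ x ∈ S, ∀ e ∈ E a, e * x = x * e := fun x hx => (hS.le hx).2
  have s3 : S ≤ stabilizer G a := fun x hx => h.smul_eq (nm_of_comm fun e he => (s2 x hx e he).symm)
  have s4 : S ≤ T := hS.le.trans inf_le_left
  obtain ⟨Q, q1, q2, q3, q4, q5, q6, q7⟩ := h.exists_Q (a := a) (D := S)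
    (fun e => h0 (Subgroup.mem_bot.1 (e ▸ s1 (Subgroup.mem_zpowers g)))) hS.isP s4 s3 fun R r1 r2 r3 r4 _ r6 =>
      (hS.max R r1 (fun x hx => ⟨r3 hx, fun e he => h.comm_of_nm r1 r4
        (fun e he => r6 e (h.fix a he) (nm_of_comm fun y hy => s2 y hy e he)) hx he⟩) r2).le
  obtain ⟨U, hU⟩ := h.exS0 a
  have d := h.md hU q1 q3 q4 q5 q6 q7 s2
  refine h.two_of_md d (h.fix a) s3 (P₀ := S ⊔ U) (isP_sup hS.isP hU.isP fun x hx =>
    nm_of_comm fun u hu => (s2 x hx u (hU.le hu)).symm) (sup_le s4 (h.S_T hU)) (sup_le s3 (h.S_fix hU)) fun b _ b1 => ?_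
  obtain ⟨w, w1, w2⟩ := h.affine d (h.semi hS.isP s4 s3 (le_sup_left.trans b1) q1 q2 q5 q7 fun R r1 r2 r3 r4 k hk => by
    rw [← hS.max (R ⊓ (T ⊓ Subgroup.centralizer (E a : Set G))) (r1.to_le inf_le_left) inf_le_right (le_inf r2 hS.le)]
    exact nm_inf (cj_of_mem hk) (nm_inf (cj_normal k T) (nm_cen (h.nmE (r4 hk)))))
  rw [d.Orb_Cm q7 (h.S_fix hU)]
  exact ⟨⟨w⁻¹, inv_mem w1, inv_smul_eq_iff.2 (h.phi w2).symm⟩, le_sup_right.trans b1⟩

/-- the stabiliser in `E` of two Sylow subgroups has order prime to `p` -/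
theorem coprime_of_two {a : Ω} {U U' : Subgroup G} (hU : MaxP p (E a) U) (hU' : MaxP p (E a) U') (hne : U' ≠ U) {s : G}
    (hs : s ∈ E a) (h1 : cj s U = U) (h2 : cj s U' = U') : ¬ p ∣ orderOf s := fun ⟨k, hk⟩ => by
  have h3 : (s ^ k) ^ p ^ 1 = 1 := by rw [pow_one, ← pow_mul, mul_comm, ← hk, pow_orderOf_eq_one]
  have h4 := h.eq_one_of_mem hU' hU hne (hU'.mem_of_nm h3 (pow_mem hs k) (nm_pow h2 k))
    (hU.mem_of_nm h3 (pow_mem hs k) (nm_pow h1 k))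
  have h5 := orderOf_pos s
  have h6 : 0 < k := Nat.pos_of_ne_zero fun e => by rw [e] at hk; omega
  have h7 := Nat.le_of_dvd h6 (orderOf_dvd_of_pow_eq_one h4)
  have := hp.1.two_le
  nlinarith

theorem nm_all {a : Ω} {U U' : Subgroup G} (hU : MaxP p (E a) U) (hU' : MaxP p (E a) U') (hne : U' ≠ U) {k : G}
    (h1 : ∀ u ∈ U, k * u = u * k) (h2 : cj k U' = U') {R : Subgroup G} (hR : MaxP p (E a) R) : cj k R = R := by
  by_cases e : R = U
  · rw [e]; exact nm_of_comm h1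
  obtain ⟨u, hu, rfl⟩ := h.exists_cj hU hU' hR hne e
  exact nm_cj_of_comm h2 (h1 u hu)

/-- a `p`-element of `T_a` which centralises `U` lies in `U` -/
theorem mem_of_comm {a : Ω} {U : Subgroup G} (hU : MaxP p (E a) U) {g : G} (g1 : g ∈ T) (g2 : g • a = a) {n : ℕ}
    (g3 : g ^ p ^ n = 1) (g4 : ∀ x ∈ U, g * x = x * g) : g ∈ U := by
  obtain ⟨U', hU', hne⟩ := h.ne a U hU
  obtain ⟨t, ht, r, j, r1, r2, r3, t1, t2, t3⟩ := h.reg a U _ hU hU' hne.symm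
  obtain ⟨u, hu, h1⟩ := h.exists_cj hU hU' (h.cjS' hU' g2) hne (h.cj_ne (b := a) hne (nm_of_comm g4))
  have k1 : cj (u⁻¹ * g) U = U := nm_mul (cj_of_mem (inv_mem hu)) (nm_of_comm g4)
  have k2 : cj (u⁻¹ * g) U' = U' := by rw [cj_mul, ← h1, cj_inv_cj]
  have k3 : (u⁻¹ * g) • a = a := by rw [mul_smul, g2]; exact h.S_fix hU (inv_mem hu)
  have s0 : (u⁻¹ * g) * t * (u⁻¹ * g)⁻¹ * t⁻¹ ∈ E a := mul_mem (nm_conj (h.nmE k3) ht) (inv_mem ht)
  have s1 := h.coprime_of_two hU hU' hne s0 (nm_mul (nm_mul (nm_mul k1 t1) (nm_inv k1)) (nm_inv t1))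
    (nm_mul (nm_mul (nm_mul k2 t2) (nm_inv k2)) (nm_inv t2))
  have u1 : u⁻¹ * (t * u * t⁻¹) ∈ U := mul_mem (inv_mem hu) (nm_conj t1 hu)
  have s2 : g * (t * g⁻¹ * t⁻¹) ∈ Subgroup.centralizer (U : Set G) := by
    refine mul_mem (fun x hx => (g4 x hx).symm) ?_
    exact nm_conj (nm_cen t1) (inv_mem fun x hx => (g4 x hx).symm)
  have s3 : (u⁻¹ * g) * t * (u⁻¹ * g)⁻¹ * t⁻¹ = u⁻¹ * (t * u * t⁻¹) * (g * (t * g⁻¹ * t⁻¹)) := by
    rw [mul_assoc u⁻¹ (t * u * t⁻¹), s2 _ (nm_conj t1 hu)]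
    group
  obtain ⟨i, hi⟩ := exists_pow_of_isP hU.isP u1
  have s4 : u⁻¹ * (t * u * t⁻¹) ∈ Subgroup.centralizer (U : Set G) := by
    refine mem_of_coprime (Nat.Coprime.pow_left i ((Nat.Prime.coprime_iff_not_dvd hp.1).2 s1)) (hi ▸ one_mem _) ?_
    have s5 := pow_orderOf_eq_one ((u⁻¹ * g) * t * (u⁻¹ * g)⁻¹ * t⁻¹)
    generalize orderOf ((u⁻¹ * g) * t * (u⁻¹ * g)⁻¹ * t⁻¹) = o at s5 ⊢
    rw [s3, Commute.mul_pow (s2 _ u1), mul_eq_one_iff_eq_inv] at s5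
    rw [s5]
    exact inv_mem (pow_mem s2 o)
  obtain ⟨z, hz, h2⟩ := exists_fixed r1 r2 r3 (X := U ⊓ Subgroup.centralizer (U : Set G)) (hU.isP.to_le inf_le_left)
    (nm_inf t1 (nm_cen t1)) (w := u) ⟨u1, s4⟩
  have h3 : u⁻¹ = z := inv_eq_of_mul_eq_one_right (t3 _ (mul_mem hu hz.1) h2.symm)
  rw [h3] at k2
  obtain ⟨l, hl⟩ := exists_pow_of_isP hU.isP hz.1
  have h4 := h.nopc (a := a) (g := z * g) (mul_mem (h.S_T hU hz.1) g1) (n := l + n) (by
    rw [Commute.mul_pow (g4 z hz.1).symm, pow_add, pow_mul, hl, one_pow, one_mul, mul_comm, pow_mul, g3, one_pow])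
    fun e he => (h.comm_of_fixS (fun R hR => h.nm_all hU hU' hne (fun x hx => by
      rw [mul_assoc, g4 x hx, ← mul_assoc, ← hz.2 x hx, mul_assoc]) k2 hR) he).symm
  rw [← inv_eq_of_mul_eq_one_right h4]
  exact inv_mem hz.1

theorem nb0 {a b : Ω} (hne : b ≠ a) {U U₁ : Subgroup G} (hU : MaxP p (E a) U) (hU₁ : MaxP p (E b) U₁)
    (h1 : U ≤ stabilizer G b) (h2 : U₁ ≤ stabilizer G a) : ∃ y ∈ U, y ∈ U₁ ∧ y ≠ 1 := by
  by_contra hcon
  obtain ⟨g, g1, g2⟩ := h.exists_ne_one hU₁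
  obtain ⟨n, hn⟩ := exists_pow_of_isP hU₁.isP g1
  refine hcon ⟨g, h.mem_of_comm hU (h.S_T hU₁ g1) (h2 g1) hn fun x hx => ?_, g1, g2⟩
  by_contra e
  refine hcon ⟨g * x * g⁻¹ * x⁻¹, mul_mem (nm_conj (h.nm' hne hU h1 (h2 g1) (h.S_fix hU₁ g1)) hx) (inv_mem hx), ?_,
    fun e' => e (mul_inv_eq_iff_eq_mul.1 (mul_inv_eq_one.1 e'))⟩
  have h3 := mul_mem g1 (nm_conj (h.nm' hne.symm hU₁ h2 (h1 hx) (h.S_fix hU hx)) (inv_mem g1))
  rwa [← mul_assoc, ← mul_assoc] at h3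

theorem fx_eq {a b : Ω} (hne : b ≠ a) {U U₁ : Subgroup G} (hU : MaxP p (E a) U) (hU₁ : MaxP p (E b) U₁)
    (h1 : U ≤ stabilizer G b) (h2 : U₁ ≤ stabilizer G a) : (Fx U₁ : Set Ω) = Fx U := by
  obtain ⟨y, y1, y2, y3⟩ := h.nb0 hne hU hU₁ h1 h2
  exact Set.ext fun c => ⟨fun e => h.fix_of_mem hU y1 y3 (e y2), fun e => h.fix_of_mem hU₁ y2 y3 (e y1)⟩

/-- no bad points -/
theorem nb {a b : Ω} (hne : b ≠ a) {U U₁ : Subgroup G} (hU : MaxP p (E a) U) (hU₁ : MaxP p (E b) U₁)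
    (h1 : U ≤ stabilizer G b) (h2 : U₁ ≤ stabilizer G a) : Xo T p b U₁ ≤ Xo T p a U := by
  have := h.A.nrm
  have h3 : ∀ g : G, g ∈ T ⊓ ⨅ c ∈ (Fx U : Set Ω), stabilizer G c ↔ g ∈ T ∧ ∀ c : Ω, U ≤ stabilizer G c → g • c = c :=
    fun g => by simp only [Subgroup.mem_inf, Subgroup.mem_iInf, mem_stabilizer_iff, mem_Fx]
  obtain ⟨o1, o2, -⟩ := Op_spec (p := p) (T ⊓ ⨅ c ∈ (Fx U : Set Ω), stabilizer G c)
  have o3 : ∀ g ∈ T ⊓ ⨅ c ∈ (Fx U : Set Ω), stabilizer G c, g • a = a ∧ g • b = b := fun g hg =>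
    ⟨((h3 g).1 hg).2 a (h.S_fix hU), ((h3 g).1 hg).2 b h1⟩
  refine le_trans (le_Op (fun x hx => (h3 x).2 ⟨X_T b U₁ hx, fun c hc => h.X_le_stab hU₁ ?_ hx⟩) (X_isP b U₁)
    fun g hg => h.nmX (o3 g hg).2 (h.nm' hne.symm hU₁ h2 (o3 g hg).2 (o3 g hg).1))
    (le_X o2 (o1.trans inf_le_left) (fun x hx => (o3 x (o1 hx)).1)
      (fun x hx => h.nm' hne hU h1 (o3 x (o1 hx)).1 (o3 x (o1 hx)).2) fun g g1 _ g3 => nm_Op (nm_of_conj fun x hx =>
        (h3 _).2 ⟨mul_mem (mul_mem g1 ((h3 x).1 hx).1) (inv_mem g1), fun c hc => ?_⟩))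
  · rw [← mem_Fx, h.fx_eq hne hU hU₁ h1 h2]
    exact hc
  · rw [mul_smul, mul_smul, ((h3 x).1 hx).2 _ (le_stab_smul (nm_inv g3) hc), smul_inv_smul]

theorem exists_at {b c : Ω} {P : Subgroup G} (hP : MaxP p (E b) P) (hc : P ≤ stabilizer G c) :
    ∃ P₁, MaxP p (E c) P₁ ∧ (Fx P₁ : Set Ω) = Fx P := by
  by_cases e : c = b
  · exact ⟨P, e ▸ hP, rfl⟩
  obtain ⟨R, r1, r2⟩ := h.exS c b
  exact ⟨R, r1, h.fx_eq e hP r1 hc r2⟩

theorem line_uniq {a x c c' : Ω} {U P : Subgroup G} (hU : MaxP p (E a) U) (hP : MaxP p (E x) P) (hne : c' ≠ c)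
    (h1 : U ≤ stabilizer G c) (h2 : U ≤ stabilizer G c') (h3 : P ≤ stabilizer G c) (h4 : P ≤ stabilizer G c') :
    (Fx P : Set Ω) = Fx U := by
  obtain ⟨U₁, u1, u2⟩ := h.exists_at hU h1
  obtain ⟨P₁, p1, p2⟩ := h.exists_at hP h3
  rw [← u2, ← p2, h.uniq' hne p1 u1 (by rw [← mem_Fx, p2]; exact h4) (by rw [← mem_Fx, u2]; exact h2)]

/-- the points of a line are joined to a point off the line by distinct lines -/
theorem fline {a x : Ω} {U : Subgroup G} (hU : MaxP p (E a) U) (hx : ¬ U ≤ stabilizer G x) {A : Set Ω} (hA : A ⊆ Fx U)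
    {B : Set (Subgroup G)} (hB : ∀ c ∈ A, ∀ P, MaxP p (E x) P → P ≤ stabilizer G c → P ∈ B) : A.ncard ≤ B.ncard := by
  choose f f1 f2 using h.exS x
  refine Set.ncard_le_ncard_of_injOn f (fun c hc => hB c hc _ (f1 c) (f2 c)) (fun c hc c' hc' e => by_contra fun e' => hx ?_)
    (Set.toFinite _)
  rw [← mem_Fx, ← h.line_uniq hU (f1 c') e' (hA hc') (hA hc) (f2 c') (e ▸ f2 c)]
  exact h.S_fix (f1 c')

theorem finΩ : Finite Ω := h.A.finite

theorem dvd_F {a : Ω} {U Q V : Subgroup G} (hU : MaxP p (E a) U) (q : QX T p (Xo T p a U) Q Ω) (h1 : Xo T p a U ≤ V)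
    (h2 : V ≤ Q) : (Xo T p a U).relIndex V ∣ (Fx U : Set Ω).ncard := by
  have := h.finΩ
  refine dvd_ncard_of_Orb V _ (Set.toFinite _) (fun g hg b hb => (h.S_le_X hU).trans (q.fix (h.X_le_stab hU hb) (h2 hg)))
    fun b hb => ?_
  rw [Md.ncard_Orb h1 fun w hw => q.semi b (h.X_le_stab hU hb) w (h2 hw)]

theorem p_dvd_F {a : Ω} {U : Subgroup G} (hU : MaxP p (E a) U) : p ∣ (Fx U : Set Ω).ncard := by
  obtain ⟨Q, q⟩ := h.exists_QX hU
  obtain ⟨k, hk⟩ := relIndex_eq_pow (A := Xo T p a U) q.isP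
  refine Dvd.dvd.trans ?_ (h.dvd_F hU q q.le le_rfl)
  rw [hk]
  refine dvd_pow_self p fun e => q.ne (Subgroup.relIndex_eq_one.1 (by rw [hk, e, pow_zero]))

theorem le_X_of_two {a : Ω} {U U' R : Subgroup G} (hU : MaxP p (E a) U) (hU' : MaxP p (E a) U') (hne : U' ≠ U)
    (r1 : IsPGroup p R) (r2 : R ≤ T) (r3 : R ≤ stabilizer G a) (r4 : ∀ x ∈ R, cj x U = U)
    (r5 : ∀ g, g • a = a → cj g U = U → cj g U' = U' → cj g R = R) : R ≤ Xo T p a U := by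
  refine le_sup_left.trans (le_X (R := R ⊔ U) (isP_sup r1 hU.isP r4) (sup_le r2 (h.S_T hU)) (sup_le r3 (h.S_fix hU))
    (nm_of_sup r4 fun _ => cj_of_mem) fun g _ g2 g3 => ?_)
  obtain ⟨u, hu, h1⟩ := h.exists_cj hU hU' (h.cjS' hU' g2) hne (h.cj_ne (b := a) hne g3)
  have k1 : cj (u⁻¹ * g) U = U := nm_mul (cj_of_mem (inv_mem hu)) g3
  have k2 := nm_sup (r5 (u⁻¹ * g) (by rw [mul_smul, g2]; exact h.S_fix hU (inv_mem hu)) k1
    (by rw [cj_mul, ← h1, cj_inv_cj])) k1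
  have k3 := nm_mul (cj_of_mem (H := R ⊔ U) (Subgroup.mem_sup_right hu)) k2
  rwa [mul_inv_cancel_left] at k3

/-- the centraliser of `K` is transitive on the Sylow subgroups normalised by `K` -/
theorem exists_cj_comm {b : Ω} {K : Set G} (h3 : 3 ≤ {R | MaxP p (E b) R ∧ ∀ k ∈ K, cj k R = R}.ncard) {P P' : Subgroup G}
    (hP : MaxP p (E b) P) (hP' : MaxP p (E b) P') (k1 : ∀ k ∈ K, cj k P = P) (k2 : ∀ k ∈ K, cj k P' = P') :
    ∃ R, MaxP p (E b) R ∧ (∀ k ∈ K, cj k R = R) ∧ ∃ u ∈ R, (∀ k ∈ K, k * u = u * k) ∧ cj u P = P' := by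
  obtain ⟨R, ⟨r1, r2⟩, r3⟩ : ∃ R ∈ {R | MaxP p (E b) R ∧ ∀ k ∈ K, cj k R = R}, R ∉ ({P, P'} : Set (Subgroup G)) := by
    by_contra e
    have h1 := Set.ncard_le_ncard (s := {R | MaxP p (E b) R ∧ ∀ k ∈ K, cj k R = R}) (t := {P, P'})
      (fun R hR => by_contra fun e' => e ⟨R, hR, e'⟩) (Set.toFinite _)
    have h2 := Set.ncard_insert_le P ({P'} : Set (Subgroup G))
    rw [Set.ncard_singleton] at h2
    omega
  have r4 : P ≠ R := fun e => r3 (.inl e.symm)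
  obtain ⟨u, hu, rfl⟩ := h.exists_cj r1 hP hP' r4 fun e => r3 (.inr e.symm)
  exact ⟨R, r1, r2, u, hu, fun k hk => h.comm_of_three r1 hP r4 hu (r2 k hk) (k1 k hk) (k2 k hk), rfl⟩

end Geo

end Cfsg.Agent.TH.Own.Rk
end

-- part: TH/Own/RkXU
section
/-!
# S3541, `BoxRk1`: `X = U` (helper90)
-/

set_option autoImplicit false
set_option linter.unusedSectionVars false
set_option linter.unusedVariables false

namespace Cfsg.Agent.TH.Own.Rk

open MulAction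

variable {G : Type*} [Group G]

namespace Geo

variable {Ω : Type*} [MulAction G Ω] {T : Subgroup G} {p m : ℕ} {E : Ω → Subgroup G} (h : Geo Ω T p m E)
  [Finite G] [hp : Fact p.Prime]

include h

theorem R_eq_bot {a : Ω} {U U' : Subgroup G} (hU : MaxP p (E a) U) (hU' : MaxP p (E a) U') (hne : U' ≠ U) :
    Xo T p a U ⊓ Subgroup.normalizer (U' : Set G) = ⊥ := by
  by_contra h0
  have := h.finΩ
  set R := Xo T p a U ⊓ Subgroup.normalizer (U' : Set G) with hR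
  have r1 : IsPGroup p R := (X_isP a U).to_le inf_le_left
  have r2 : R ≤ T := inf_le_left.trans (X_T a U)
  have r3 : R ≤ stabilizer G a := inf_le_left.trans (X_fix a U)
  have r4 : ∀ k ∈ (R : Set G), cj k U = U := fun k hk => X_nm hk.1
  have r5 : ∀ k ∈ (R : Set G), cj k U' = U' := fun k hk => nm_iff.1 hk.2
  have r6 : ∀ g, g • a = a → cj g U = U → cj g U' = U' → cj g R = R := fun g g1 g2 g3 =>
    nm_inf (h.nmX g1 g2) (by rw [cj_normalizer, g3])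
  set C := Subgroup.centralizer (R : Set G) with hC
  set S₀ := {P | MaxP p (E a) P ∧ ∀ k ∈ (R : Set G), cj k P = P} with hS₀
  have c1 : ∀ P ∈ S₀, P ⊓ C ≠ ⊥ := fun P hP => inf_cen_ne_bot hP.1.isP r1 (h.ne_bot hP.1) hP.2
  have c2 : S₀.ncard = Nat.card ↥(U ⊓ C) + 1 := h.ncard_fixS hU hU' hne r4 r5
  have c3 : 3 ≤ S₀.ncard := by
    have := one_lt_card_of_ne_bot (c1 U ⟨hU, r4⟩)
    omega
  have c4 : ∀ g, g • a = a → cj g R = R → ∀ P ∈ S₀, cj g P ∈ S₀ := fun g g1 g2 P hP =>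
    ⟨h.cjS' hP.1 g1, fun k hk => nm_cj_iff.2 (hP.2 _ (nm_conj' g2 hk))⟩
  have c5 : ∀ u ∈ C, cj u R = R := fun u hu => nm_of_comm fun x hx => (hu x hx).symm
  obtain ⟨Q, q1, q2, q3, q4, q5, q6, q7⟩ := h.exists_Q (a := a) (D := R) h0 r1 r2 r3 fun R₁ a1 a2 a3 a4 a5 a6 => by
    have b1 := @modEq_fix G _ _ (cjAct G) p _ _ a1 S₀ (Set.toFinite _) fun g hg P hP => c4 g (a4 hg) (a5 g hg) P hP
    obtain ⟨P₀, b2, b3⟩ : (S₀ ∩ @Fx G _ _ (cjAct G) R₁).Nonempty := by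
      rw [← Set.ncard_pos (Set.toFinite _)]
      refine Nat.pos_of_ne_zero fun e => ?_
      obtain ⟨n, hn⟩ := card_eq_pow (hU.isP.to_le (inf_le_left : U ⊓ C ≤ U))
      have b4 : n ≠ 0 := fun e' => c1 U ⟨hU, r4⟩ (Subgroup.card_eq_one.1 (by rw [hn, e', pow_zero]))
      rw [e, c2, hn] at b1
      exact hp.1.one_lt.ne' (Nat.dvd_one.1 ((Nat.dvd_add_right (dvd_pow_self p b4)).1 ((Nat.modEq_zero_iff_dvd).1 b1)))
    have b4 : ∀ P ∈ S₀, ∀ x ∈ R₁, cj x P = P := fun P hP x hx => by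
      obtain ⟨P₃, b5, -, u, b6, b7, rfl⟩ := h.exists_cj_comm c3 b2.1 hP.1 b2.2 hP.2
      exact nm_cj_iff.2 (b3 (nm_conj' (a6 u (h.S_fix b5 b6) (c5 u b7)) hx))
    exact le_inf (h.le_X_of_two hU hU' hne a1 a3 a4 (b4 U ⟨hU, r4⟩) fun g g1 g2 g3 => a6 g g1 (r6 g g1 g2 g3))
      fun x hx => nm_iff.2 (b4 U' ⟨hU', r5⟩ x hx)
  set D := ⨆ P ∈ S₀, P ⊓ C with hD
  have d1 : ∀ P ∈ S₀, P ⊓ C ≤ D := fun P hP => le_iSup₂_of_le P hP le_rfl
  have d2 : D ≤ E a ⊓ C := iSup₂_le fun P hP => inf_le_inf_right _ hP.1.le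
  have d3 : ∀ d ∈ C, ∀ P, cj d (P ⊓ C) = cj d P ⊓ C := fun d hd P => by rw [cj_inf, cj_of_mem hd]
  have d4 : Cjs D (U ⊓ C) = (fun P => P ⊓ C) '' S₀ := by
    ext P
    constructor
    · rintro ⟨d, hd, rfl⟩
      exact ⟨_, c4 d (h.fix a (d2 hd).1) (c5 d (d2 hd).2) U ⟨hU, r4⟩, (d3 d (d2 hd).2 U).symm⟩
    · rintro ⟨P, hP, rfl⟩
      obtain ⟨P₃, b5, b8, u, b6, b7, rfl⟩ := h.exists_cj_comm c3 hU hP.1 r4 hP.2
      exact ⟨u, d1 P₃ ⟨b5, b8⟩ ⟨b6, b7⟩, (d3 u b7 U).symm⟩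
  have d5 : ∀ P ∈ S₀, ∀ P', MaxP p (E a) P' → P ⊓ C ≤ P' → P' = P := fun P hP P' hP' e => by_contra fun e' =>
    c1 P hP (le_bot_iff.1 (h.ti a P' P hP' hP.1 e' ▸ le_inf e inf_le_left))
  have d6 : ∀ P ∈ S₀, ∀ c : Ω, P ⊓ C ≤ stabilizer G c → P ≤ stabilizer G c := fun P hP c e => by
    obtain ⟨⟨u, hu⟩, b1⟩ := (Subgroup.ne_bot_iff_exists_ne_one).1 (c1 P hP)
    exact h.fix_of_mem hP.1 hu.1 (fun e' => b1 (Subtype.ext e')) (e hu)
  have d7 : D ≤ stabilizer G a := d2.trans (inf_le_left.trans (h.fix a))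
  have d8 : ∀ x ∈ D, cj x Q = Q := fun x hx => q5 x (c5 x (d2 hx).2)
  have d : Md p D (U ⊓ C) R Q :=
    { le := q3
      isP := q1
      nV := q4
      dQ := d8
      dV := fun x hx => c5 x (d2 hx).2
      mx := ⟨d1 U ⟨hU, r4⟩, hU.isP.to_le inf_le_left, fun R' a1 a2 a3 => by
        obtain ⟨P, b1, b2⟩ := exists_maxP (L := E a) a1 (a2.trans (d2.trans inf_le_left))
        rw [d5 U ⟨hU, r4⟩ P b2 (a3.trans b1)] at b1
        exact le_antisymm (le_inf b1 (a2.trans (d2.trans inf_le_right))) a3⟩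
      spl := by
        intro P₁ a1 a2 P₂ a3 a4
        rw [d4] at a1 a3
        obtain ⟨P, hP, rfl⟩ := a1
        obtain ⟨P', hP', rfl⟩ := a3
        have b1 : P ≠ U := fun e => a2 (by rw [e])
        obtain ⟨u, hu, rfl⟩ := h.exists_cj hU hP.1 hP'.1 b1 fun e => a4 (by rw [e])
        have b2 : u ∈ C := fun k hk => h.comm_of_three hU hP.1 b1 hu (r4 k hk) (hP.2 k hk) (hP'.2 k hk)
        exact ⟨u, ⟨hu, b2⟩, d3 u b2 P⟩
      gen := fun K hK => iSup₂_le fun P hP => hK _ (d4 ▸ ⟨P, hP, rfl⟩)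
      cov := fun w hw => by
        obtain ⟨P, hP, b1⟩ : ∃ P ∈ S₀, P ≤ stabilizer G (w • a) := by
          by_cases e : w • a = a
          · exact ⟨U, ⟨hU, r4⟩, by rw [e]; exact h.S_fix hU⟩
          obtain ⟨P, b1, b2⟩ := h.exS a (w • a)
          exact ⟨P, ⟨b1, fun k hk => h.nm' e b1 b2 (r3 hk) (le_stab_smul (q4 w hw) r3 hk)⟩, b2⟩
        exact ⟨P ⊓ C, d4 ▸ ⟨P, hP, rfl⟩, fun x hx => (inC_iff q7 (h.S_fix hP.1 hx.1) (d8 x (d1 P hP hx)) hw).2 (b1 hx.1)⟩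
      triv := fun w hw e => (q7 w hw).1 (by
        have b1 : D ≤ stabilizer G (w • a) := fun x hx => (inC_iff q7 (d7 hx) (d8 x hx) hw).1 (e x hx)
        by_contra b2
        exact hne (h.uniq' b2 hU' hU (d6 U' ⟨hU', r5⟩ _ ((d1 U' ⟨hU', r5⟩).trans b1))
          (d6 U ⟨hU, r4⟩ _ ((d1 U ⟨hU, r4⟩).trans b1))))
      ne := q6 }
  obtain ⟨n, n0, hn⟩ := d.exists_pow
  have e1 : 1 < p ^ n := Nat.one_lt_pow n0.ne' hp.1.one_lt
  have e2 : S₀.ncard = p ^ n + 1 := by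
    rw [← hn, nS, d4, Set.InjOn.ncard_image fun P hP P' hP' e => (d5 P hP P' hP'.1 (le_trans (le_of_eq e) inf_le_left)).symm]
  have e3 := d.ncard_fix hn q7 (inf_le_left.trans (h.S_fix hU))
  have e4 : Orb Q a ∩ Fx (U ⊓ C) ⊆ Fx U := fun c hc => d6 U ⟨hU, r4⟩ c hc.2
  obtain ⟨w, w1, w2⟩ : ∃ w ∈ Q, ¬ U ≤ stabilizer G (w • a) := by
    by_contra e
    have b1 : Orb Q a ∩ Fx (U ⊓ C) = Orb Q a := Set.inter_eq_left.2 (by
      rintro _ ⟨w, hw, rfl⟩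
      exact inf_le_left.trans (by_contra fun e' => e ⟨w, hw, e'⟩ : U ≤ stabilizer G (w • a)))
    rw [b1, Md.ncard_Orb q3 q7, (d.card hn).1] at e3
    nlinarith only [e1, e3]
  have e5 := h.fline hU w2 (A := Fx U) (B := cj w '' S₀) le_rfl fun c hc P hP b1 =>
    ⟨cj w⁻¹ P, ⟨by have := h.cjS hP w⁻¹; rwa [inv_smul_smul] at this, fun k hk => nm_cj_iff.2 (by
      rw [inv_inv]
      have b2 := nm_conj (q4 w w1) hk
      exact h.nm' (c := c) (fun e => w2 (by rw [← e]; exact hc)) hP b1 (le_stab_smul (q4 w w1) r3 b2) (h.X_le_stab hU hc b2.1))⟩, cj_cj_inv w P⟩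
  rw [Set.ncard_image_of_injective _ fun _ _ e => cj_inj w e, e2] at e5
  have e6 := Set.ncard_le_ncard e4 (Set.toFinite _)
  have e7 : (Fx U : Set Ω).ncard ≠ p ^ n + 1 := fun e =>
    hp.1.one_lt.ne' (Nat.dvd_one.1 ((Nat.dvd_add_right (dvd_pow_self p n0.ne')).1 (e ▸ h.p_dvd_F hU)))
  have e8 := Set.eq_of_subset_of_ncard_le e4 (by omega) (Set.toFinite _)
  refine h.two_of_md d d7 r3 hU.isP (h.S_T hU) (h.S_fix hU) fun b _ b1 => ?_
  rw [d.Orb_Cm q7 (inf_le_left.trans (h.S_fix hU)), e8]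
  exact b1

/-- `X = U` -/
theorem X_eq {a : Ω} {U : Subgroup G} (hU : MaxP p (E a) U) : Xo T p a U = U := by
  obtain ⟨U', hU', hne⟩ := h.ne a U hU
  refine le_antisymm (fun x hx => ?_) (h.S_le_X hU)
  obtain ⟨u, hu, h1⟩ := h.exists_cj hU hU' (h.cjS' hU' (X_fix a U hx)) hne (h.cj_ne (b := a) hne (X_nm hx))
  have h2 : u⁻¹ * x ∈ Xo T p a U ⊓ Subgroup.normalizer (U' : Set G) :=
    Subgroup.mem_inf.2 ⟨mul_mem (inv_mem (h.S_le_X hU hu)) hx, nm_iff.2 (by rw [cj_mul, ← h1, cj_inv_cj])⟩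
  rw [h.R_eq_bot hU hU' hne, Subgroup.mem_bot, inv_mul_eq_one] at h2
  exact h2 ▸ hu

/-- a Sylow subgroup of `E a` is a Sylow subgroup of `E c` for all its fixed points `c` -/
theorem syl_at {a c : Ω} {U : Subgroup G} (hU : MaxP p (E a) U) (hc : U ≤ stabilizer G c) : MaxP p (E c) U := by
  by_cases e : c = a
  · rwa [e]
  obtain ⟨U₁, h1, h2⟩ := h.exS c a
  have h3 := h.nb e hU h1 hc h2
  have h4 := h.nb (Ne.symm e) h1 hU h2 hc
  rw [h.X_eq hU, h.X_eq h1] at h3 h4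
  rwa [le_antisymm h4 h3]

theorem exists_QU {a : Ω} {U : Subgroup G} (hU : MaxP p (E a) U) : ∃ Q, QX T p U Q Ω := by
  have := h.exists_QX hU
  rwa [h.X_eq hU] at this

/-- two points are on at most one line -/
theorem ln_uniq {a b c c' : Ω} {P R : Subgroup G} (hP : MaxP p (E a) P) (hR : MaxP p (E b) R) (hne : c' ≠ c)
    (h1 : P ≤ stabilizer G c) (h2 : P ≤ stabilizer G c') (h3 : R ≤ stabilizer G c) (h4 : R ≤ stabilizer G c') : P = R :=
  h.uniq' hne (h.syl_at hP h1) (h.syl_at hR h3) h2 h4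

end Geo

end Cfsg.Agent.TH.Own.Rk
end

-- part: TH/Own/RkLin
section
/-!
# S3541, `BoxRk1`: the linear space of the fixed point sets (helper90)
-/

set_option autoImplicit false
set_option linter.unusedSectionVars false
set_option linter.unusedVariables false

namespace Cfsg.Agent.TH.Own.Rk

open MulAction

variable {G : Type*} [Group G]

theorem ncard_Orb_eq {Ω : Type*} [MulAction G Ω] [Finite G] (L : Subgroup G) (b : Ω) :
    (Orb L b).ncard = (stabilizer G b).relIndex L := by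
  have h1 := ncard_Orb_mul L b
  have h2 := card_mul_relIndex (inf_le_left : L ⊓ stabilizer G b ≤ L)
  rw [Subgroup.inf_relIndex_left, mul_comm, ← h1] at h2
  exact (Nat.eq_of_mul_eq_mul_right Nat.card_pos h2).symm

theorem ncard_le_mul {α β : Type*} {A : Set α} {B : Set β} (hB : B.Finite) (f : β → Set α) {c : ℕ}
    (h1 : ∀ x ∈ A, ∃ y ∈ B, x ∈ f y) (h2 : ∀ y ∈ B, (f y).Finite ∧ (f y).ncard ≤ c) : A.ncard ≤ B.ncard * c := by
  induction B, hB using Set.Finite.induction_on generalizing A with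
  | empty =>
    have : A = ∅ := Set.eq_empty_of_forall_notMem fun x hx => by
      obtain ⟨y, hy, -⟩ := h1 x hx
      exact hy
    simp [this]
  | @insert y B hy hB ih =>
    have h3 := ih (A := A \ f y) (fun x hx => by
      obtain ⟨z, hz, h3⟩ := h1 x hx.1
      rcases hz with rfl | hz
      · exact absurd h3 hx.2
      · exact ⟨z, hz, h3⟩) fun z hz => h2 z (.inr hz)
    have h4 := Set.ncard_le_ncard_sdiff_add_ncard A (f y) (h2 y (.inl rfl)).1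
    have h5 := (h2 y (.inl rfl)).2
    rw [Set.ncard_insert_of_notMem hy hB, add_mul]
    omega

namespace Geo

variable {Ω : Type*} [MulAction G Ω] {T : Subgroup G} {p m : ℕ} {E : Ω → Subgroup G} (h : Geo Ω T p m E)
  [Finite G] [hp : Fact p.Prime]

include h

theorem exists_conj {a b : Ω} {U P : Subgroup G} (hU : MaxP p (E a) U) (hP : MaxP p (E b) P) : ∃ g, P = cj g U := by
  obtain ⟨t, -, rfl⟩ := h.A.trans a b
  obtain ⟨e, -, rfl⟩ := (h.cjS hU t).exists_eq hP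
  exact ⟨e * t, (cj_mul _ _ _).symm⟩

theorem card_S {a b : Ω} {U P : Subgroup G} (hU : MaxP p (E a) U) (hP : MaxP p (E b) P) : Nat.card P = Nat.card U := by
  obtain ⟨g, rfl⟩ := h.exists_conj hU hP
  exact card_cj g U

theorem F_eq {a b : Ω} {U P : Subgroup G} (hU : MaxP p (E a) U) (hP : MaxP p (E b) P) :
    (Fx P : Set Ω).ncard = (Fx U : Set Ω).ncard := by
  obtain ⟨g, rfl⟩ := h.exists_conj hU hP
  exact ncard_Fx_cj g U

theorem F_sub {a : Ω} {U : Subgroup G} (hU : MaxP p (E a) U) :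
    ((Fx U : Set Ω) \ {a}).ncard + 1 = (Fx U : Set Ω).ncard :=
  have := h.finΩ
  Set.ncard_sdiff_singleton_add_one (h.S_fix hU)

theorem count {a : Ω} {U : Subgroup G} (hU : MaxP p (E a) U) {B : Set (Subgroup G)} (hB : ∀ P ∈ B, MaxP p (E a) P) :
    {x | x ≠ a ∧ ∃ P ∈ B, P ≤ stabilizer G x}.ncard = B.ncard * ((Fx U : Set Ω).ncard - 1) :=
  have := h.finΩ
  ncard_eq_mul (Set.toFinite _) (Set.toFinite _) (fun P => (Fx P : Set Ω) \ {a})
    (fun x ⟨h1, P, h2, h3⟩ => ⟨P, h2, h3, h1⟩) (fun P h1 x hx => ⟨hx.2, P, h1, hx.1⟩)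
    (fun P h1 P' h2 x hx hx' => h.uniq' hx.2 (hB P h1) (hB P' h2) hx.1 hx'.1) fun P h1 => by
      rw [← h.F_eq hU (hB P h1), ← h.F_sub (hB P h1), Nat.add_sub_cancel]

theorem card_eq {a : Ω} {U : Subgroup G} (hU : MaxP p (E a) U) :
    Nat.card Ω = (Nat.card U + 1) * ((Fx U : Set Ω).ncard - 1) + 1 := by
  have := h.finΩ
  have h1 := h.count hU (B := {R | MaxP p (E a) R}) fun _ a => a
  rw [h.ncard_S hU, show {x | x ≠ a ∧ ∃ P ∈ {R | MaxP p (E a) R}, P ≤ stabilizer G x} = {a}ᶜ from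
    Set.ext fun x => ⟨fun e => e.1, fun e => ⟨e, h.exS a x⟩⟩] at h1
  rw [← h1, ← Set.ncard_add_ncard_compl {a}, Set.ncard_singleton, add_comm]

theorem two_le_F {a : Ω} {U : Subgroup G} (hU : MaxP p (E a) U) : 2 ≤ (Fx U : Set Ω).ncard :=
  hp.1.two_le.trans (Nat.le_of_dvd (by have := h.F_sub hU; omega) (h.p_dvd_F hU))

theorem exists_pt {a : Ω} {U : Subgroup G} (hU : MaxP p (E a) U) : ∃ y, y ≠ a ∧ U ≤ stabilizer G y := by
  obtain ⟨y, h1, h2⟩ := Set.exists_ne_of_one_lt_ncard (h.two_le_F hU) a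
  exact ⟨y, h2, h1⟩

theorem exists_pow {a : Ω} {U : Subgroup G} (hU : MaxP p (E a) U) : ∃ n, 0 < n ∧ Nat.card U = p ^ n := by
  obtain ⟨n, hn⟩ := card_eq_pow hU.isP
  exact ⟨n, Nat.pos_of_ne_zero fun e => h.ne_bot hU (Subgroup.card_eq_one.1 (by rw [hn, e, pow_zero])), hn⟩

theorem F_lt {a : Ω} {U : Subgroup G} (hU : MaxP p (E a) U) : (Fx U : Set Ω).ncard < Nat.card U := by
  obtain ⟨U', hU', hne⟩ := h.ne a U hU
  obtain ⟨x, x1, x2⟩ := h.exists_pt hU'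
  have h1 := h.fline hU (fun e => hne (h.uniq' x1 hU' hU x2 e)) (A := Fx U) (B := {R | MaxP p (E x) R}) le_rfl
    fun _ _ _ a _ => a
  rw [h.ncard_S (h.syl_at hU' x2), h.card_S hU hU'] at h1
  obtain ⟨n, n0, hn⟩ := h.exists_pow hU
  have h2 : (Fx U : Set Ω).ncard ≠ Nat.card U + 1 := fun e =>
    hp.1.one_lt.ne' (Nat.dvd_one.1 ((Nat.dvd_add_right (hn ▸ dvd_pow_self p n0.ne')).1 (e ▸ h.p_dvd_F hU)))
  have h3 : (Fx U : Set Ω).ncard ≠ Nat.card U := fun e => h.A.nsq n (by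
    rw [h.card_eq hU, e, hn, two_mul, pow_add]
    obtain ⟨k, hk⟩ : ∃ k, p ^ n = k + 1 := ⟨_, (Nat.succ_pred_eq_of_pos (pow_pos hp.1.pos n)).symm⟩
    rw [hk, Nat.add_sub_cancel]
    ring)
  omega

/-- an element which fixes all lines through two points fixes all points off the line joining them -/
theorem fix_off {a y c : Ω} (hne : y ≠ a) {P : Subgroup G} (hP : MaxP p (E a) P) (hy : P ≤ stabilizer G y) {z : G}
    (h1 : ∀ R, MaxP p (E a) R → cj z R = R) (h2 : ∀ R, MaxP p (E y) R → cj z R = R) (hc : ¬ P ≤ stabilizer G c) :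
    z • c = c := by
  by_contra e
  obtain ⟨R, r1, r2⟩ := h.exS a c
  obtain ⟨R', r3, r4⟩ := h.exS y c
  have h3 := h.ln_uniq r1 r3 e r2 (le_stab_smul (h1 R r1) r2) r4 (le_stab_smul (h2 R' r3) r4)
  rw [h.uniq' hne r1 hP (h3 ▸ h.S_fix r3) hy] at r2
  exact hc r2

/-- `C_G(E a)` is semiregular on the other points -/
theorem cen_semi {a y : Ω} (hne : y ≠ a) {z : G} (hz : ∀ e ∈ E a, z * e = e * z) (hy : z • y = y) : z = 1 := by
  have h1 : ∀ R, MaxP p (E a) R → cj z R = R := fun R hR => nm_of_comm fun x hx => hz x (hR.le hx)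
  have h2 : ∀ {y y' : Ω} {P P' : Subgroup G}, y ≠ a → y' ≠ a → MaxP p (E a) P → MaxP p (E a) P' → P' ≠ P →
      P ≤ stabilizer G y → P' ≤ stabilizer G y' → z • y = y → z • y' = y' → ∀ c : Ω, ¬ P ≤ stabilizer G c → z • c = c :=
    fun {y y' P P'} a1 a2 a3 a4 a5 a6 a7 a8 a9 c hc => by
      have b1 : ¬ P ≤ stabilizer G y' := fun e => a5 (h.uniq' a2 a4 a3 a7 e)
      obtain ⟨R, r1, r2⟩ := h.exS y y'
      exact h.fix_off a1 a3 a6 h1 (fun R' => h.nm_all (h.syl_at a3 a6) r1 (fun e => b1 (e ▸ r2))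
        (fun u hu => hz u (a3.le hu)) (h.nm' (c := y') (fun e => b1 (by rw [e]; exact a6)) r1 r2 a8 a9)) hc
  obtain ⟨P, p1, p2⟩ := h.exS a y
  obtain ⟨P', p3, p4⟩ := h.ne a P p1
  obtain ⟨e, he, rfl⟩ := p1.exists_eq p3
  have h3 : e • y ≠ a := fun e' => hne (by rw [← inv_smul_smul e y, e']; exact h.fix a (inv_mem he))
  have h4 : z • e • y = e • y := by rw [← mul_smul, hz e he, mul_smul, hy]
  refine h.A.faith z fun c => ?_
  by_cases c1 : P ≤ stabilizer G c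
  · by_cases c2 : c = a
    · rw [c2]; exact h.smul_eq (nm_of_comm hz)
    · exact h2 h3 hne p3 p1 p4.symm (cj_le_stab.2 p2) p2 h4 hy c fun c3 => p4 (h.uniq' c2 p3 p1 c3 c1)
  · exact h2 hne h3 p1 p3 p4 p2 (cj_le_stab.2 p2) hy h4 c c1

theorem three_le_S {a : Ω} {U : Subgroup G} (hU : MaxP p (E a) U) :
    3 ≤ {R | MaxP p (E a) R ∧ ∀ k ∈ (∅ : Set G), cj k R = R}.ncard := by
  have h1 := h.ncard_S hU
  have h2 := one_lt_card_of_ne_bot (h.ne_bot hU)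
  simp only [Set.mem_empty_iff_false, false_imp_iff, implies_true, and_true]
  omega

theorem exists_swap {a : Ω} {U U' : Subgroup G} (hU : MaxP p (E a) U) (hU' : MaxP p (E a) U') (hne : U' ≠ U) :
    ∃ k : G, k • a = a ∧ cj k U = U' ∧ cj k U' = U := by
  obtain ⟨R, r1, -, u, hu, -, h1⟩ := h.exists_cj_comm (h.three_le_S hU) hU hU' (fun _ a => a.elim) fun _ a => a.elim
  have h2 := h.S_fix r1 hu
  obtain ⟨v, hv, h3⟩ := h.exists_cj hU' (h.cjS' hU' h2) hU (fun e => hne (cj_inj u (e.trans h1.symm))) hne.symm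
  exact ⟨v * u, by rw [mul_smul, h2, h.S_fix hU' hv], by rw [cj_mul, h1, cj_of_mem hv], by rw [cj_mul, h3]⟩

theorem stab_eq {a y y' : Ω} (hy : y ≠ a) (hy' : y' ≠ a) (e : stabilizer G a ⊓ stabilizer G y ≤ stabilizer G y') :
    stabilizer G a ⊓ stabilizer G y = stabilizer G a ⊓ stabilizer G y' :=
  Subgroup.eq_of_le_of_card_ge (le_inf inf_le_left e) (by rw [h.A.card2 a y hy.symm, h.A.card2 a y' hy'.symm])

/-- regular elements fix only one point -/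
theorem reg_fix {a : Ω} {U U' : Subgroup G} (hU : MaxP p (E a) U) (hU' : MaxP p (E a) U') (hne : U' ≠ U) {s : G}
    (s0 : s • a = a) (s1 : cj s U = U) (s2 : cj s U' = U') (s3 : ∀ u ∈ U, u * s = s * u → u = 1)
    (s4 : ∀ k : G, k • a = a → (cj k U = U ∧ cj k U' = U' ∨ cj k U = U' ∧ cj k U' = U) → k⁻¹ * s * k ∈ Subgroup.zpowers s)
    {y : Ω} (hy : y ≠ a) : s • y ≠ y := fun sy => by
  have h1 : ∀ P, MaxP p (E a) P → cj s P = P → P = U ∨ P = U' := fun P hP e => by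
    by_cases e1 : P = U
    · exact .inl e1
    obtain ⟨u, hu, rfl⟩ := h.exists_cj hU hU' hP hne e1
    rw [s3 u hu (h.comm_of_three hU hU' hne hu s1 s2 e).symm, cj_one]
    exact .inr rfl
  have h2 : ∀ u ∈ U', s * u = u * s → u = 1 := fun u hu e => by
    by_contra e1
    rcases h1 _ (h.cjS' hU (h.S_fix hU' hu)) (nm_cj_of_comm s1 e) with e2 | e2
    · exact hne (h.eq_of_nm hU' hU hu e1 e2).symm
    · exact h.cj_ne (b := a) hne.symm (cj_of_mem hu) e2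
  have h3 : ∀ k : G, k • a = a → (cj k U = U ∧ cj k U' = U' ∨ cj k U = U' ∧ cj k U' = U) → ∀ c : Ω, s • c = c →
      s • k • c = k • c := fun k k1 k2 c e => by
    have h4 : (k⁻¹ * s * k) • c = c := (Subgroup.zpowers_le (H := stabilizer G c)).2 e (s4 k k1 k2)
    rwa [mul_smul, mul_smul, inv_smul_eq_iff] at h4
  obtain ⟨n, n1, n2, n3⟩ := h.exists_swap hU hU' hne
  have h4 : ∀ c : Ω, c ≠ a → n • c ≠ a := fun c e e' => e (by rw [← inv_smul_smul n c, e', inv_smul_eq_iff, n1])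
  obtain ⟨x, x', x1, x2, x3, x4, x5, x6⟩ : ∃ x x' : Ω, x ≠ a ∧ U ≤ stabilizer G x ∧ s • x = x ∧ x' ≠ a ∧
      U' ≤ stabilizer G x' ∧ s • x' = x' := by
    obtain ⟨P, p1, p2⟩ := h.exS a y
    have h5 := h3 n n1 (.inr ⟨n2, n3⟩) y sy
    rcases h1 P p1 (h.nm' hy p1 p2 s0 sy) with rfl | rfl
    · exact ⟨y, n • y, hy, p2, sy, h4 y hy, n2 ▸ cj_le_stab.2 p2, h5⟩
    · exact ⟨n • y, y, h4 y hy, n3 ▸ cj_le_stab.2 p2, h5, hy, p2, sy⟩
  have h5 : ∀ c : Ω, c ≠ a → U ≤ stabilizer G c → s • c = c → c = x := by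
    have key : ∀ c : Ω, c ≠ a → U ≤ stabilizer G c → s • c = c →
        ∃ R, MaxP p (E x') R ∧ R ≤ stabilizer G c ∧ R ≠ U' ∧ cj s R = R := fun c c1 c2 c3 => by
      obtain ⟨R, r1, r2⟩ := h.exS x' c
      exact ⟨R, r1, r2, fun e => hne (h.uniq' c1 hU' hU (e ▸ r2) c2),
        h.nm' (c := c) (fun e => hne (h.uniq' x4 hU' hU x5 (by rw [← e]; exact c2))) r1 r2 x6 c3⟩
    intro c c1 c2 c3
    obtain ⟨R, r1, r2, r3, r4⟩ := key x x1 x2 x3
    obtain ⟨R', r5, r6, r7, r8⟩ := key c c1 c2 c3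
    obtain ⟨u, hu, rfl⟩ := h.exists_cj (h.syl_at hU' x5) r1 r5 r3 r7
    rw [h2 u hu (h.comm_of_three (h.syl_at hU' x5) r1 r3 hu s2 r4 r8), cj_one] at r6
    by_contra e
    exact hne (h.uniq' x4 hU' hU x5 (h.ln_uniq r1 hU e r2 r6 x2 c2 ▸ h.S_fix r1))
  have h6 : ∀ k : G, k • a = a → cj k U = U → k • x = x := fun k k1 k2 => by
    obtain ⟨u, hu, h7⟩ := h.exists_cj hU hU' (h.cjS' hU' k1) hne (h.cj_ne (b := a) hne k2)
    have k3 : cj (u⁻¹ * k) U = U := nm_mul (cj_of_mem (inv_mem hu)) k2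
    have k4 : (u⁻¹ * k) • a = a := by rw [mul_smul, k1]; exact h.S_fix hU (inv_mem hu)
    have h8 := h5 _ (fun e => x1 (smul_left_cancel _ (e.trans k4.symm))) (le_stab_smul k3 x2)
      (h3 _ k4 (.inl ⟨k3, by rw [cj_mul, ← h7, cj_inv_cj]⟩) x x3)
    rw [mul_smul, inv_smul_eq_iff, x2 hu] at h8
    exact h8
  have h7 : ∀ c : Ω, c ≠ a → U ≤ stabilizer G c → c = x := fun c c1 c2 => by
    have h8 := h.stab_eq c1 x1 fun k hk => h6 k hk.1 (h.nm' c1 hU c2 hk.1 hk.2)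
    exact h5 c c1 c2 (h8.ge (⟨s0, x3⟩ : s ∈ stabilizer G a ⊓ stabilizer G x)).2
  exact h.A.not_trans hU.isP (h.S_T hU) (h.S_fix hU) fun b c hb hc b1 c1 =>
    ⟨1, one_smul _ _, by rw [one_smul, h7 b hb b1, h7 c hc c1]⟩

theorem dich_aux {a y : Ω} {U Q : Subgroup G} (hU : MaxP p (E a) U) (q : QX T p U Q Ω) (hy : U ≤ stabilizer G y)
    (h1 : y ∉ Orb Q a) {c : Ω} (hc : c ∈ Orb Q y) : stabilizer G a ⊓ stabilizer G y ≤ stabilizer G c := by
  have h0 : 0 < m := by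
    rw [← h.A.card2 a y fun e => h1 (e ▸ self_mem_Orb Q a)]
    exact Nat.card_pos
  set B := stabilizer G a ⊓ Subgroup.normalizer (U : Set G) with hB
  have b1 : ∀ x : Ω, x ≠ a → U ≤ stabilizer G x → stabilizer G a ⊓ stabilizer G x ≤ B := fun x x1 x2 k hk =>
    ⟨hk.1, nm_iff.2 (h.nm' x1 hU x2 hk.1 hk.2)⟩
  have b2 : ∀ (L : Subgroup G) (x : Ω), x ≠ a → L ≤ B → stabilizer G a ⊓ stabilizer G x ≤ L →
      (Orb L x).ncard * m = Nat.card L := fun L x x1 l1 l2 => by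
    rw [← ncard_Orb_mul L x, ← h.A.card2 a x x1.symm,
      show L ⊓ stabilizer G x = stabilizer G a ⊓ stabilizer G x from
        le_antisymm (inf_le_inf_right _ (l1.trans inf_le_left)) (le_inf l2 inf_le_right)]
  have b3 : ∀ k ∈ B, ∀ (x : Ω), ∀ w ∈ Q, k • w • x ∈ Orb Q (k • x) := fun k hk x w hw =>
    ⟨k * w * k⁻¹, nm_conj (q.nQ k (nm_iff.1 hk.2)) hw, by rw [mul_smul, inv_smul_smul, mul_smul]⟩
  let S : Subgroup G :=
    { carrier := {k | k ∈ B ∧ k • y ∈ Orb Q y}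
      one_mem' := ⟨one_mem _, by rw [one_smul]; exact self_mem_Orb Q y⟩
      mul_mem' := fun {k l} hk hl => ⟨mul_mem hk.1 hl.1, by
        obtain ⟨w, hw, e⟩ := hl.2
        rw [mul_smul, ← e, ← Orb_eq hk.2]
        exact b3 k hk.1 y w hw⟩
      inv_mem' := fun {k} hk => ⟨inv_mem hk.1, by
        obtain ⟨w, hw, e⟩ := hk.2
        have h2 := b3 k⁻¹ (inv_mem hk.1) (k • y) w⁻¹ (inv_mem hw)
        rwa [inv_smul_smul, ← e, inv_smul_smul] at h2⟩ }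
  have s1 : S ≤ B := fun k hk => hk.1
  have s2 : ∀ k ∈ S, ∀ x ∈ Orb Q y, k • x ∈ Orb Q y := by
    rintro k hk _ ⟨w, hw, rfl⟩
    rw [← Orb_eq hk.2]
    exact b3 k hk.1 y w hw
  have s3 : ∀ x ∈ Orb Q y, x ≠ a ∧ stabilizer G a ⊓ stabilizer G x ≤ S := by
    rintro _ ⟨w, hw, rfl⟩
    have x1 : w • y ≠ a := fun e => h1 ⟨w⁻¹, inv_mem hw, by rw [← e, inv_smul_smul]⟩
    refine ⟨x1, fun k hk => ?_⟩
    have k1 := b1 _ x1 (q.fix hy hw) hk
    have h2 := b3 k k1 (w • y) w⁻¹ (inv_mem hw)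
    rw [inv_smul_smul, show k • w • y = w • y from hk.2, Orb_eq (L := Q) (b := y) ⟨w, hw, rfl⟩] at h2
    exact ⟨k1, h2⟩
  have s4 : ∀ x ∈ Orb Q y, (Orb S x).ncard = (Orb S y).ncard := fun x hx =>
    Nat.eq_of_mul_eq_mul_right h0 ((b2 S x (s3 x hx).1 s1 (s3 x hx).2).trans
      (b2 S y (s3 y (self_mem_Orb Q y)).1 s1 (s3 y (self_mem_Orb Q y)).2).symm)
  have s5 : (Orb S y).ncard ∣ (Orb Q y).ncard := dvd_ncard_of_Orb S _ (finite_Orb Q y) s2 fun x hx => by rw [s4 x hx]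
  have s6 : (Orb S y).ncard ∣ (Orb Q a \ {a}).ncard :=
    dvd_ncard_of_Orb B _ ((finite_Orb Q a).subset Set.sdiff_subset)
      (by
        rintro k hk _ ⟨⟨w, hw, rfl⟩, x2⟩
        have h2 := b3 k hk a w hw
        rw [show k • a = a from hk.1] at h2
        exact ⟨h2, fun e => x2 (smul_left_cancel k (e.trans (show k • a = a from hk.1).symm))⟩)
      (by
        rintro _ ⟨⟨w, hw, rfl⟩, x2⟩
        refine Nat.dvd_of_mul_dvd_mul_right h0 ?_
        rw [b2 S y (s3 y (self_mem_Orb Q y)).1 s1 (s3 y (self_mem_Orb Q y)).2,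
          b2 B _ x2 le_rfl (b1 _ x2 (q.fix (h.S_fix hU) hw))]
        exact Subgroup.card_dvd_of_le s1)
  have s7 := Set.ncard_sdiff_singleton_add_one (s := Orb Q a) (a := a) (self_mem_Orb Q a) (finite_Orb Q a)
  rw [Md.ncard_Orb q.le (q.semi a (h.S_fix hU))] at s7
  rw [Md.ncard_Orb q.le (q.semi y hy), ← s7] at s5
  have s8 : (Orb S c).ncard = 1 := (s4 c hc).trans (Nat.dvd_one.1 ((Nat.dvd_add_right s6).1 s5))
  rw [ncard_Orb_eq, Subgroup.relIndex_eq_one] at s8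
  exact (s3 y (self_mem_Orb Q y)).2.trans s8

/-- the dichotomy -/
theorem dich {a : Ω} {U Q : Subgroup G} (hU : MaxP p (E a) U) (q : QX T p U Q Ω) :
    (Fx U : Set Ω).ncard = U.relIndex Q ∨ ∀ y c : Ω, y ≠ a → U ≤ stabilizer G y → U ≤ stabilizer G c →
      stabilizer G a ⊓ stabilizer G y ≤ stabilizer G c := by
  by_cases e : (Fx U : Set Ω) ⊆ Orb Q a
  · left
    rw [← Md.ncard_Orb q.le (q.semi a (h.S_fix hU)), Set.Subset.antisymm e]
    rintro _ ⟨w, hw, rfl⟩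
    exact q.fix (h.S_fix hU) hw
  right
  obtain ⟨y₀, y1, y2⟩ := Set.not_subset.1 e
  obtain ⟨w, w1, w2⟩ := SetLike.not_le_iff_exists.1 q.ne
  have w3 : w • a ≠ a := fun e => w2 ((q.semi a (h.S_fix hU) w w1).1 e)
  have h1 : ∀ y : Ω, U ≤ stabilizer G y → y ∉ Orb Q a → ∀ c ∈ Orb Q a, c ≠ a →
      stabilizer G a ⊓ stabilizer G y = stabilizer G a ⊓ stabilizer G c := fun y a1 a2 c a3 a4 =>
    h.stab_eq (fun e => a2 (e ▸ self_mem_Orb Q a)) a4 ((inf_comm _ _).le.trans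
      (h.dich_aux (h.syl_at hU a1) q (h.S_fix hU) (fun e => a2 (Orb_eq e ▸ self_mem_Orb Q y)) a3))
  have h2 : ∀ y : Ω, y ≠ a → U ≤ stabilizer G y → stabilizer G a ⊓ stabilizer G y = stabilizer G a ⊓ stabilizer G y₀ :=
    fun y a1 a2 => by
      by_cases a3 : y ∈ Orb Q a
      · exact (h1 y₀ y1 y2 y a3 a1).symm
      · exact (h1 y a2 a3 _ ⟨w, w1, rfl⟩ w3).trans (h1 y₀ y1 y2 _ ⟨w, w1, rfl⟩ w3).symm
  intro y c a1 a2 a3
  by_cases a4 : c = a
  · rw [a4]; exact inf_le_left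
  · rw [h2 y a1 a2, ← h2 c a4 a3]
    exact inf_le_right

end Geo

end Cfsg.Agent.TH.Own.Rk
end

-- part: TH/Own/RkTor
section
/-!
# S3541, `BoxRk1`: the torus, fixed point structures (helper90)
-/

set_option autoImplicit false
set_option linter.unusedSectionVars false
set_option linter.unusedVariables false

namespace Cfsg.Agent.TH.Own.Rk

open MulAction

variable {G : Type*} [Group G]

theorem two_mul_le {α β : Type*} {A : Set α} {Y : Set β} (hA : A.Finite) (hY : Y.Finite) (r : α → β → Prop) {n : ℕ}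
    (h1 : ∀ x ∈ A, ∃ y ∈ Y, ∃ y' ∈ Y, y ≠ y' ∧ r x y ∧ r x y') (h2 : ∀ y ∈ Y, {x ∈ A | r x y}.ncard ≤ n) :
    A.ncard * 2 ≤ Y.ncard * n := by
  classical
  rw [Set.ncard_eq_toFinset_card A hA, Set.ncard_eq_toFinset_card Y hY]
  refine Finset.card_mul_le_card_mul r (fun x hx => ?_) fun y hy => ?_
  · obtain ⟨y, a1, y', a2, a3, a4, a5⟩ := h1 x (hA.mem_toFinset.1 hx)
    exact Finset.one_lt_card.2 ⟨y, (Finset.mem_bipartiteAbove r).2 ⟨hY.mem_toFinset.2 a1, a4⟩, y',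
      (Finset.mem_bipartiteAbove r).2 ⟨hY.mem_toFinset.2 a2, a5⟩, a3⟩
  · refine le_trans (le_of_eq ?_) (h2 y (hY.mem_toFinset.1 hy))
    rw [← Set.ncard_coe_finset]
    congr 1
    ext x
    simp

theorem dvd_of_stab {Ω : Type*} [MulAction G Ω] [Finite G] {L K : Subgroup G} {y : Ω} (h : ∀ t ∈ L, t • y = y → t ∈ K) :
    K.relIndex L ∣ (Orb L y).ncard := by
  rw [ncard_Orb_eq, ← Subgroup.inf_relIndex_right (stabilizer G y)]
  exact Subgroup.relIndex_dvd_of_le_left _ fun t ht => h t ht.2 ht.1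

/-- the torus -/
structure Tor (E U U' T1 : Subgroup G) : Prop where
  cyc : ∃ t₀ ∈ T0 E U U', ∀ t ∈ T0 E U U', ∃ (k : ℕ) (z : G), z ∈ Zc E ∧ t = t₀ ^ k * z
  le1 : Zc E ≤ T1
  le0 : T1 ≤ T0 E U U'
  reg : ∀ t ∈ T0 E U U', t ∉ T1 → ∀ u ∈ U, u * t = t * u → u = 1

theorem mem_T0 {E U U' : Subgroup G} {t : G} : t ∈ T0 E U U' ↔ t ∈ E ∧ cj t U = U ∧ cj t U' = U' := by
  rw [T0, Subgroup.mem_inf, Subgroup.mem_inf, nm_iff, nm_iff, and_assoc]

theorem Zc_comm {E : Subgroup G} {z e : G} (hz : z ∈ Zc E) (he : e ∈ E) : Commute e z := hz.2 e he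

namespace Tor

variable {E U U' T1 : Subgroup G} (t : Tor E U U' T1)

include t

theorem comm {x y : G} (hx : x ∈ T0 E U U') (hy : y ∈ T0 E U U') : Commute x y := by
  obtain ⟨t₀, h0, h1⟩ := t.cyc
  obtain ⟨i, z, hz, rfl⟩ := h1 x hx
  obtain ⟨j, z', hz', rfl⟩ := h1 y hy
  have h2 := (mem_T0.1 h0).1
  exact ((Commute.pow_pow_self t₀ i j).mul_right (Zc_comm hz' (pow_mem h2 i))).mul_left
    (Zc_comm hz (mul_mem (pow_mem h2 j) hz'.1)).symm

theorem normal (K : Subgroup G) : (K.subgroupOf (T0 E U U')).Normal := ⟨fun x hx g => by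
  rw [Subgroup.mem_subgroupOf, Subgroup.coe_mul, Subgroup.coe_mul, t.comm g.2 x.2, Subgroup.coe_inv, mul_inv_cancel_right]
  exact hx⟩

theorem conj_pow {k x : G} (k1 : cj k E = E) (k2 : cj k (T0 E U U') = T0 E U U') (hx : x ∈ T0 E U U') :
    k⁻¹ * x ^ Nat.card (Zc E) * k ∈ Subgroup.zpowers (x ^ Nat.card (Zc E)) := by
  obtain ⟨t₀, h0, h1⟩ := t.cyc
  obtain ⟨i, z₀, hz₀, h2⟩ := h1 _ (nm_conj' k2 h0)
  obtain ⟨j, z, hz, h3⟩ := h1 x hx
  have h4 := (mem_T0.1 h0).1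
  have h5 : k⁻¹ * z * k ∈ Zc E := nm_conj' (nm_inf k1 (nm_cen k1)) hz
  have h6 : k⁻¹ * x * k = x ^ i * ((z ^ i)⁻¹ * (z₀ ^ j * (k⁻¹ * z * k))) := by
    have h7 : k⁻¹ * t₀ ^ j * k = (t₀ ^ i * z₀) ^ j := by
      rw [← h2]
      simpa only [_root_.inv_inv] using (_root_.conj_pow (a := k⁻¹) (b := t₀) (i := j)).symm
    calc k⁻¹ * x * k = (k⁻¹ * t₀ ^ j * k) * (k⁻¹ * z * k) := by rw [h3]; group
      _ = t₀ ^ (i * j) * (z₀ ^ j * (k⁻¹ * z * k)) := by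
        rw [h7, (Zc_comm hz₀ (pow_mem h4 i)).mul_pow, ← pow_mul, mul_assoc]
      _ = _ := by
        rw [h3, (Zc_comm hz (pow_mem h4 j)).mul_pow, ← pow_mul, mul_comm j i, mul_assoc (t₀ ^ (i * j)),
          mul_inv_cancel_left]
  have h7 : (z ^ i)⁻¹ * (z₀ ^ j * (k⁻¹ * z * k)) ∈ Zc E := mul_mem (inv_mem (pow_mem hz i)) (mul_mem (pow_mem hz₀ j) h5)
  have h8 : k⁻¹ * x ^ Nat.card (Zc E) * k = (k⁻¹ * x * k) ^ Nat.card (Zc E) := by
    simpa only [_root_.inv_inv] using (_root_.conj_pow (a := k⁻¹) (b := x) (i := Nat.card (Zc E))).symm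
  have h9 : ((z ^ i)⁻¹ * (z₀ ^ j * (k⁻¹ * z * k))) ^ Nat.card (Zc E) = 1 :=
    congrArg Subtype.val (pow_card_eq_one' (x := (⟨_, h7⟩ : Zc E)))
  rw [h8, h6, (Zc_comm h7 (pow_mem (mem_T0.1 hx).1 i)).mul_pow, h9, mul_one, ← pow_mul, mul_comm, pow_mul]
  exact pow_mem (Subgroup.mem_zpowers _) i

theorem card_le [Finite G] {S : Subgroup G} (h1 : S ≤ T0 E U U') (h2 : ∀ x ∈ S, x ∈ Zc E → x = 1)
    (h3 : ∀ x ∈ S, x ^ Nat.card (Zc E) = 1) : Nat.card S ≤ Nat.card (Zc E) := by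
  have := t.normal (Zc E)
  obtain ⟨t₀, h0, h4⟩ := t.cyc
  have : IsCyclic (T0 E U U' ⧸ (Zc E).subgroupOf (T0 E U U')) := ⟨⟨(⟨t₀, h0⟩ : T0 E U U'), fun x => by
    induction x using QuotientGroup.induction_on with
    | _ x =>
    obtain ⟨k, z, hz, e⟩ := h4 x x.2
    refine ⟨k, ?_⟩
    show ((⟨t₀, h0⟩ : T0 E U U') : T0 E U U' ⧸ (Zc E).subgroupOf (T0 E U U')) ^ (k : ℤ) = _
    rw [zpow_natCast, ← QuotientGroup.mk_pow, QuotientGroup.eq, Subgroup.mem_subgroupOf]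
    show (t₀ ^ k)⁻¹ * x ∈ _
    rwa [e, inv_mul_cancel_left]⟩⟩
  have h5 : IsCyclic S := isCyclic_of_injective
    ((QuotientGroup.mk' ((Zc E).subgroupOf (T0 E U U'))).comp (Subgroup.inclusion h1))
    ((injective_iff_map_eq_one _).2 fun x hx => Subtype.ext (h2 x x.2 
      ((QuotientGroup.eq_one_iff (N := (Zc E).subgroupOf (T0 E U U')) (Subgroup.inclusion h1 x)).1 hx)))
  rw [← IsCyclic.exponent_eq_card]
  exact Nat.le_of_dvd Nat.card_pos (Monoid.exponent_dvd_of_forall_pow_eq_one fun x => Subtype.ext (h3 x x.2))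

end Tor

namespace Geo

variable {Ω : Type*} [MulAction G Ω] {T : Subgroup G} {p m : ℕ} {E : Ω → Subgroup G} (h : Geo Ω T p m E)
  [Finite G] [hp : Fact p.Prime] {a : Ω} {U U' : Subgroup G} (hU : MaxP p (E a) U) (hU' : MaxP p (E a) U') (hne : U' ≠ U)

include h hU hU' hne

theorem pow_mem_T1 {T1 : Subgroup G} (t : Tor (E a) U U' T1) {x : G} (hx : x ∈ T0 (E a) U U') {y : Ω} (hy : y ≠ a)
    (e : x • y = y) : x ^ Nat.card (Zc (E a)) ∈ T1 := by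
  by_contra h1
  have h2 := pow_mem hx (Nat.card (Zc (E a)))
  obtain ⟨h3, h4, h5⟩ := mem_T0.1 h2
  refine h.reg_fix hU hU' hne (h.fix a h3) h4 h5 (t.reg _ h2 h1) (fun k k1 k2 => t.conj_pow (h.nmE k1) ?_ hx) hy
    (pow_mem (show x ∈ stabilizer G y from e) _)
  rw [T0, cj_inf, cj_inf, h.nmE k1, cj_normalizer, cj_normalizer]
  rcases k2 with ⟨k2, k3⟩ | ⟨k2, k3⟩ <;> rw [k2, k3]
  exact inf_right_comm _ _ _

theorem mem_T1 {T1 : Subgroup G} (t : Tor (E a) U U' T1) (hc : (Nat.card (Zc (E a))).Coprime (T1.relIndex (T0 (E a) U U')))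
    {x : G} (hx : x ∈ T0 (E a) U U') {y : Ω} (hy : y ≠ a) (e : x • y = y) : x ∈ T1 :=
  have := t.normal T1
  mem_of_coprime hc (h.pow_mem_T1 hU hU' hne t hx hy e) (Subgroup.pow_index_mem (T1.subgroupOf _) ⟨x, hx⟩)

omit hU' hne in
theorem inv_l {x : G} (hx : x ∈ T0 (E a) U U') {y : Ω} (hy : y ∈ (Fx U : Set Ω) \ {a}) : x • y ∈ (Fx U : Set Ω) \ {a} :=
  ⟨le_stab_smul (mem_T0.1 hx).2.1 hy.1, fun e => hy.2 (smul_left_cancel x (e.trans (h.fix a (mem_T0.1 hx).1).symm))⟩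

omit hU hU' hne in
theorem inv_Q {Q : Subgroup G} (q : QX T p U Q Ω) {x : G} (hx : x ∈ T0 (E a) U U') {y : Ω} (hy : y ∈ Orb Q a \ {a}) :
    x • y ∈ Orb Q a \ {a} := by
  obtain ⟨⟨w, hw, rfl⟩, h1⟩ := hy
  have h2 : x • a = a := h.fix a (mem_T0.1 hx).1
  exact ⟨⟨x * w * x⁻¹, nm_conj (q.nQ x (mem_T0.1 hx).2.1) hw, by rw [mul_smul, inv_smul_eq_iff.2 h2.symm, mul_smul]⟩,
    fun e => h1 (smul_left_cancel x (e.trans h2.symm))⟩

omit hU' hne in
theorem Q_sub {Q : Subgroup G} (q : QX T p U Q Ω) : (Orb Q a \ {a}).ncard + 1 = U.relIndex Q := by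
  rw [← Md.ncard_Orb q.le (q.semi a (h.S_fix hU))]
  exact Set.ncard_sdiff_singleton_add_one (self_mem_Orb Q a) (finite_Orb Q a)

omit hU' hne in
theorem Q_dvd {Q : Subgroup G} (q : QX T p U Q Ω) : U.relIndex Q ∣ (Fx U : Set Ω).ncard := by
  have h1 := h.dvd_F hU (Q := Q) (V := Q) (by rwa [h.X_eq hU]) (by rw [h.X_eq hU]; exact q.le) le_rfl
  rwa [h.X_eq hU] at h1

omit h hU hU' hne in
theorem Q_pow {Q : Subgroup G} (q : QX T p U Q Ω) : ∃ i, 0 < i ∧ U.relIndex Q = p ^ i := by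
  obtain ⟨k, hk⟩ := relIndex_eq_pow (A := U) q.isP
  exact ⟨k, Nat.pos_of_ne_zero fun e => q.ne (Subgroup.relIndex_eq_one.1 (by rw [hk, e, pow_zero])), hk⟩

omit hU' hne in
/-- the torus is not transitive on the other points of the line -/
theorem not_trans_l {y : Ω} (hy : y ∈ (Fx U : Set Ω) \ {a}) : (Orb (T0 (E a) U U') y).ncard + 1 ≠ (Fx U : Set Ω).ncard :=
  fun e => by
    have := h.finΩ
    have h1 := h.F_sub hU
    have h2 := Set.eq_of_subset_of_ncard_le (s := Orb (T0 (E a) U U') y) (t := (Fx U : Set Ω) \ {a})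
      (by rintro _ ⟨x, hx, rfl⟩; exact h.inv_l hU hx hy) (by omega) (Set.toFinite _)
    refine h.A.not_trans hU.isP (h.S_T hU) (h.S_fix hU) fun b c hb hc b1 c1 => ?_
    obtain ⟨x, hx, rfl⟩ : b ∈ Orb (T0 (E a) U U') y := h2 ▸ ⟨b1, hb⟩
    obtain ⟨x', hx', rfl⟩ : c ∈ Orb (T0 (E a) U U') y := h2 ▸ ⟨c1, hc⟩
    exact ⟨x' * x⁻¹, h.fix a (mem_T0.1 (mul_mem hx' (inv_mem hx))).1, by rw [mul_smul, inv_smul_smul]⟩

section Fixed

variable {t : G} {q : ℕ} (ht : t ∈ T0 (E a) U U') (hq : Nat.card ↥(U ⊓ Subgroup.centralizer {t}) = q) (h2q : 2 ≤ q)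

omit hU hU' hne in
theorem mem_sing {P : Subgroup G} : (∀ k ∈ ({t} : Set G), cj k P = P) ↔ cj t P = P := by simp

include ht hq h2q

theorem fx1 : {R | MaxP p (E a) R ∧ ∀ k ∈ ({t} : Set G), cj k R = R}.ncard = q + 1 := by
  rw [h.ncard_fixS hU hU' hne (h.mem_sing.2 (mem_T0.1 ht).2.1) (h.mem_sing.2 (mem_T0.1 ht).2.2), hq]

theorem fx0 (P : Subgroup G) : ∃ P', MaxP p (E a) P' ∧ cj t P' = P' ∧ P' ≠ P := by
  by_cases e : U = P
  · exact ⟨U', hU', (mem_T0.1 ht).2.2, e ▸ hne⟩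
  · exact ⟨U, hU, (mem_T0.1 ht).2.1, e⟩

theorem fx3 {y : Ω} (hy : y ≠ a) (e : t • y = y) : {R | MaxP p (E y) R ∧ ∀ k ∈ ({t} : Set G), cj k R = R}.ncard ≤ q + 1 := by
  obtain ⟨P, p1, p2⟩ := h.exS a y
  have p3 := h.nm' hy p1 p2 (h.fix a (mem_T0.1 ht).1) e
  by_cases e1 : ∃ P', MaxP p (E y) P' ∧ cj t P' = P' ∧ P' ≠ P
  · obtain ⟨P', a1, a2, a3⟩ := e1
    obtain ⟨R, r1, r2, r3⟩ := h.fx0 hU hU' hne ht hq h2q P
    rw [h.ncard_fixS (h.syl_at p1 p2) a1 a3 (h.mem_sing.2 p3) (h.mem_sing.2 a2),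
      ← h.ncard_fixS p1 r1 r3 (h.mem_sing.2 p3) (h.mem_sing.2 r2), h.fx1 hU hU' hne ht hq h2q]
  · refine le_trans (Set.ncard_le_ncard (t := {P}) (fun R hR => by_contra fun e2 => e1 ⟨R, hR.1, h.mem_sing.1 hR.2, e2⟩)) ?_
    rw [Set.ncard_singleton]
    omega

theorem fx4 {y : Ω} (hy : y ≠ a) (e : t • y = y) (P : Subgroup G) (hP : MaxP p (E a) P) :
    ∃ x : Ω, x ≠ a ∧ t • x = x ∧ ¬ P ≤ stabilizer G x := by
  obtain ⟨R, p1, p2⟩ := h.exS a y
  obtain ⟨P', a1, a2, a3⟩ := h.fx0 hU hU' hne ht hq h2q P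
  obtain ⟨R', r1, -, u, hu, u1, rfl⟩ := h.exists_cj_comm (K := {t}) (by rw [h.fx1 hU hU' hne ht hq h2q]; omega) p1 a1
    (h.mem_sing.2 (h.nm' hy p1 p2 (h.fix a (mem_T0.1 ht).1) e)) (h.mem_sing.2 a2)
  have u2 : u • y ≠ a := fun e' => hy (smul_left_cancel u (e'.trans (h.S_fix r1 hu).symm))
  exact ⟨u • y, u2, by rw [← mul_smul, u1 t rfl, mul_smul, e], fun e' => a3 (h.uniq' u2 a1 hP (cj_le_stab.2 p2) e')⟩

theorem fx5 {y : Ω} (hy : y ≠ a) (e : t • y = y) {P : Subgroup G} (hP : MaxP p (E a) P) :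
    {c : Ω | c ≠ a ∧ P ≤ stabilizer G c ∧ t • c = c}.ncard ≤ q := by
  have := h.finΩ
  obtain ⟨x, x1, x2, x3⟩ := h.fx4 hU hU' hne ht hq h2q hy e P hP
  have h1 := h.fline hP x3 (A := insert a {c : Ω | c ≠ a ∧ P ≤ stabilizer G c ∧ t • c = c})
    (B := {R | MaxP p (E x) R ∧ ∀ k ∈ ({t} : Set G), cj k R = R})
    (by
      rintro c (rfl | hc)
      · exact h.S_fix hP
      · exact hc.2.1)
    (by
      rintro c (rfl | hc) R r1 r2
      · exact ⟨r1, h.mem_sing.2 (h.nm' x1.symm r1 r2 x2 (h.fix c (mem_T0.1 ht).1))⟩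
      · exact ⟨r1, h.mem_sing.2 (h.nm' (c := c) (fun e' => x3 (by rw [← e']; exact hc.2.1)) r1 r2 x2 hc.2.2)⟩)
  rw [Set.ncard_insert_of_notMem (fun e' => e'.1 rfl)] at h1
  have h2 := h.fx3 hU hU' hne ht hq h2q x1 x2
  omega

/-- an involution on lines of odd length -/
theorem odd_contra (t2 : t * t = 1) (h3q : 3 ≤ q) (hcard : Nat.card U = q ^ 3) (hodd : ¬ 2 ∣ (Fx U : Set Ω).ncard) : False := by
  have := h.finΩ
  have ta : t • a = a := h.fix a (mem_T0.1 ht).1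
  set S₀ := {R | MaxP p (E a) R ∧ ∀ k ∈ ({t} : Set G), cj k R = R} with hS₀
  set F := (Fx U : Set Ω).ncard with hF
  have h1 := h.count hU (B := {R | MaxP p (E a) R} \ S₀) fun _ a => a.1
  have h2 := Set.ncard_sdiff_add_ncard_of_subset (s := S₀) (t := {R | MaxP p (E a) R}) fun _ a => a.1
  rw [h.ncard_S hU, h.fx1 hU hU' hne ht hq h2q, hcard] at h2
  have h3 : {y : Ω | y ≠ a ∧ t • y = y}.ncard ≤ (q + 1) * q := by
    by_cases e : ∃ y : Ω, y ≠ a ∧ t • y = y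
    · obtain ⟨y, y1, y2⟩ := e
      rw [← h.fx1 hU hU' hne ht hq h2q]
      exact ncard_le_mul (Set.toFinite _) (fun P => {c : Ω | c ≠ a ∧ P ≤ stabilizer G c ∧ t • c = c})
        (fun x hx => by
          obtain ⟨P, p1, p2⟩ := h.exS a x
          exact ⟨P, ⟨p1, h.mem_sing.2 (h.nm' hx.1 p1 p2 ta hx.2)⟩, hx.1, p2, hx.2⟩)
        fun P hP => ⟨Set.toFinite _, h.fx5 hU hU' hne ht hq h2q y1 y2 hP.1⟩
    · rw [show {y : Ω | y ≠ a ∧ t • y = y} = ∅ from Set.eq_empty_of_forall_notMem fun y hy => e ⟨y, hy⟩, Set.ncard_empty]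
      exact Nat.zero_le _
  have h4 := two_mul_le (A := {x | x ≠ a ∧ ∃ P ∈ {R | MaxP p (E a) R} \ S₀, P ≤ stabilizer G x})
    (Y := {y : Ω | y ≠ a ∧ t • y = y}) (Set.toFinite _) (Set.toFinite _)
    (fun x y => ∃ R, MaxP p (E y) R ∧ cj t R = R ∧ R ≤ stabilizer G x) (n := q * (F - 1))
    (by
      rintro x ⟨x1, P, ⟨p1, p2⟩, p3⟩
      have x2 : t • x ≠ x := fun e => p2 ⟨p1, h.mem_sing.2 (h.nm' x1 p1 p3 ta e)⟩
      obtain ⟨L, l1, l2⟩ := h.exS x (t • x)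
      have l3 : cj t L = L := h.ln_uniq (h.cjS l1 t) l1 x2
        (by have := cj_le_stab (g := t).2 l2; rwa [← mul_smul, t2, one_smul] at this) (cj_le_stab.2 (h.S_fix l1))
        (h.S_fix l1) l2
      have l4 : ¬ L ≤ stabilizer G a := fun e =>
        p2 ⟨p1, h.mem_sing.2 (h.uniq' x1 (h.syl_at l1 e) p1 (h.S_fix l1) p3 ▸ l3)⟩
      have : Fact (Nat.Prime 2) := ⟨Nat.prime_two⟩
      have l5 := modEq_fix (p := 2) (isP_zpowers (g := t) (n := 1) (by rw [pow_one, pow_two, t2])) (Fx L : Set Ω)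
        (Set.toFinite _) fun g hg c hc => le_stab_smul
          (nm_iff.1 ((Subgroup.zpowers_le (H := Subgroup.normalizer (L : Set G))).2 (nm_iff.2 l3) hg)) hc
      obtain ⟨y, y1, y2⟩ : ((Fx L : Set Ω) ∩ Fx (Subgroup.zpowers t)).Nonempty := by
        rw [← Set.ncard_pos (Set.toFinite _)]
        refine Nat.pos_of_ne_zero fun e => hodd ?_
        rw [e, h.F_eq hU l1] at l5
        exact (Nat.modEq_zero_iff_dvd).1 l5
      have y3 : t • y = y := y2 (Subgroup.mem_zpowers t)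
      have y4 : y ≠ a := fun e => l4 (by rw [← e]; exact y1)
      obtain ⟨R, r1, r2⟩ := h.exS a y
      have r3 := h.nm' y4 r1 r2 ta y3
      obtain ⟨x₀, -, z2, z3⟩ := h.fx4 hU hU' hne ht hq h2q y4 y3 R r1
      have z4 : x₀ ≠ y := fun e => z3 (by rw [e]; exact r2)
      obtain ⟨L₀, m1, m2⟩ := h.exS y x₀
      have m3 : L₀ ≠ R := fun e => z3 (e ▸ m2)
      obtain ⟨u, hu, rfl⟩ := h.exists_cj (h.syl_at r1 r2) m1 (h.syl_at l1 y1) m3 fun e => l4 (e ▸ h.S_fix r1)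
      have u1 := h.comm_of_three (h.syl_at r1 r2) m1 m3 hu r3 (h.nm' z4 m1 m2 y3 z2) l3
      have u2 : cj u L₀ ≤ stabilizer G (u • x₀) := cj_le_stab.2 m2
      exact ⟨y, ⟨y4, y3⟩, u • x₀, ⟨fun e => l4 (e ▸ u2), by rw [← mul_smul, u1, mul_smul, z2]⟩,
        fun e => z4 (smul_left_cancel u (e.symm.trans (r2 hu).symm)), ⟨_, h.syl_at l1 y1, l3, h.S_fix l1⟩,
        ⟨_, h.syl_at l1 u2, l3, h.S_fix l1⟩⟩)
    (by
      rintro y ⟨y1, y2⟩
      obtain ⟨R, r1, r2⟩ := h.exS a y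
      have r3 := h.nm' y1 r1 r2 ta y2
      have r4 := Set.ncard_sdiff_singleton_add_one (s := {L | MaxP p (E y) L ∧ ∀ k ∈ ({t} : Set G), cj k L = L}) (a := R)
        ⟨h.syl_at r1 r2, h.mem_sing.2 r3⟩
      have r5 := h.fx3 hU hU' hne ht hq h2q y1 y2
      refine le_trans (ncard_le_mul (B := {L | MaxP p (E y) L ∧ ∀ k ∈ ({t} : Set G), cj k L = L} \ {R}) (Set.toFinite _)
        (fun L => (Fx L : Set Ω) \ {y}) (c := F - 1) ?_ fun L hL => ⟨Set.toFinite _, ?_⟩)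
        (Nat.mul_le_mul_right _ (by omega))
      · rintro x ⟨⟨x1, P, ⟨p1, p2⟩, p3⟩, L, l1, l2, l3⟩
        have x2 : ¬ R ≤ stabilizer G x := fun e => p2 ⟨p1, h.mem_sing.2 (h.uniq' x1 r1 p1 e p3 ▸ r3)⟩
        exact ⟨L, ⟨⟨l1, h.mem_sing.2 l2⟩, fun e => x2 (e ▸ l3)⟩, l3, fun e => x2 (by rw [e]; exact r2)⟩
      · have l1 := h.F_sub hL.1.1
        rw [h.F_eq hU hL.1.1] at l1
        omega)
  rw [h1] at h4
  have h5 := h.two_le_F hU
  have h6 : ({R | MaxP p (E a) R} \ S₀).ncard * 2 ≤ (q + 1) * q * q := by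
    refine Nat.le_of_mul_le_mul_right (c := F - 1) ?_ (by omega)
    calc _ = ({R | MaxP p (E a) R} \ S₀).ncard * (F - 1) * 2 := by ring
      _ ≤ _ := h4
      _ ≤ (q + 1) * q * (q * (F - 1)) := Nat.mul_le_mul_right _ h3
      _ = _ := by ring
  have h7 : q * q * 3 ≤ q * q * q := Nat.mul_le_mul_left _ h3q
  have h8 : q * 3 ≤ q * q := Nat.mul_le_mul_left _ h3q
  have h9 : q ^ 3 = q * q * q := by ring
  have h10 : (q + 1) * q * q = q * q * q + q * q := by ring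
  omega

end Fixed

end Geo

end Cfsg.Agent.TH.Own.Rk
end

-- part: TH/Own/RkCase
section
/-!
# S3541, `BoxRk1`: the four families (helper90)
-/

set_option autoImplicit false
set_option linter.unusedSectionVars false
set_option linter.unusedVariables false

namespace Cfsg.Agent.TH.Own.Rk

open MulAction

variable {G : Type*} [Group G]

theorem pow_dvd_of_le {p i k : ℕ} (hp : 2 ≤ p) (h : p ^ k ≤ p ^ i) : p ^ k ∣ p ^ i :=
  pow_dvd_pow p ((Nat.pow_le_pow_iff_right (by omega)).1 h)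

theorem ar0 {x c b d : ℕ} (h1 : x - 1 ∣ d * (x * c - 1)) (h2 : 0 < c) (h0 : 0 < x) (h3 : c < b) (h4 : d * (b - 2) < x - 1)
    (hd : 0 < d) : c = 1 := by
  obtain ⟨x, rfl⟩ : ∃ y, x = y + 1 := ⟨x - 1, by omega⟩
  obtain ⟨c, rfl⟩ : ∃ y, c = y + 1 := ⟨c - 1, by omega⟩
  rw [show (x + 1) * (c + 1) - 1 = x * (c + 1) + c by
    rw [add_mul, one_mul, ← add_assoc, Nat.add_sub_cancel], mul_add, Nat.add_sub_cancel] at h1
  have h5 := (Nat.dvd_add_right (dvd_mul_of_dvd_right (dvd_mul_right x _) d)).1 h1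
  have h6 : d * c ≤ d * (b - 2) := Nat.mul_le_mul_left _ (by omega)
  have h7 := Nat.eq_zero_of_dvd_of_lt h5 (by omega)
  rcases Nat.mul_eq_zero.1 h7 with h8 | h8 <;> omega

theorem ar1 {x i : ℕ} (h1 : x - 1 ∣ 3 * (2 ^ i - 1)) (h2 : 2 ^ i < x) (h3 : 4 ∣ x) (h4 : 4 < x) : i = 0 := by
  obtain ⟨k, hk⟩ := h1
  obtain ⟨y, rfl⟩ := h3
  rcases i with _ | _ | i
  · rfl
  · rcases k with _ | k
    · omega
    · have := Nat.le_mul_of_pos_right (m := k + 1) (4 * y - 1) (by omega)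
      omega
  · rw [pow_succ, pow_succ] at hk h2
    have h5 := Nat.two_pow_pos i
    rcases k with _ | _ | _ | k
    · omega
    · omega
    · omega
    · have : (4 * y - 1) * 3 ≤ (4 * y - 1) * (k + 1 + 1 + 1) := Nat.mul_le_mul_left _ (by omega)
      omega

theorem exists_root {p q n e : ℕ} (hp : p.Prime) (h : q ^ (e + 1) = p ^ n) (hn : 0 < n) : ∃ k, 0 < k ∧ q = p ^ k := by
  obtain ⟨k, -, hk⟩ := (Nat.dvd_prime_pow hp).1 (h ▸ dvd_pow_self q (Nat.succ_ne_zero e))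
  refine ⟨k, Nat.pos_of_ne_zero fun e' => ?_, hk⟩
  rw [hk, e', pow_zero, one_pow] at h
  exact (Nat.one_lt_pow hn.ne' hp.one_lt).ne h

/-- the elements of `Q` which are central of order at most two modulo `U` -/
theorem QX.exists_V {Ω : Type*} [MulAction G Ω] [Finite G] {T U Q : Subgroup G} (q : QX T 2 U Q Ω) :
    ∃ V, QX T 2 U V Ω ∧ ∀ w ∈ V, w * w ∈ U := by
  have : Fact (Nat.Prime 2) := ⟨Nat.prime_two⟩
  let V : Subgroup G :=
    { carrier := {w | w ∈ Q ∧ w * w ∈ U ∧ ∀ v ∈ Q, w * v * w⁻¹ * v⁻¹ ∈ U}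
      one_mem' := ⟨one_mem _, by simp, fun v _ => by simp⟩
      mul_mem' := fun {w x} hw hx => ⟨mul_mem hw.1 hx.1, by
        have h1 := mul_mem (mul_mem (nm_conj (q.nX w hw.1) (hx.2.2 w hw.1)) hw.2.1) hx.2.1
        rwa [show w * (x * w * x⁻¹ * w⁻¹) * w⁻¹ * (w * w) * (x * x) = w * x * (w * x) by group] at h1, fun v hv => by
        have h1 := mul_mem (nm_conj (q.nX w hw.1) (hx.2.2 v hv)) (hw.2.2 v hv)
        rwa [show w * (x * v * x⁻¹ * v⁻¹) * w⁻¹ * (w * v * w⁻¹ * v⁻¹) = w * x * v * (w * x)⁻¹ * v⁻¹ by group] at h1⟩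
      inv_mem' := fun {w} hw => ⟨inv_mem hw.1, by rw [← mul_inv_rev]; exact inv_mem hw.2.1, fun v hv => by
        have h1 := nm_conj' (q.nX w hw.1) (inv_mem (hw.2.2 v hv))
        rwa [show w⁻¹ * (w * v * w⁻¹ * v⁻¹)⁻¹ * w = w⁻¹ * v * w⁻¹⁻¹ * v⁻¹ by group] at h1⟩ }
  have h1 : V ≤ Q := fun w hw => hw.1
  refine ⟨V, ⟨q.isP.to_le h1, h1.trans q.leT, fun u hu => ⟨q.le hu, mul_mem hu hu, fun v hv => ?_⟩,
    fun w hw => q.nX w hw.1, fun g hg => nm_of_conj fun w hw => ⟨nm_conj (q.nQ g hg) hw.1, ?_, fun v hv => ?_⟩, fun e => ?_,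
    fun c hc w hw => q.semi c hc w hw.1⟩, fun w hw => hw.2.1⟩
  · have h2 := mul_mem hu (nm_conj (q.nX v hv) (inv_mem hu))
    rwa [← mul_assoc, ← mul_assoc] at h2
  · have h2 := nm_conj hg hw.2.1
    rwa [show g * (w * w) * g⁻¹ = g * w * g⁻¹ * (g * w * g⁻¹) by group] at h2
  · have h2 := nm_conj hg (hw.2.2 _ (nm_conj' (q.nQ g hg) hv))
    rwa [show g * (w * (g⁻¹ * v * g) * w⁻¹ * (g⁻¹ * v * g)⁻¹) * g⁻¹ = g * w * g⁻¹ * v * (g * w * g⁻¹)⁻¹ * v⁻¹ by group] at h2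
  · have : (U.subgroupOf Q).Normal := ⟨fun x hx g => Subgroup.mem_subgroupOf.2 (nm_conj (q.nX g g.2) hx)⟩
    have h2 := q.isP.to_quotient (U.subgroupOf Q)
    have : Nontrivial (Q ⧸ U.subgroupOf Q) :=
      QuotientGroup.nontrivial_iff.2 fun e' => q.ne (Subgroup.subgroupOf_eq_top.1 e')
    have := h2.center_nontrivial
    obtain ⟨n, h3, h4⟩ := (h2.to_subgroup (Subgroup.center _)).nontrivial_iff_card.1 this
    obtain ⟨⟨z, hz⟩, h5⟩ := exists_prime_orderOf_dvd_card' (G := Subgroup.center (Q ⧸ U.subgroupOf Q)) 2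
      (h4 ▸ dvd_pow_self 2 h3.ne')
    induction z using QuotientGroup.induction_on with
    | _ w =>
    have h6 : ((w * w : Q) : Q ⧸ U.subgroupOf Q) = 1 := by
      have h7 := congrArg Subtype.val (pow_orderOf_eq_one (⟨_, hz⟩ : Subgroup.center (Q ⧸ U.subgroupOf Q)))
      rwa [h5, pow_two] at h7
    have h7 : (w : G) ∈ U := e ⟨w.2, Subgroup.mem_subgroupOf.1 ((QuotientGroup.eq_one_iff _).1 h6), fun v hv => by
      have h8 : ((w * ⟨v, hv⟩ * w⁻¹ * (⟨v, hv⟩ : Q)⁻¹ : Q) : Q ⧸ U.subgroupOf Q) = 1 := by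
        rw [QuotientGroup.mk_mul, QuotientGroup.mk_mul, QuotientGroup.mk_mul, ← Subgroup.mem_center_iff.1 hz,
          QuotientGroup.mk_inv, QuotientGroup.mk_inv, mul_inv_cancel_right, mul_inv_cancel]
      exact Subgroup.mem_subgroupOf.1 ((QuotientGroup.eq_one_iff _).1 h8)⟩
    have h8 : (⟨_, hz⟩ : Subgroup.center (Q ⧸ U.subgroupOf Q)) = 1 := Subtype.ext ((QuotientGroup.eq_one_iff w).2 h7)
    rw [h8, orderOf_one] at h5
    omega

namespace Geo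

variable {Ω : Type*} [MulAction G Ω] {T : Subgroup G} {p m : ℕ} {E : Ω → Subgroup G} (h : Geo Ω T p m E)
  [Finite G] [hp : Fact p.Prime] {a : Ω} {U U' : Subgroup G} (hU : MaxP p (E a) U) (hU' : MaxP p (E a) U') (hne : U' ≠ U)
  {T1 : Subgroup G} (t : Tor (E a) U U' T1)

include h hU

theorem Z_semi {z : G} (hz : z ∈ Zc (E a)) {y : Ω} (hy : y ≠ a) (e : z • y = y) : z = 1 :=
  h.cen_semi hy (fun _ he => (Zc_comm hz he).symm) e

theorem dvd_l {K : Subgroup G} (hK : ∀ y ∈ (Fx U : Set Ω) \ {a}, ∀ x ∈ T0 (E a) U U', x • y = y → x ∈ K) :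
    K.relIndex (T0 (E a) U U') ∣ (Fx U : Set Ω).ncard - 1 := by
  have := h.finΩ
  rw [← h.F_sub hU, Nat.add_sub_cancel]
  exact dvd_ncard_of_Orb _ _ (Set.toFinite _) (fun g hg b hb => h.inv_l hU hg hb) fun b hb => dvd_of_stab (hK b hb)

theorem Q_l {Q : Subgroup G} (q : QX T p U Q Ω) : Orb Q a \ {a} ⊆ (Fx U : Set Ω) \ {a} := by
  rintro _ ⟨⟨w, hw, rfl⟩, h1⟩
  exact ⟨le_stab_smul (q.nX w hw) (h.S_fix hU), h1⟩

theorem dvd_Q {Q : Subgroup G} (q : QX T p U Q Ω) {K : Subgroup G}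
    (hK : ∀ y ∈ (Fx U : Set Ω) \ {a}, ∀ x ∈ T0 (E a) U U', x • y = y → x ∈ K) :
    K.relIndex (T0 (E a) U U') ∣ U.relIndex Q - 1 := by
  have := h.finΩ
  rw [← h.Q_sub hU q, Nat.add_sub_cancel]
  exact dvd_ncard_of_Orb _ _ (Set.toFinite _) (fun g hg b hb => h.inv_Q q hg hb) fun b hb =>
    dvd_of_stab (hK b (h.Q_l hU q hb))

include hU' hne t

theorem caseL (c : CaseL (E a) U U' T1) : False := by
  obtain ⟨rfl, -, c2⟩ := c
  have := h.finΩ
  obtain ⟨Q, q⟩ := h.exists_QU hU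
  obtain ⟨i, hi, h1⟩ := Q_pow q
  obtain ⟨n, -, h2⟩ := h.exists_pow hU
  have h3 := h.Q_sub hU q
  have h4 : 1 < p ^ i := Nat.one_lt_pow hi.ne' hp.1.one_lt
  obtain ⟨y, hy⟩ : (Orb Q a \ {a}).Nonempty := (Set.ncard_pos (Set.toFinite _)).1 (by omega)
  have h5 := t.card_le (S := T0 (E a) U U' ⊓ stabilizer G y) inf_le_left (fun x hx hz => h.Z_semi hU hz hy.2 hx.2)
    fun x hx => h.Z_semi hU (h.pow_mem_T1 hU hU' hne t hx.1 hy.2 hx.2) hy.2 (pow_mem hx.2 _)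
  have h6 := ncard_Orb_mul (T0 (E a) U U') y
  rw [← card_mul_relIndex t.le0] at h6
  have h7 : (Zc (E a)).relIndex (T0 (E a) U U') ≤ (Orb (T0 (E a) U U') y).ncard := by
    refine Nat.le_of_mul_le_mul_left (c := Nat.card (Zc (E a))) ?_ Nat.card_pos
    rw [← h6, mul_comm (Nat.card (Zc (E a)))]
    exact Nat.mul_le_mul_left _ h5
  have h8 := Set.ncard_le_ncard (s := Orb (T0 (E a) U U') y) (t := Orb Q a \ {a})
    (by rintro _ ⟨x, hx, rfl⟩; exact h.inv_Q q hx hy)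
  have h9 := Nat.le_of_dvd (by have := h.two_le_F hU; omega) (h.Q_dvd hU q)
  have h10 := h.F_lt hU
  have h11 : p ^ (i + 1) ≤ p ^ n := Nat.pow_le_pow_right hp.1.pos ((Nat.pow_lt_pow_iff_right hp.1.one_lt).1 (by omega))
  have h12 : p ^ i * 2 ≤ p ^ i * p := Nat.mul_le_mul_left _ hp.1.two_le
  rw [pow_succ] at h11
  omega

theorem caseS (c : CaseS p (E a) U U' T1) : False := by
  obtain ⟨-, rfl, q₀, c1, c2⟩ := c
  obtain ⟨Q, q⟩ := h.exists_QU hU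
  obtain ⟨i, hi, h1⟩ := Q_pow q
  obtain ⟨n, hn, h2⟩ := h.exists_pow hU
  obtain ⟨k, -, rfl⟩ := exists_root (e := 1) hp.1 (c1.symm.trans h2) hn
  have h3 : ∀ y ∈ (Fx U : Set Ω) \ {a}, ∀ x ∈ T0 (E a) U U', x • y = y → x ∈ (⊥ : Subgroup G) := fun y hy x hx e =>
    h.mem_T1 hU hU' hne t (by rw [le_bot_iff.1 t.le1, Subgroup.card_bot]; exact Nat.coprime_one_left _) hx hy.2 e
  have h4 := h.dvd_l hU h3
  have h5 := h.dvd_Q hU q h3
  have h0 : Nat.card (T0 (E a) U U') = p ^ k - 1 := by omega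
  rw [Subgroup.relIndex_bot_left, h0] at h4 h5
  have h6 : 1 < p ^ i := Nat.one_lt_pow hi.ne' hp.1.one_lt
  have h7 := Nat.le_of_dvd (by omega) h5
  have h8 : 0 < Nat.card (T0 (E a) U U') := Nat.card_pos
  obtain ⟨c, hc⟩ := (pow_dvd_of_le hp.1.two_le (by omega : p ^ k ≤ p ^ i)).trans (h1 ▸ h.Q_dvd hU q)
  have h9 := h.two_le_F hU
  have h10 := h.F_lt hU
  rw [hc, c1, pow_two] at h10
  have h11 := ar0 (d := 1) (b := p ^ k) (by rwa [one_mul, ← hc]) (Nat.pos_of_ne_zero fun e => by rw [e] at hc; omega)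
    (by omega) (Nat.lt_of_mul_lt_mul_left h10) (by omega) one_pos
  obtain ⟨y, y1, y2⟩ := h.exists_pt hU
  refine h.not_trans_l (U' := U') hU ⟨y2, y1⟩ ?_
  rw [Md.ncard_Orb (V := ⊥) bot_le fun w hw => ⟨h3 y ⟨y2, y1⟩ w hw, fun e => by rw [Subgroup.mem_bot.1 e, one_smul]⟩,
    Subgroup.relIndex_bot_left, c2, hc, h11, mul_one]

theorem caseO (c : CaseO p (E a) U U' T1) : False := by
  obtain ⟨c0, q₀, c1, c2, c3, s, s1, s2, s3, s4⟩ := c
  have := h.finΩ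
  obtain ⟨n, hn, h2⟩ := h.exists_pow hU
  obtain ⟨k, hk, h3⟩ := exists_root (e := 2) hp.1 (c1.symm.trans h2) hn
  have h4 : 3 ≤ p := by have := hp.1.two_le; omega
  have h5 : p ∣ q₀ := h3 ▸ dvd_pow_self p hk.ne'
  have h6 : 3 ≤ q₀ := h4.trans (Nat.le_of_dvd (h3 ▸ pow_pos hp.1.pos k) h5)
  have h7 : ∀ i, ¬ 2 ∣ p ^ i := fun i e =>
    c0 ((Nat.prime_dvd_prime_iff_eq Nat.prime_two hp.1).1 (Nat.prime_two.dvd_of_dvd_pow e)).symm
  have s0 := t.le0 s1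
  refine h.odd_contra hU hU' hne s0 s4 (by omega) s3 h6 c1 fun e => ?_
  have h8 := h.F_sub hU
  have : Fact (Nat.Prime 2) := ⟨Nat.prime_two⟩
  have h9 := modEq_fix (p := 2) (isP_zpowers (g := s) (n := 1) (by rw [pow_one, pow_two, s3])) ((Fx U : Set Ω) \ {a})
    (Set.toFinite _) fun g hg c hc => h.inv_l hU (Subgroup.zpowers_le.2 s0 hg) hc
  obtain ⟨y, y1, y2⟩ : (((Fx U : Set Ω) \ {a}) ∩ Fx (Subgroup.zpowers s)).Nonempty := by
    rw [← Set.ncard_pos (Set.toFinite _)]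
    refine Nat.pos_of_ne_zero fun e' => ?_
    rw [e'] at h9
    have := (Nat.modEq_zero_iff_dvd).1 h9
    omega
  have y3 : s • y = y := y2 (Subgroup.mem_zpowers s)
  obtain ⟨Q, q⟩ := h.exists_QU hU
  rcases h.dich hU q with h10 | h10
  · obtain ⟨i, -, h1⟩ := Q_pow q
    exact h7 i (h1 ▸ h10 ▸ e)
  have h11 := le_trans' (h.fx5 hU hU' hne s0 s4 (by omega) y1.2 y3 hU) (Set.ncard_le_ncard (s := (Fx U : Set Ω) \ {a})
    fun c hc => ⟨hc.2, hc.1, h10 y c y1.2 y1.1 hc.1 ⟨h.fix a (mem_T0.1 s0).1, y3⟩⟩)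
  obtain ⟨j, hj⟩ := c2.trans (Nat.mul_dvd_mul_left 2 (h.dvd_l hU fun y hy x hx e =>
    h.mem_T1 hU hU' hne t (c3.coprime_dvd_right (dvd_mul_left _ 2)) hx hy.2 e))
  have h12 := h.p_dvd_F hU
  have h13 := h.two_le_F hU
  have h14 : ∀ x, p ∣ x → x ≠ q₀ + 1 := fun x a b =>
    hp.1.one_lt.ne' (Nat.dvd_one.1 ((Nat.dvd_add_right h5).1 (b ▸ a)))
  have h15 := h14 _ h12
  have h16 := h14 _ (h12.mul_left 2)
  have h17 := h7 k
  rcases j with _ | _ | _ | j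
  · (clear * - h13 hj; omega)
  · (clear * - h13 h16 hj; omega)
  · omega
  · have : (q₀ - 1) * 3 ≤ (q₀ - 1) * (j + 1 + 1 + 1) := Nat.mul_le_mul_left _ (by omega)
    (clear * - h8 h11 h13 h15 hj this; omega)

section E

variable {q₀ : ℕ} (c1 : 4 ≤ q₀) (c3 : T1.relIndex (T0 (E a) U U') + 1 = q₀)
  (c4 : (Nat.card (Zc (E a))).Coprime (T1.relIndex (T0 (E a) U U')))
  (c6 : ∀ s ∈ T1, s ∉ Zc (E a) → Nat.card ↥(U ⊓ Subgroup.centralizer {s}) = q₀)

include c1 c3 c4 c6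

theorem e1 {s : G} (s0 : s ∈ T0 (E a) U U') (s1 : s ≠ 1) {y : Ω} (hy : y ∈ (Fx U : Set Ω) \ {a}) (e : s • y = y) :
    Orb (T0 (E a) U U') y = {c : Ω | c ≠ a ∧ U ≤ stabilizer G c ∧ s • c = c} ∧
      (Orb (T0 (E a) U U') y).ncard + 1 = q₀ ∧ T1 ≤ stabilizer G y := by
  have := h.finΩ
  have h0 : ∀ y ∈ (Fx U : Set Ω) \ {a}, ∀ x ∈ T0 (E a) U U', x • y = y → x ∈ T1 := fun y hy x hx e =>
    h.mem_T1 hU hU' hne t c4 hx hy.2 e
  have h1 := h.fx5 hU hU' hne s0 (c6 s (h0 y hy s s0 e) fun hz => s1 (h.Z_semi hU hz hy.2 e)) (by omega) hy.2 e hU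
  have h2 : ∀ g ∈ T0 (E a) U U', ∀ b ∈ {c : Ω | c ≠ a ∧ U ≤ stabilizer G c ∧ s • c = c},
      g • b ∈ {c : Ω | c ≠ a ∧ U ≤ stabilizer G c ∧ s • c = c} := fun g hg b hb =>
    ⟨(h.inv_l hU hg ⟨hb.2.1, hb.1⟩).2, (h.inv_l hU hg ⟨hb.2.1, hb.1⟩).1, by
      rw [← mul_smul, t.comm s0 hg, mul_smul, hb.2.2]⟩
  obtain ⟨k, hk⟩ := dvd_ncard_of_Orb _ _ (Set.toFinite _) h2 fun b hb => dvd_of_stab (h0 b ⟨hb.2.1, hb.1⟩)
  obtain ⟨j, hj⟩ := dvd_of_stab (h0 y hy)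
  have h3 : Orb (T0 (E a) U U') y ⊆ {c : Ω | c ≠ a ∧ U ≤ stabilizer G c ∧ s • c = c} := by
    rintro _ ⟨g, hg, rfl⟩
    exact h2 g hg y ⟨hy.2, hy.1, e⟩
  have h4 := Set.ncard_le_ncard h3
  have h5 : 0 < (Orb (T0 (E a) U U') y).ncard := (Set.ncard_pos (Set.toFinite _)).2 ⟨y, self_mem_Orb _ y⟩
  have h6 : ∀ i, 0 < T1.relIndex (T0 (E a) U U') * i → T1.relIndex (T0 (E a) U U') * i ≤ q₀ → i = 1 := fun i b1 b2 => by
    rcases i with _ | _ | i
    · omega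
    · rfl
    · have : T1.relIndex (T0 (E a) U U') * 2 ≤ T1.relIndex (T0 (E a) U U') * (i + 1 + 1) := Nat.mul_le_mul_left _ (by omega)
      omega
  rw [h6 k (by omega) (by omega), mul_one] at hk
  rw [h6 j (by omega) (by omega), mul_one] at hj
  refine ⟨Set.eq_of_subset_of_ncard_le h3 (by omega) (Set.toFinite _), by omega, ?_⟩
  have h7 := ncard_Orb_mul (T0 (E a) U U') y
  rw [hj, ← card_mul_relIndex t.le0, mul_comm] at h7
  rw [← Subgroup.eq_of_le_of_card_ge (H := T0 (E a) U U' ⊓ stabilizer G y) (K := T1) (fun x hx => h0 y hy x hx.1 hx.2)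
    (Nat.eq_of_mul_eq_mul_right (by omega) h7).ge]
  exact inf_le_right

theorem e2 {s : G} (s0 : s ∈ T0 (E a) U U') (s1 : s ≠ 1) {y : Ω} (hy : y ∈ (Fx U : Set Ω) \ {a}) (e : s • y = y) :
    ∃ k, (Fx U : Set Ω).ncard = q₀ + Nat.card (T0 (E a) U U') * k := by
  have := h.finΩ
  obtain ⟨h1, h2, -⟩ := h.e1 hU hU' hne t c1 c3 c4 c6 s0 s1 hy e
  have h3 : Orb (T0 (E a) U U') y ⊆ (Fx U : Set Ω) \ {a} := by
    rintro _ ⟨g, hg, rfl⟩
    exact h.inv_l hU hg hy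
  obtain ⟨k, hk⟩ := dvd_ncard_of_Orb (T0 (E a) U U') (d := (⊥ : Subgroup G).relIndex (T0 (E a) U U'))
    (((Fx U : Set Ω) \ {a}) \ Orb (T0 (E a) U U') y) (Set.toFinite _)
    (fun g hg b hb => ⟨h.inv_l hU hg hb.1, fun e' => hb.2 (by simpa using smul_mem_Orb (inv_mem hg) e')⟩)
    fun b hb => dvd_of_stab fun x hx e' => by_contra fun x1 => hb.2 (by
      rw [h1]
      exact ⟨hb.1.2, hb.1.1, (h.e1 hU hU' hne t c1 c3 c4 c6 hx x1 hb.1 e').2.2 (h.mem_T1 hU hU' hne t c4 s0 hy.2 e)⟩)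
  have h4 := Set.ncard_sdiff_add_ncard_of_subset h3
  have h5 := h.F_sub hU
  rw [Subgroup.relIndex_bot_left] at hk
  exact ⟨k, by omega⟩

end E

theorem caseE (c : CaseE p (E a) U U' T1) : False := by
  obtain ⟨rfl, q₀, c1, c2, c3, c4, c5, c6, c7⟩ := c
  have := h.finΩ
  obtain ⟨n, hn, h2⟩ := h.exists_pow hU
  obtain ⟨k, hk, h3⟩ := exists_root (e := 2) hp.1 (c2.symm.trans h2) hn
  obtain ⟨Q, q⟩ := h.exists_QU hU
  have h4 : q₀ ^ 2 - 1 ∣ 3 * Nat.card (T0 (E a) U U') :=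
    c5.trans (Nat.mul_dvd_mul_left 3 (Subgroup.relIndex_dvd_card _ _))
  have h5 : q₀ * 4 ≤ q₀ ^ 2 := by rw [pow_two]; exact Nat.mul_le_mul_left _ c1
  have h6 : 4 ∣ q₀ ^ 2 := by
    rw [h3, ← pow_mul]
    exact pow_dvd_pow 2 (m := 2) (by omega)
  have h7 := h.F_lt hU
  have h8 := h.F_sub hU
  by_cases e : ∃ s ∈ T0 (E a) U U', s ≠ 1 ∧ ∃ y ∈ (Fx U : Set Ω) \ {a}, s • y = y
  · obtain ⟨s, s0, s1, y, hy, e⟩ := e
    obtain ⟨a1, a2, -⟩ := h.e1 hU hU' hne t c1 c3 c4 c6 s0 s1 hy e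
    obtain ⟨j, hj⟩ := h.e2 hU hU' hne t c1 c3 c4 c6 s0 s1 hy e
    refine h.not_trans_l (U' := U') hU hy ?_
    rcases h.dich hU q with h9 | h9
    · obtain ⟨i, -, h10⟩ := Q_pow q
      rw [h10] at h9
      obtain ⟨l, rfl⟩ := Nat.exists_eq_add_of_le ((Nat.pow_le_pow_iff_right (by omega : 1 < 2)).1 (by omega : 2 ^ k ≤ 2 ^ i))
      rw [pow_add, ← h3] at h9
      have h11 : q₀ ^ 2 - 1 ∣ q₀ * (3 * (2 ^ l - 1)) := by
        rw [mul_left_comm, Nat.mul_sub_one, ← h9, hj, Nat.add_sub_cancel_left, ← mul_assoc]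
        exact h4.mul_right j
      have h12 : (q₀ ^ 2 - 1).Coprime q₀ :=
        ((Nat.coprime_self_sub_left (by (clear * - h5 a2; omega) : 1 ≤ q₀ ^ 2)).2 (Nat.coprime_one_left _)).coprime_dvd_right
          (dvd_pow_self q₀ two_ne_zero)
      rw [h9, c2, pow_succ'] at h7
      rw [a2, h9, ar1 (h12.dvd_of_dvd_mul_left h11) (Nat.lt_of_mul_lt_mul_left h7) h6 (by (clear * - c1 h5; omega)), pow_zero, mul_one]
    · rw [← h8, a1]
      congr 2
      exact Set.ext fun c => ⟨fun b => ⟨b.2.1, b.1⟩, fun b => ⟨b.2, b.1, h9 y c hy.2 hy.1 b.1 ⟨h.fix a (mem_T0.1 s0).1, e⟩⟩⟩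
  obtain ⟨V, v, hV⟩ := q.exists_V
  have h9 : ∀ y ∈ (Fx U : Set Ω) \ {a}, ∀ x ∈ T0 (E a) U U', x • y = y → x ∈ (⊥ : Subgroup G) := fun y hy x hx e' =>
    by_contra fun x1 => e ⟨x, hx, x1, y, hy, e'⟩
  have h10 := h.dvd_l hU h9
  have h11 := h.dvd_Q hU v h9
  rw [Subgroup.relIndex_bot_left] at h10 h11
  obtain ⟨i, hi, h12⟩ := Q_pow v
  have h13 : q₀ ^ 2 ≤ 2 ^ i := by
    by_contra h13
    exact hi.ne' (ar1 (h4.trans (Nat.mul_dvd_mul_left 3 (h12 ▸ h11))) (by omega) h6 (by omega))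
  have h14 := h.Q_dvd hU v
  have h15 : 2 ∣ (Fx U : Set Ω).ncard := h.p_dvd_F hU
  have h16 : ∃ y, y ∈ (Fx U : Set Ω)ᶜ ∧ ¬ 2 * Nat.card U ∣ (Orb V y).ncard := by
    by_contra h16
    have h17 := dvd_ncard_of_Orb V (d := 2 * Nat.card U) (Fx U : Set Ω)ᶜ (Set.toFinite _)
      (fun g hg b hb e' => hb (by simpa [mem_Fx] using le_stab_smul (nm_inv (v.nX g hg)) e'))
      fun b hb => by_contra fun e' => h16 ⟨b, hb, e'⟩
    have h18 := Set.ncard_add_ncard_compl (Fx U : Set Ω)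
    rw [h.card_eq hU, add_mul, one_mul] at h18
    rw [show (Fx U : Set Ω)ᶜ.ncard = ((Fx U : Set Ω).ncard - 1) * Nat.card U by rw [mul_comm]; (clear * - h8 h18; omega)] at h17
    have := Nat.dvd_of_mul_dvd_mul_right Nat.card_pos h17
    omega
  obtain ⟨y, y1, y2⟩ := h16
  obtain ⟨l, hl⟩ := ncard_Orb_eq_pow v.isP y
  have h17 : 2 ^ l ≤ 2 ^ n := Nat.pow_le_pow_right two_pos (by
    by_contra h17
    exact y2 (by rw [hl, h2, ← pow_succ']; exact pow_dvd_pow 2 (by omega)))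
  have h18 := ncard_Orb_mul V y
  rw [← card_mul_relIndex v.le, h12, h2, hl] at h18
  have h19 : 2 ^ i ≤ Nat.card ↥(V ⊓ stabilizer G y) := by
    refine Nat.le_of_mul_le_mul_left (c := 2 ^ n) ?_ (Nat.two_pow_pos n)
    rw [← h18]
    exact Nat.mul_le_mul_right _ h17
  have h20 : ∀ w ∈ V ⊓ stabilizer G y, w * w = 1 := fun w hw =>
    by_contra fun e' => y1 (h.fix_of_mem hU (hV w hw.1) e' (mul_mem hw.2 hw.2))
  obtain ⟨g, -, rfl⟩ := h.A.trans y a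
  have h21 := c7 (cj g (V ⊓ stabilizer G y))
    (by
      rintro _ ⟨w, hw, rfl⟩
      rw [h.eqv]
      exact nm_cj (h.nmE hw.2))
    (by
      rintro _ ⟨w, hw, rfl⟩
      rw [← map_mul, h20 w hw, map_one])
    (by
      rw [h.eqv, ← cj_centralizer, ← cj_inf, cj_eq_bot, Subgroup.eq_bot_iff_forall]
      exact fun w hw => h.nopc (v.leT hw.1.1) (n := 1) (by rw [pow_one, pow_two, h20 w hw.1]) hw.2)
  rw [card_cj] at h21
  (clear * - h5 h13 h19 c3 h21; omega)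

end Geo

end Cfsg.Agent.TH.Own.Rk
end

-- part: TH/Own/RkMain
section
/-!
# S3541, `BoxRk1` (helper90)
-/

set_option autoImplicit false
set_option linter.unusedSectionVars false
set_option linter.unusedVariables false

namespace Cfsg.Agent.TH.Own

open MulAction

theorem Rk.mem_of_pp {G : Type*} [Group G] {K L : Subgroup G}
    (h : ∀ t ∈ L, ∀ r j : ℕ, r.Prime → t ^ r ^ j = 1 → t ∈ K) (n : ℕ) : n ≠ 0 → ∀ x ∈ L, x ^ n = 1 → x ∈ K := by
  induction n using Nat.recOnPosPrimePosCoprime with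
  | prime_pow r j hr _ => exact fun _ x hx e => h x hx r j hr e
  | zero => exact fun e => (e rfl).elim
  | one => exact fun _ x _ e => by rw [pow_one] at e; rw [e]; exact one_mem _
  | coprime a b ha hb hab iha ihb =>
    exact fun _ x hx e => Rk.mem_of_coprime hab (ihb (by omega) _ (pow_mem hx a) (by rw [← pow_mul, e]))
      (iha (by omega) _ (pow_mem hx b) (by rw [← pow_mul, mul_comm, e]))

/-- **[RK1]** -/
theorem boxRk1 : BoxRk1 := by
  intro G _ _ Ω _ T p m a I I' _ _ S F κ A hS _ _ hq hR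
  have hp : Fact p.Prime := ⟨A.prime⟩
  have := A.nrm
  obtain ⟨U', T1, u1, u2, cyc, le1, le0, ne1, reg, hc⟩ := hR
  choose g g1 g2 using A.trans a
  let E : Ω → Subgroup G := fun b => cj (g b) (S.D Set.univ)
  have hE : ∀ x : G, E (x • a) = cj x (S.D Set.univ) := fun x => by
    have h1 := hS.nrmH (x⁻¹ * g (x • a)) (by rw [mul_smul, g2, inv_smul_smul])
    rw [← h1, ← cj_mul, mul_inv_cancel_left]
  have hEa : E a = S.D Set.univ := by
    have h1 := hE 1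
    rwa [one_smul, cj_one] at h1
  have hu : ({default} : Set I) = Set.univ := Set.eq_univ_of_forall fun k => Subsingleton.elim k default
  have hspl : Spl (S.D Set.univ) S.X := hu ▸ S.split default
  have hti : S.X ⊓ U' = ⊥ := by
    have h1 := S.pan default U' (hu ▸ u1) u2
    rw [hu] at h1
    exact le_bot_iff.1 (hS.V_univ A ▸ h1)
  have hX := S.toPS.maxP
  have hU' := hX.of_mem_Cjs u1
  have hfix : ∀ b, E b ≤ stabilizer G b := fun b => by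
    have h1 := (cj_le_stab (g := g b)).2 hS.fix
    rwa [g2] at h1
  have key : ∀ b P, MaxP p (E b) P → ∃ x : G, b = x • a ∧ P = cj x S.X := fun b P hP => by
    obtain ⟨e, he, rfl⟩ := (hX.cj (g b)).exists_eq hP
    exact ⟨e * g b, by rw [mul_smul, g2, hfix b he], (cj_mul _ _ _).symm⟩
  have key2 : ∀ b P P', MaxP p (E b) P → MaxP p (E b) P' → P ≠ P' → ∃ x : G, b = x • a ∧ P = cj x S.X ∧ P' = cj x U' :=
    fun b P P' hP hP' hne => by
      obtain ⟨x, rfl, rfl⟩ := key b P hP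
      rw [hE] at hP'
      obtain ⟨u, hu, e⟩ := hspl U' u1 u2 _ (mem_Cjs_cj.1 ((hX.cj x).mem_Cjs hP')) fun e => hne (by rw [← e, cj_cj_inv])
      exact ⟨x * u, by rw [mul_smul, hS.X_fix hu], by rw [cj_mul, cj_of_mem hu], by rw [cj_mul, e, cj_cj_inv]⟩
  obtain ⟨s, s0, r, j, hr, s1, s2⟩ : ∃ s ∈ T0 (S.D Set.univ) S.X U', ∃ r j : ℕ, r.Prime ∧ s ^ r ^ j = 1 ∧ s ∉ T1 := by
    by_contra e
    exact ne1 (le_antisymm le0 fun x hx => Rk.mem_of_pp
      (fun s s0 r j hr s1 => by_contra fun s2 => e ⟨s, s0, r, j, hr, s1, s2⟩) _ (orderOf_pos x).ne' x hx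
      (pow_orderOf_eq_one x))
  obtain ⟨s3, s4, s5⟩ := Rk.mem_T0.1 s0
  have hrp : r ≠ p := by
    rintro rfl
    have h1 : s ∈ S.X ⊓ U' := ⟨hX.mem_of_nm s1 s3 s4, hU'.mem_of_nm s1 s3 s5⟩
    rw [hti, Subgroup.mem_bot] at h1
    exact s2 (h1 ▸ one_mem _)
  have h : Rk.Geo Ω T p m E :=
    { A := A
      eqv := fun x b => by
        obtain ⟨y, -, rfl⟩ := A.trans a b
        rw [← mul_smul, hE, hE, cj_mul]
      leT := fun b => (cj_mono _ hS.leT).trans (cj_normal _ T).le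
      fix := hfix
      spl := fun b P hP => by
        obtain ⟨x, rfl, rfl⟩ := key b P hP
        rw [hE]
        exact hspl.cj x
      gen := fun b P hP K hK => by
        obtain ⟨x, rfl, rfl⟩ := key b P hP
        rw [hE] at hK ⊢
        exact (cj_le_iff x).2 (S.gen _ _ fun R hR => (cj_le_iff x).1 (hK _ (cj_mem_Cjs_cj.2 hR)))
      ti := fun b P P' hP hP' hne => by
        obtain ⟨x, -, rfl, rfl⟩ := key2 b P P' hP hP' hne
        rw [← cj_inf, hti, cj_bot]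
      ne := fun b P hP => by
        obtain ⟨x, rfl, rfl⟩ := key b P hP
        exact ⟨cj x U', hE x ▸ hU'.cj x, fun e => u2 (cj_inj x e)⟩
      quasi := fun b => quasi_equiv ((MulAut.conj (g b)).subgroupMap _) hq
      reg := fun b P P' hP hP' hne => by
        obtain ⟨x, rfl, rfl, rfl⟩ := key2 b P P' hP hP' hne
        refine ⟨x * s * x⁻¹, hE x ▸ conj_mem_cj x s3, r, j, hr, hrp, by rw [conj_pow, s1, mul_one, mul_inv_cancel],
          nm_cj s4, nm_cj s5, ?_⟩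
        rintro _ ⟨u, hu, rfl⟩ e
        rw [reg s s0 s2 u hu ((MulAut.conj x).injective (by rw [map_mul, map_mul]; exact e)), map_one] }
  rw [← hEa] at hX hU' cyc le1 le0 reg hc
  have t : Rk.Tor (E a) S.X U' T1 := ⟨cyc, le1, le0, reg⟩
  rcases hc with c | c | c | c
  · exact h.caseL hX hU' u2 t c
  · exact h.caseS hX hU' u2 t c
  · exact h.caseO hX hU' u2 t c
  · exact h.caseE hX hU' u2 t c

end Cfsg.Agent.TH.Own
end

private theorem dce_bf0cb938e685 : _root_.True := by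
  try have : _root_.True := by simp only [_root_.Cfsg.Agent.TH.Own.Rk.Xo.eq_1]
  try have : _root_.True := by simp only [_root_.Cfsg.Agent.TH.Own.T0.eq_1]
  try have : _root_.True := by simp only [_root_.Cfsg.Agent.TH.Own.Rk.Md.cjQ.eq_1]
  exact _root_.True.intro
end
end
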