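import Mathlib
import Cfsg.Agent.TH.Alt.Base_m3
import Cfsg.Agent.H88.RkRee_m3
import Cfsg.Agent.HKS.EndL
import Cfsg.Agent.H95.StemCover
import Cfsg.Agent.S2086
import Cfsg.Agent.S2116
import Cfsg.Agent.S0252
import Cfsg.Agent.S0253
import Cfsg.Agent.S0254
import Cfsg.Agent.TH.Own.RkMain
import Cfsg.Agent.FastGrp
import Cfsg.Agent.Prune
set_option linter.all false
prune_inst 0x7ff4fef8afb8addfdfff7e7ffef9dffe19d4dfffffdffb43ffede9ffefdf23633fe5fb8f1de4d8ff9ef6e09630b87853f97eca3fec6bdc7ffffd5ff41ffbee0fa5e7b78911d094240f342fff03f37fc86f3ffffffffffffffffffffffffffffffffdffffffff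
open scoped Cfsg.Agent.FastGrp

-- part: TH/Own/R1Lift
section
/-!
# S3541, `BoxR1D`: lifting the torus data from `E / Z(E)` to `E` (helper6)

* `Dat p z H S w T1` : the data in the simple group, `z` the order of the centre of the cover;
* `Mod p K` : `K` has such data for each of its perfect central extensions with centre of order prime to `p`;
* `r1d_of_mod` : `R1D p E U` from `Mod p K`, `K ≅ E / Z(E)`;
* `spl_dn` : `Spl` passes to the quotient.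
-/

set_option autoImplicit false
set_option linter.unusedSectionVars false
set_option linter.unusedVariables false

namespace Cfsg.Agent.TH.Own.R1

open Cfsg.Agent.H88 Cfsg.Agent.LieRecognition.RankOneAbstract

section Defs

variable {K : Type*} [Group K]

/-- `L₂(q)` -/
def KL (z : ℕ) (S T T1 : Subgroup K) : Prop := T1 = ⊥ ∧ z ≤ 2 ∧ Nat.card S ≤ 2 * Nat.card T + 1

/-- `Sz(q)` -/
def KS (p z : ℕ) (S T T1 : Subgroup K) : Prop :=
  p = 2 ∧ T1 = ⊥ ∧ z = 1 ∧ ∃ q : ℕ, Nat.card S = q ^ 2 ∧ Nat.card T + 1 = q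

/-- `U₃(q)`, `q` odd, and `Ree(q)` -/
def KO (p z : ℕ) (S T T1 : Subgroup K) : Prop :=
  p ≠ 2 ∧ ∃ q : ℕ, Nat.card S = q ^ 3 ∧ q - 1 ∣ 2 * T1.relIndex T ∧ Nat.Coprime z (2 * T1.relIndex T) ∧
    ∃ t ∈ T1, t ≠ 1 ∧ t * t = 1 ∧ Nat.card ↥(S ⊓ Subgroup.centralizer {t}) = q

/-- `U₃(q)`, `q` even -/
def KE (p z : ℕ) (S T T1 : Subgroup K) : Prop :=
  p = 2 ∧ ∃ q : ℕ, 4 ≤ q ∧ Nat.card S = q ^ 3 ∧ T1.relIndex T + 1 = q ∧ Nat.Coprime z (T1.relIndex T) ∧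
    q ^ 2 - 1 ∣ 3 * Nat.card T ∧ (∀ t ∈ T1, t ≠ 1 → Nat.card ↥(S ⊓ Subgroup.centralizer {t}) = q) ∧
    ∀ W : Subgroup (MulAut K), (∀ w ∈ W, w * w = 1) → Nat.card W ≤ 2 * q

/-- the data in the simple group -/
structure Dat (p z : ℕ) (H S : Subgroup K) (w : K) (T1 : Subgroup K) : Prop where
  rk : ∃ Φ, Rk p H S Φ w
  le : T1 ≤ tor H w
  ne : T1 ≠ tor H w
  reg : ∀ t ∈ tor H w, t ∉ T1 → ∀ u ∈ S, u * t = t * u → u = 1
  cas : KL z S (tor H w) T1 ∨ KS p z S (tor H w) T1 ∨ KO p z S (tor H w) T1 ∨ KE p z S (tor H w) T1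

/-- the data exist for each cover -/
def Mod (p : ℕ) (K : Type) [Group K] : Prop :=
  ∀ (X : Type) [Group X] [Finite X] (π : X →* K), Group.IsPerfect X → Function.Surjective π →
    π.ker ≤ Subgroup.center X → ¬ p ∣ Nat.card π.ker → ∃ (H S : Subgroup K) (w : K) (T1 : Subgroup K),
      Dat p (Nat.card π.ker) H S w T1

theorem maxP_of_rk [Finite K] {p : ℕ} {H S Φ : Subgroup K} {w : K} (R : Rk p H S Φ w) : MaxP p ⊤ S := by
  have : Fact p.Prime := ⟨R.prime⟩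
  have h1 := R.card_eq
  have h2 := S.index_mul_card
  have h3 : S.index = (Nat.card S + 1) * Nat.card (tor H w) := by
    apply Nat.eq_of_mul_eq_mul_right (Nat.card_pos (α := S))
    rw [h2, h1]; ring
  obtain ⟨a, ha, h4⟩ := R.exists_card
  have h5 : ¬ p ∣ S.index := by
    rw [h3]
    intro h
    rcases (Nat.Prime.dvd_mul R.prime).1 h with h | h
    · rw [h4] at h
      exact R.prime.one_lt.ne' (Nat.dvd_one.1 ((Nat.dvd_add_right (dvd_pow_self p ha.ne')).1 h))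
    · exact R.cop h
  exact ⟨le_top, R.pgrp, fun Q hQ _ h => (R.pgrp.toSylow h5).is_maximal' hQ h⟩

end Defs

section Lift

variable {G K : Type*} [Group G] [Group K] {p : ℕ} {E : Subgroup G}

/-- the preimage -/
def up (π : E →* K) (A : Subgroup K) : Subgroup G := (A.comap π).map E.subtype

/-- the image -/
def dn (π : E →* K) (U : Subgroup G) : Subgroup K := (U.subgroupOf E).map π

theorem mem_up {π : E →* K} {A : Subgroup K} {g : G} : g ∈ up π A ↔ ∃ h : g ∈ E, π ⟨g, h⟩ ∈ A :=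
  ⟨fun ⟨x, hx, h⟩ => h ▸ ⟨x.2, hx⟩, fun ⟨h, hx⟩ => ⟨⟨g, h⟩, hx, rfl⟩⟩

theorem coe_mem_up {π : E →* K} {A : Subgroup K} {x : E} : (x : G) ∈ up π A ↔ π x ∈ A :=
  mem_up.trans ⟨fun ⟨_, h⟩ => h, fun h => ⟨x.2, h⟩⟩

theorem mem_dn {π : E →* K} {U : Subgroup G} {k : K} : k ∈ dn π U ↔ ∃ x : E, (x : G) ∈ U ∧ π x = k := Iff.rfl

theorem up_mono (π : E →* K) {A B : Subgroup K} (h : A ≤ B) : up π A ≤ up π B :=
  Subgroup.map_mono (Subgroup.comap_mono h)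

theorem dn_cj (π : E →* K) (e : E) (U : Subgroup G) : dn π (cj (e : G) U) = cj (π e) (dn π U) := by
  ext k
  rw [mem_cj, mem_dn, mem_dn]
  constructor
  · rintro ⟨x, hx, rfl⟩
    exact ⟨e⁻¹ * x * e, mem_cj.1 hx, by simp only [_root_.map_mul, _root_.map_inv]⟩
  · rintro ⟨x, hx, h⟩
    refine ⟨e * x * e⁻¹, conj_mem_cj _ hx, ?_⟩
    rw [map_mul, map_mul, h, map_inv]; group

/-- a central extension with kernel the centre, of order prime to `p` -/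
structure Cov (p : ℕ) (E : Subgroup G) (π : E →* K) : Prop where
  prime : p.Prime
  surj : Function.Surjective π
  ker : ∀ x : E, π x = 1 ↔ (x : G) ∈ Zc E
  cop : ¬ p ∣ Nat.card (Zc E)
  aut : ∀ W : Subgroup G, (∀ w ∈ W, cj w E = E) → W ⊓ Subgroup.centralizer (E : Set G) = ⊥ →
    ∃ φ : W →* MulAut K, Function.Injective φ

theorem zc_comm {z x : G} (hz : z ∈ Zc E) (hx : x ∈ E) : x * z = z * x := hz.2 x hx

namespace Cov

variable {π : E →* K} (C : Cov p E π)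
include C

theorem up_bot : up π ⊥ = Zc E := by
  ext g
  rw [mem_up]
  exact ⟨fun ⟨h, h1⟩ => (C.ker _).1 h1, fun h => ⟨h.1, (C.ker ⟨g, h.1⟩).2 h⟩⟩

theorem relIndex_up (A B : Subgroup K) : (up π A).relIndex (up π B) = A.relIndex B := by
  unfold up
  rw [Subgroup.relIndex_map_map_of_injective _ _ E.subtype_injective, Subgroup.relIndex_comap,
    Subgroup.map_comap_eq_self_of_surjective C.surj]

theorem up_inj {A B : Subgroup K} (h : up π A = up π B) : A = B := by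
  ext k
  obtain ⟨x, rfl⟩ := C.surj k
  rw [← coe_mem_up, h, coe_mem_up]

theorem exists_z {x y : E} (h : π x = π y) : ∃ z ∈ Zc E, (x : G) = y * z :=
  ⟨((y⁻¹ * x : E) : G), (C.ker _).1 (by rw [map_mul, map_inv, h, inv_mul_cancel]), by simp only [_root_.Subgroup.coe_mul, _root_.InvMemClass.coe_inv, _root_.mul_inv_cancel_left]⟩

variable [Finite G]

/-- `p`-elements with the same image are equal -/
theorem eq_of_eq {x y : E} {a b : ℕ} (hx : (x : G) ^ p ^ a = 1) (hy : (y : G) ^ p ^ b = 1) (h : π x = π y) :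
    x = y := by
  obtain ⟨z, hz, h1⟩ := C.exists_z h
  have h2 : Commute (y : G) z := zc_comm hz y.2
  have h3 : z ^ p ^ (a + b) = 1 := by
    have h4 : (x : G) ^ p ^ (a + b) = 1 := by rw [pow_add, pow_mul, hx, one_pow]
    have h5 : (y : G) ^ p ^ (a + b) = 1 := by rw [add_comm, pow_add, pow_mul, hy, one_pow]
    rwa [h1, h2.mul_pow, h5, one_mul] at h4
  have h4 : orderOf z = 1 :=
    Nat.eq_one_of_dvd_coprimes (Nat.Coprime.pow_left _ ((Nat.Prime.coprime_iff_not_dvd C.prime).2 C.cop))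
      (orderOf_dvd_of_pow_eq_one h3) (Subgroup.orderOf_dvd_natCard _ hz)
  rw [orderOf_eq_one_iff] at h4
  rw [h4, mul_one] at h1
  exact Subtype.ext h1

theorem conj_pow' {t x : G} {a : ℕ} (hx : x ^ p ^ a = 1) : (t * x * t⁻¹) ^ p ^ a = 1 := by
  rw [conj_pow, hx, mul_one, mul_inv_cancel]

variable {U : Subgroup G} (hP : IsPGroup p U)
include hP

theorem mem_of_dn {x : E} {a : ℕ} (hx : (x : G) ^ p ^ a = 1) (h : π x ∈ dn π U) : (x : G) ∈ U := by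
  obtain ⟨y, hy, h1⟩ := h
  obtain ⟨b, hb⟩ := exists_pow_of_isP hP hy
  rw [← C.eq_of_eq hb hx h1]
  exact hy

theorem nm_iff' (hU : U ≤ E) (t : E) : cj (t : G) U = U ↔ cj (π t) (dn π U) = dn π U := by
  refine ⟨fun h => by rw [← dn_cj, h], fun h => nm_of_conj fun x hx => ?_⟩
  obtain ⟨a, ha⟩ := exists_pow_of_isP hP hx
  refine C.mem_of_dn hP (x := t * ⟨x, hU hx⟩ * t⁻¹) (C.conj_pow' ha) ?_
  rw [map_mul, map_mul, map_inv]
  exact nm_conj h ⟨⟨x, hU hx⟩, hx, rfl⟩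

theorem comm_iff {u : E} (hu : (u : G) ∈ U) (t : E) : (u : G) * t = t * u ↔ π u * π t = π t * π u := by
  constructor
  · intro h
    rw [← map_mul, ← map_mul]
    exact congrArg π (Subtype.ext h)
  · intro h
    obtain ⟨a, ha⟩ := exists_pow_of_isP hP hu
    have h1 : t * u * t⁻¹ = u := C.eq_of_eq (C.conj_pow' ha) ha (by
      rw [map_mul, map_mul, map_inv, ← h, mul_inv_cancel_right])
    have h2 : (t : G) * u * (t : G)⁻¹ = u := congrArg Subtype.val h1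
    rw [mul_inv_eq_iff_eq_mul] at h2
    exact h2.symm

theorem card_dn (hU : U ≤ E) : Nat.card (dn π U) = Nat.card U := by
  symm
  refine Nat.card_congr (Equiv.ofBijective (fun x => ⟨π ⟨x.1, hU x.2⟩, ⟨_, x.2, rfl⟩⟩) ⟨fun x y h => ?_, ?_⟩)
  · obtain ⟨a, ha⟩ := exists_pow_of_isP hP x.2
    obtain ⟨b, hb⟩ := exists_pow_of_isP hP y.2
    have h1 := C.eq_of_eq (x := ⟨x.1, hU x.2⟩) (y := ⟨y.1, hU y.2⟩) ha hb (congrArg Subtype.val h)
    exact Subtype.ext (congrArg (fun z : E => (z : G)) h1)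
  · rintro ⟨_, x, hx, rfl⟩
    exact ⟨⟨x, hx⟩, rfl⟩

theorem card_cent (hU : U ≤ E) (t : E) :
    Nat.card ↥(U ⊓ Subgroup.centralizer {(t : G)}) = Nat.card ↥(dn π U ⊓ Subgroup.centralizer {π t}) := by
  rw [← C.card_dn (hP.to_le inf_le_left) (inf_le_left.trans hU)]
  congr 2
  ext k
  constructor
  · rintro ⟨x, ⟨hx, hx'⟩, rfl⟩
    exact ⟨⟨x, hx, rfl⟩, Subgroup.mem_centralizer_singleton_iff.2
      ((C.comm_iff hP hx t).1 (Subgroup.mem_centralizer_singleton_iff.1 hx'))⟩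
  · rintro ⟨⟨x, hx, rfl⟩, hx'⟩
    exact ⟨x, ⟨hx, Subgroup.mem_centralizer_singleton_iff.2
      ((C.comm_iff hP hx t).2 (Subgroup.mem_centralizer_singleton_iff.1 hx'))⟩, rfl⟩

/-- **lifting** -/
theorem lift (hU : U ≤ E) {H T1 : Subgroup K} {w : K} (D : Dat p (Nat.card (Zc E)) H (dn π U) w T1) :
    R1D p E U := by
  have : Finite K := Finite.of_surjective _ C.surj
  obtain ⟨Φ, R⟩ := D.rk
  obtain ⟨v, rfl⟩ := C.surj w
  have hN : ∀ t : E, cj (t : G) U = U ↔ π t ∈ H := fun t => by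
    rw [C.nm_iff' hP hU, ← nm_iff, R.data.normalizer_eq R.ne]
  have hT : T0 E U (cj (v : G) U) = up π (tor H (π v)) := by
    ext g
    rw [mem_up]
    constructor
    · rintro ⟨⟨h1, h2⟩, h3⟩
      refine ⟨h1, mem_tor.2 ⟨(hN ⟨g, h1⟩).1 (nm_iff.1 h2), ?_⟩⟩
      have h4 := (hN (v⁻¹ * ⟨g, h1⟩ * v :)).1 (nm_cj_iff.1 (nm_iff.1 h3))
      rwa [map_mul, map_mul, map_inv] at h4
    · rintro ⟨h1, h2⟩
      obtain ⟨h3, h4⟩ := mem_tor.1 h2
      refine ⟨⟨h1, nm_iff.2 ((hN ⟨g, h1⟩).2 h3)⟩, nm_iff.2 ((nm_cj_iff.2 (((hN (v⁻¹ * ⟨g, h1⟩ * v :)).2 ?_ :)) :))⟩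
      rwa [map_mul, map_mul, map_inv]
  have hZ : (Zc E).relIndex (up π (tor H (π v))) = Nat.card (tor H (π v)) := by
    rw [← C.up_bot, C.relIndex_up, Subgroup.relIndex_bot_left]
  refine ⟨cj (v : G) U, up π T1, ⟨v, v.2, rfl⟩, fun h => R.data.w_not_mem ((hN v).1 h), ?_, ?_, ?_, ?_, ?_, ?_⟩
  · rw [hT]
    have := R.cyc
    obtain ⟨g, hg⟩ := IsCyclic.exists_monoid_generator (α := tor H (π v))
    obtain ⟨t₀, ht₀⟩ := C.surj g
    refine ⟨t₀, coe_mem_up.2 (ht₀ ▸ g.2), fun t ht => ?_⟩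
    obtain ⟨h1, h2⟩ := mem_up.1 ht
    obtain ⟨k, hk⟩ := hg ⟨_, h2⟩
    obtain ⟨z, hz, h3⟩ := C.exists_z (x := ⟨t, h1⟩) (y := t₀ ^ k) (by
      rw [map_pow, ht₀]; exact (congrArg Subtype.val hk).symm)
    exact ⟨k, z, hz, h3⟩
  · rw [← C.up_bot]; exact up_mono π bot_le
  · rw [hT]; exact up_mono π D.le
  · rw [hT]; exact fun h => D.ne (C.up_inj h)
  · rw [hT]
    intro t ht ht' u hu h
    obtain ⟨h1, h2⟩ := mem_up.1 ht
    have h3 := D.reg _ h2 (fun h4 => ht' (mem_up.2 ⟨h1, h4⟩)) (π ⟨u, hU hu⟩) ⟨_, hu, rfl⟩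
      ((C.comm_iff hP (u := ⟨u, hU hu⟩) hu ⟨t, h1⟩).1 h)
    obtain ⟨a, ha⟩ := exists_pow_of_isP hP hu
    exact congrArg Subtype.val (C.eq_of_eq (x := ⟨u, hU hu⟩) (y := 1) (b := 0) ha (by simp) (by rw [h3, map_one]))
  · rcases D.cas with ⟨h1, h2, h3⟩ | ⟨h1, h2, h3, q, h4, h5⟩ | ⟨h1, q, h2, h3, h4, t, h5, h6, h7, h8⟩ |
      ⟨h1, q, h2, h3, h4, h5, h6, h7, h8⟩
    · refine Or.inl ⟨by rw [h1, C.up_bot], h2, ?_⟩
      rw [hT, hZ, ← C.card_dn hP hU]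
      exact h3
    · have h6 : Zc E = ⊥ := Subgroup.card_eq_one.1 h3
      refine Or.inr (Or.inl ⟨h1, by rw [h2, C.up_bot, h6], q, by rw [← C.card_dn hP hU, h4], ?_⟩)
      rw [h6, Subgroup.relIndex_bot_left] at hZ
      rw [hT, hZ, h5]
    · refine Or.inr (Or.inr (Or.inl ⟨h1, q, by rw [← C.card_dn hP hU, h2], ?_, ?_, ?_⟩))
      · rw [hT, C.relIndex_up]; exact h3
      · rw [hT, C.relIndex_up]; exact h4
      · obtain ⟨s, rfl⟩ := C.surj t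
        have h9 : Odd (Nat.card (Zc E)) := Nat.coprime_two_right.1 (Nat.Coprime.coprime_mul_right_right h4)
        have h10 : π (s ^ Nat.card (Zc E)) = π s := by
          obtain ⟨k, hk⟩ := h9
          rw [map_pow, hk, pow_succ, pow_mul, pow_two, h7, one_pow, one_mul]
        refine ⟨(s ^ Nat.card (Zc E) : E), coe_mem_up.2 (h10 ▸ h5), fun h => h6 (h10 ▸ (C.ker _).2 h), ?_, ?_⟩
        · have h11 : ((s * s : E) : G) ∈ Zc E := (C.ker _).1 (by rw [map_mul, h7])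
          have h12 := congrArg Subtype.val (pow_card_eq_one' (G := Zc E) (x := ⟨_, h11⟩))
          rw [Subgroup.coe_pow, ← (Commute.refl (s : G)).mul_pow]
          exact h12
        · rw [C.card_cent hP hU, h10, h8]
    · refine Or.inr (Or.inr (Or.inr ⟨h1, q, h2, by rw [← C.card_dn hP hU, h3], ?_, ?_, ?_, ?_, ?_⟩))
      · rw [hT, C.relIndex_up]; exact h4
      · rw [hT, C.relIndex_up]; exact h5
      · rw [hT, hZ]; exact h6
      · intro t ht ht'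
        obtain ⟨h9, h10⟩ := mem_up.1 ht
        exact (C.card_cent hP hU ⟨t, h9⟩).trans (h7 _ h10 fun h => ht' ((C.ker _).1 h))
      · intro W hW1 hW2 hW3
        obtain ⟨φ, hφ⟩ := C.aut W hW1 hW3
        rw [Nat.card_congr (MonoidHom.ofInjective hφ).toEquiv]
        refine h8 _ ?_
        rintro _ ⟨x, rfl⟩
        rw [← map_mul, show x * x = 1 from Subtype.ext (hW2 _ x.2), map_one]

omit hP

theorem maxP_dn (h : MaxP p E U) : MaxP p ⊤ (dn π U) := by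
  have : Fact p.Prime := ⟨C.prime⟩
  have : Finite K := Finite.of_surjective _ C.surj
  have h1 : IsPGroup p (dn π U) := h.isP.comap_subtype.map π
  have h2 : ¬ p ∣ (dn π U).index := fun h3 =>
    h.not_dvd (h3.trans (Subgroup.index_map_dvd (U.subgroupOf E) C.surj))
  exact ⟨le_top, h1, fun Q hQ _ h3 => (h1.toSylow h2).is_maximal' hQ h3⟩

omit [Finite G] in
theorem spl_dn (hU : U ≤ E) (h : Spl E U) : Spl ⊤ (dn π U) := by
  rintro _ ⟨k, -, rfl⟩ h1 _ ⟨k', -, rfl⟩ h2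
  obtain ⟨e, rfl⟩ := C.surj k
  obtain ⟨e', rfl⟩ := C.surj k'
  obtain ⟨x, hx, h3⟩ := h _ ⟨e, e.2, rfl⟩ (fun h4 => h1 (by rw [← dn_cj, h4])) _ ⟨e', e'.2, rfl⟩
    (fun h4 => h2 (by rw [← dn_cj, h4]))
  refine ⟨π ⟨x, hU hx⟩, ⟨_, hx, rfl⟩, ?_⟩
  rw [← dn_cj, ← dn_cj, ← dn_cj, ← h3]

end Cov

/-- the automorphism of the central quotient -/
def qa (X : Type*) [Group X] : MulAut X →* MulAut (X ⧸ Subgroup.center X) where
  toFun φ := QuotientGroup.congr (Subgroup.center X) (Subgroup.center X) φ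
    (Subgroup.characteristic_iff_map_eq.1 inferInstance φ)
  map_one' := by ext ⟨x⟩; rfl
  map_mul' a b := by ext ⟨x⟩; rfl

theorem qa_inj {X : Type*} [Group X] (h : Group.IsPerfect X) : Function.Injective (qa X) := by
  rw [injective_iff_map_eq_one]
  intro α hα
  have h1 : ∀ x : X, x⁻¹ * α x ∈ Subgroup.center X := fun x => by
    have h2 : (QuotientGroup.mk (α x) : X ⧸ Subgroup.center X) = QuotientGroup.mk x :=
      DFunLike.congr_fun hα (QuotientGroup.mk x)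
    exact QuotientGroup.eq.1 h2.symm
  let f : X →* Subgroup.center X := MonoidHom.mk' (fun x => ⟨_, h1 x⟩) fun x y => Subtype.ext (by
    have h3 := Subgroup.mem_center_iff.1 (h1 x) y⁻¹
    change (x * y)⁻¹ * α (x * y) = x⁻¹ * α x * (y⁻¹ * α y)
    rw [map_mul, mul_inv_rev, ← mul_assoc (x⁻¹ * α x), ← h3]; group)
  have h4 : commutator X ≤ f.ker := by
    rw [commutator_def, Subgroup.commutator_le]
    intro x _ y _
    rw [MonoidHom.mem_ker, map_commutatorElement, commutatorElement_eq_one_iff_mul_comm]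
    exact Subtype.ext (Subgroup.mem_center_iff.1 (f y).2 _)
  rw [h.commutator_eq_top] at h4
  ext x
  have h5 : x⁻¹ * α x = 1 := congrArg Subtype.val (h4 (Subgroup.mem_top x))
  exact (inv_mul_eq_one.1 h5).symm

theorem mem_center_iff_zc (x : E) : x ∈ Subgroup.center E ↔ (x : G) ∈ Zc E := by
  rw [Subgroup.mem_center_iff]
  exact ⟨fun h => ⟨x.2, fun g hg => congrArg Subtype.val (h ⟨g, hg⟩)⟩, fun h g => Subtype.ext (h.2 g g.2)⟩

/-- the projection -/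
def pj (e : (E ⧸ Subgroup.center E) ≃* K) : E →* K := e.toMonoidHom.comp (QuotientGroup.mk' _)

theorem pj_eq_one (e : (E ⧸ Subgroup.center E) ≃* K) (x : E) : pj e x = 1 ↔ x ∈ Subgroup.center E := by
  rw [← QuotientGroup.eq_one_iff]
  exact e.map_eq_one_iff

theorem cov_pj (hp : p.Prime) (hE : Group.IsPerfect E) (hZ : ¬ p ∣ Nat.card (Zc E))
    (e : (E ⧸ Subgroup.center E) ≃* K) : Cov p E (pj e) where
  prime := hp
  surj := e.surjective.comp (QuotientGroup.mk'_surjective _)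
  ker x := (pj_eq_one e x).trans (mem_center_iff_zc x)
  cop := hZ
  aut W h1 h2 := by
    have h3 : W ≤ Subgroup.normalizer (E : Set G) := fun w hw => nm_iff.2 (h1 w hw)
    refine ⟨((MulAut.congr e).toMonoidHom.comp (qa E)).comp (E.normalizerMonoidHom.comp (Subgroup.inclusion h3)),
      ((MulAut.congr e).injective.comp (qa_inj hE)).comp ?_⟩
    rw [injective_iff_map_eq_one]
    intro w hw
    have h4 : (w : G) ∈ W ⊓ Subgroup.centralizer (E : Set G) := ⟨w.2, by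
      have h5 : Subgroup.inclusion h3 w ∈ E.normalizerMonoidHom.ker := hw
      rw [Subgroup.normalizerMonoidHom_ker] at h5
      exact h5⟩
    rw [h2] at h4
    exact Subtype.ext h4

theorem card_ker_pj (e : (E ⧸ Subgroup.center E) ≃* K) : Nat.card (pj e).ker = Nat.card (Zc E) :=
  Nat.card_congr ⟨fun x => ⟨x.1.1, (mem_center_iff_zc _).1 ((pj_eq_one e _).1 x.2)⟩,
    fun x => ⟨⟨x.1, x.2.1⟩, (pj_eq_one e _).2 ((mem_center_iff_zc _).2 x.2)⟩, fun _ => rfl, fun _ => rfl⟩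

end Lift

theorem r1d_of_mod {G K : Type} [Group G] [Finite G] [Group K] {p : ℕ} {E U : Subgroup G} (hp : p.Prime)
    (hE : Group.IsPerfect E) (hZ : ¬ p ∣ Nat.card (Zc E)) (hU : MaxP p E U) (e : (E ⧸ Subgroup.center E) ≃* K)
    (hK : Mod p K) : R1D p E U := by
  have : Fact p.Prime := ⟨hp⟩
  have C := cov_pj hp hE hZ e
  have : Finite K := Finite.of_surjective _ C.surj
  obtain ⟨H, S, w, T1, D⟩ := hK E (pj e) hE C.surj (fun x hx => (pj_eq_one e x).1 hx) (by rwa [card_ker_pj])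
  rw [card_ker_pj] at D
  obtain ⟨Φ, R⟩ := D.rk
  obtain ⟨k, -, hk⟩ := (C.maxP_dn hU).exists_eq (maxP_of_rk R)
  have h1 : dn (pj (e.trans (MulAut.conj k))) U = S := by
    rw [hk]
    exact (Subgroup.map_map (U.subgroupOf E) (MulAut.conj k).toMonoidHom (pj e)).symm
  exact (cov_pj hp hE hZ (e.trans (MulAut.conj k))).lift hU.isP hU.le (h1 ▸ D)

end Cfsg.Agent.TH.Own.R1
end

-- part: TH/Own/R1L
section
/-!
# S3541, `BoxR1D`: `L₂(q)` (helper6)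
-/

set_option autoImplicit false
set_option linter.unusedSectionVars false
set_option linter.unusedVariables false

namespace Cfsg.Agent.TH.Own.R1

open Cfsg.Agent.H88 Cfsg.Agent.HKS.EndL Matrix

theorem ker_dvd {X K L : Type} [Group X] [Group K] [Group L] {n : ℕ} (hA : Cfsg.HasCyclicSchurMultiplier L n)
    (e : K ≃* L) {π : X →* K} (h1 : Group.IsPerfect X) (h2 : Function.Surjective π)
    (h3 : π.ker ≤ Subgroup.center X) : Nat.card π.ker ∣ n := by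
  have h4 : (e.toMonoidHom.comp π).ker = π.ker := MonoidHom.ker_comp_of_injective _ _ e.injective
  rw [← h4]
  exact H95.StemCover.card_ker_dvd_cyclic hA h1.commutator_eq_top _ (e.surjective.comp h2) (h4 ▸ h3)

theorem card_le_ker_mul {A K : Type*} [Group A] [Group K] (τ : A →* K) :
    Nat.card A = Nat.card τ.ker * Nat.card τ.range := by
  rw [← Subgroup.index_ker, Subgroup.card_mul_index]

theorem mod_L {F : Type} [Field F] [Fintype F] {p : ℕ} (hp : p.Prime) [CharP F p] (h4 : 4 ≤ Fintype.card F) :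
    Mod p (ProjectiveSpecialLinearGroup (Fin 2) F) := by
  intro X _ _ π h1 h2 h3 hz
  obtain ⟨k, -, hk⟩ := FiniteField.card F p
  have R := (RkPsl.rk hp k.2.ne' hk).quot (pr F) (QuotientGroup.mk'_surjective _) ker_le
  have hT : tor ((bor F).map (pr F)) (pr F (wl F)) = ((pr F).comp (dgHom F)).range := by
    ext x
    rw [mem_tor]
    exact ⟨fun ⟨h5, h6⟩ => (exists_dg h5 h6).imp fun α h => h.symm, fun ⟨α, h⟩ => h ▸ ⟨dg_mem α, dg_mem' α⟩⟩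
  have h5 : Nat.card ((pr F).comp (dgHom F)).ker ≤ 2 := by
    refine le_trans (Subgroup.card_le_of_le ?_)
      (RkField.ker_le_two (φ := powMonoidHom 2) (K := F) fun a ha => ha)
    intro α hα
    have h6 := (center_entries (pr_eq_one.1 hα)).2.2
    change (dg α).1 0 0 = (dg α).1 1 1 at h6
    have h7 : α = α⁻¹ := Units.ext (by simpa [dg] using h6)
    change α ^ 2 = 1
    rw [pow_two, mul_eq_one_iff_eq_inv]
    exact h7
  have h6 := card_le_ker_mul ((pr F).comp (dgHom F))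
  rw [Nat.card_units, Nat.card_eq_fintype_card, ← hT] at h6
  have h7 : Fintype.card F - 1 ≤ 2 * Nat.card (tor ((bor F).map (pr F)) (pr F (wl F))) :=
    h6 ▸ Nat.mul_le_mul_right _ h5
  refine ⟨_, _, _, ⊥, ⟨_, R⟩, bot_le, fun h => ?_, ?_, Or.inl ⟨rfl, ?_, ?_⟩⟩
  · rw [← h, Subgroup.card_bot] at h7
    omega
  · rw [hT]
    rintro _ ⟨α, rfl⟩ ht _ ⟨_, ⟨x, rfl⟩, rfl⟩ h
    have h8 : x.toAdd = 0 := (comm_dg h.symm).resolve_left ht
    change pr F (um x.toAdd) = 1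
    rw [h8, um_zero, map_one]
  · by_cases hq4 : Fintype.card F = 4
    · obtain ⟨e⟩ := S0252.result hq4
      have : Fact (Nat.Prime 5) := ⟨Nat.prime_five⟩
      obtain ⟨e'⟩ := S0253.result (ZMod.card 5)
      exact Nat.le_of_dvd two_pos (ker_dvd (S2086.result (ZMod.card 5) 2 le_rfl (by norm_num) (by simp))
        (e.trans e'.symm) h1 h2 h3)
    by_cases hq9 : Fintype.card F = 9
    · obtain ⟨e⟩ := S0254.result hq9
      have h8 := ker_dvd (S2116.result 6 (Or.inl rfl)) e h1 h2 h3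
      have h9 : p = 3 := (Nat.prime_dvd_prime_iff_eq hp Nat.prime_three).1
        (hp.dvd_of_dvd_pow (n := 2) (by rw [show 3 ^ 2 = Fintype.card F from hq9.symm, hk]; exact dvd_pow_self p k.2.ne'))
      subst h9
      have h10 := Nat.le_of_dvd (by norm_num) h8
      generalize Nat.card π.ker = z at *
      interval_cases z <;> omega
    · exact (Nat.le_of_dvd (Nat.gcd_pos_of_pos_left _ two_pos) (ker_dvd (S2086.result rfl 2 le_rfl (fun _ => h4)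
        (by simp only [hq4, hq9, _root_.Set.mem_insert_iff, _root_.Prod.mk.injEq, _root_.and_false, _root_.Nat.reduceEqDiff, _root_.false_and, _root_.and_self, _root_.Set.mem_singleton_iff, _root_.or_self, _root_.not_false_eq_true])) (MulEquiv.refl _) h1 h2 h3)).trans (Nat.gcd_le_left _ two_pos)
  · rw [card_S]
    omega

end Cfsg.Agent.TH.Own.R1
end

-- part: TH/Own/SpTwo
section
/-!
# S3541, `BoxOwn`: the complements in the situation `Sp` (helper74)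
-/

set_option autoImplicit false
set_option linter.unusedSectionVars false
set_option linter.unusedVariables false

namespace Cfsg.Agent.TH.Own

open MulAction

variable {G : Type*} [Group G] {p : ℕ} {D X : Subgroup G} {N : Type*} [Group N] [MulDistribMulAction D N]

variable (D N) in
/-- the commutator subgroup `[C(X), B]` -/
def Br (X B : Subgroup G) : Subgroup N :=
  Subgroup.closure {v | ∃ u ∈ CC D N X, ∃ d : D, (d : G) ∈ B ∧ v = u⁻¹ * d • u}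

theorem mem_Br {B : Subgroup G} {u : N} (hu : u ∈ CC D N X) {d : D} (hd : (d : G) ∈ B) : u⁻¹ * d • u ∈ Br D N X B :=
  Subgroup.subset_closure ⟨u, hu, d, hd, rfl⟩

theorem Br_le {B : Subgroup G} {K : Subgroup N} (h : ∀ u ∈ CC D N X, ∀ d : D, (d : G) ∈ B → u⁻¹ * d • u ∈ K) :
    Br D N X B ≤ K := (Subgroup.closure_le K).2 (by rintro _ ⟨u, hu, d, hd, rfl⟩; exact h u hu d hd)

theorem smul_mem_Br {B : Subgroup G} {e : D} (he : (e : G) ∈ B) {v : N} (hv : v ∈ Br D N X B) : e • v ∈ Br D N X B :=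
  Br_le (K := (Br D N X B).comap (MulDistribMulAction.toMonoidHom N e)) (fun u hu d hd => by
    have h1 := mul_mem (inv_mem (mem_Br hu he)) (mem_Br (d := e * d) hu (mul_mem he hd))
    rw [mul_inv_rev, inv_inv, mul_assoc, mul_inv_cancel_left, mul_smul, ← smul_inv', ← smul_mul'] at h1
    exact h1) hv

theorem smul_mem_CC_nm {e : D} (he : cj (e : G) X = X) {w : N} (hw : w ∈ CC D N X) : e • w ∈ CC D N X :=
  he ▸ smul_mem_CC hw e

variable (D N) in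
/-- the centre of `C(X)` -/
def ZC (X : Subgroup G) : Subgroup N where
  carrier := {k | k ∈ CC D N X ∧ ∀ v ∈ CC D N X, v * k = k * v}
  one_mem' := ⟨one_mem _, fun v _ => by rw [mul_one, one_mul]⟩
  mul_mem' {a b} ha hb := ⟨mul_mem ha.1 hb.1, fun v hv => by
    rw [← mul_assoc, ha.2 v hv, mul_assoc, hb.2 v hv, mul_assoc]⟩
  inv_mem' {a} ha := ⟨inv_mem ha.1, fun v hv => by
    rw [mul_inv_eq_iff_eq_mul, mul_assoc, ha.2 v hv, inv_mul_cancel_left]⟩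

theorem smul_mem_ZC {e : D} {k : N} (hk : k ∈ ZC D N X) : e • k ∈ ZC D N (cj (e : G) X) :=
  ⟨smul_mem_CC hk.1 e, fun v hv => by
    have h1 := smul_mem_CC hv e⁻¹
    rw [Subgroup.coe_inv, cj_inv_cj] at h1
    have h2 := congrArg (e • ·) (hk.2 _ h1)
    simpa only [smul_mul', smul_inv_smul] using h2⟩

namespace Sp

variable [Finite G] [Finite N] [hp : Fact p.Prime] (h : Sp p D X N)

include h

theorem exists_ZC {u : N} (hu : u ∈ CC D N X) : ∃ k ∈ ZC D N X, k⁻¹ * u ∈ CC D N D ∧ ∀ d : D, u⁻¹ * d • u = k⁻¹ * d • k := by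
  obtain ⟨k, h1, h2, h3⟩ := h.exists_central hu
  refine ⟨k, ⟨h1, fun v hv => (h2 v hv).symm⟩, h3, fun d => ?_⟩
  have h4 := smul_eq_of_CC h3 d
  have h5 := (smul_mem_ZC (e := d) ⟨h1, fun v hv => (h2 v hv).symm⟩).2 _ (CC_D_le _ h3)
  have h6 := h2 _ (CC_D_le X h3)
  generalize hn : k⁻¹ * u = n at h3 h4 h5 h6
  obtain rfl : u = k * n := by rw [← hn, mul_inv_cancel_left]
  rw [smul_mul', h4, ← h5, h6]
  group

theorem Br_le_ZC : Br D N X (Subgroup.normalizer (X : Set G)) ≤ ZC D N X :=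
  Br_le fun u hu d hd => by
    obtain ⟨k, h1, -, h2⟩ := h.exists_ZC hu
    rw [h2]
    exact mul_mem (inv_mem h1) (nm_iff.1 hd ▸ smul_mem_ZC (e := d) h1)

/-- coprime action -/
theorem eq_one_of_Br {v : N} (h1 : v ∈ Br D N X (Subgroup.normalizer (X : Set G))) (h2 : v ∈ CC D N D) : v = 1 := by
  classical
  let B : Subgroup G := D ⊓ Subgroup.normalizer (X : Set G)
  let ι : B →* D := Subgroup.inclusion inf_le_left
  let _ : CommGroup (ZC D N X) := { (inferInstance : Group (ZC D N X)) with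
    mul_comm := fun a b => Subtype.ext (b.2.2 a a.2.1) }
  have hm : ∀ (b : B), ∀ k ∈ ZC D N X, ι b • k ∈ ZC D N X := fun b k hk => by
    have h3 := smul_mem_ZC (e := ι b) hk
    rwa [show cj ((ι b : D) : G) X = X from nm_iff.1 b.2.2] at h3
  let f : B → ZC D N X →* ZC D N X := fun b =>
    { toFun := fun k => ⟨ι b • (k : N), hm b k k.2⟩
      map_one' := Subtype.ext (smul_one _)
      map_mul' := fun a c => Subtype.ext (smul_mul' _ _ _) }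
  have := Fintype.ofFinite (B ⧸ X.subgroupOf B)
  let ν : ZC D N X →* ZC D N X := ∏ c : B ⧸ X.subgroupOf B, f c.out⁻¹
  have hν : ∀ k, ν k = ∏ c : B ⧸ X.subgroupOf B, f c.out⁻¹ k := fun k => MonoidHom.finsetProd_apply _ _ _
  have h3 : ∀ (b : B) k, ν (f b k) = ν k := fun b k => by
    rw [hν, hν]
    refine Fintype.prod_equiv (MulAction.toPerm b⁻¹) _ _ fun c => Subtype.ext ?_
    obtain ⟨x, hx⟩ := QuotientGroup.mk_out_eq_mul (X.subgroupOf B) (b⁻¹ * c.out)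
    have h4 : (MulAction.toPerm b⁻¹) c = ((b⁻¹ * c.out : B) : B ⧸ X.subgroupOf B) :=
      (MulAction.Quotient.mk_smul_out (X.subgroupOf B) b⁻¹ c).symm
    rw [h4, hx]
    show ι c.out⁻¹ • ι b • (k : N) = ι (b⁻¹ * c.out * x)⁻¹ • (k : N)
    rw [mul_inv_rev, mul_inv_rev, inv_inv, map_mul, map_mul, mul_smul, mul_smul]
    exact ((hm _ _ (hm _ _ k.2)).1 (ι (x : B)⁻¹) (inv_mem (show ((x : B) : G) ∈ X from x.2))).symm
  obtain ⟨k, hk, rfl⟩ : v ∈ ν.ker.map (ZC D N X).subtype := Br_le (fun u hu d hd => by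
    obtain ⟨k, h4, -, h5⟩ := h.exists_ZC hu
    refine ⟨(⟨k, h4⟩ : ZC D N X)⁻¹ * f ⟨d, d.2, hd⟩ ⟨k, h4⟩, ?_, (h5 d).symm⟩
    show ν _ = 1
    rw [map_mul, h3, map_inv, inv_mul_cancel]) h1
  have h4 : k ^ X.relIndex B = 1 := by
    have h5 : ν k = 1 := hk
    rw [hν, Finset.prod_congr rfl (g := fun _ => k) fun c _ => Subtype.ext (smul_eq_of_CC h2 _), Finset.prod_const,
      Finset.card_univ, ← Nat.card_eq_fintype_card] at h5
    exact h5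
  have h5 := (h.mx.mono (L' := B) (le_inf h.mx.le Subgroup.le_normalizer) inf_le_left).not_dvd
  obtain ⟨n, hn⟩ := h.isP (k : N)
  have h6 : (k : N) ^ X.relIndex B = 1 := congrArg Subtype.val h4
  have h7 := Nat.dvd_gcd (orderOf_dvd_of_pow_eq_one hn) (orderOf_dvd_of_pow_eq_one h6)
  rw [Nat.Coprime.pow_left n ((Nat.Prime.coprime_iff_not_dvd hp.1).2 h5), Nat.dvd_one, orderOf_eq_one_iff] at h7
  exact h7

theorem exists_three (h3 : nS D X ≠ 3) :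
    ∃ z ∈ CC D N X, ∃ z' ∈ CC D N X, z ∉ CC D N D ∧ z' ∉ CC D N D ∧ z⁻¹ * z' ∉ CC D N D := by
  obtain ⟨n, hn⟩ := h.exists_pow
  obtain ⟨z, hz, hz'⟩ := h.act
  by_contra h1
  push Not at h1
  have h2 := (h.card_top hn).1
  have h4 := card_le_mul (B := CC D N X) (B' := CC D N D) (fun v => v ∈ CC D N D) Set.univ (Set.toFinite _)
    (fun _ _ => trivial) (fun g hg g' hg' h5 => by
      by_cases h6 : g ∈ CC D N D
      · exact mul_mem (inv_mem h6) (h5 ▸ h6)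
      · exact h1 g hg g' hg' h6 (h5 ▸ h6))
  rw [Set.ncard_univ, h2, Nat.card_eq_fintype_card (α := Prop), Fintype.card_prop] at h4
  have h5 := Nat.le_of_mul_le_mul_right h4 Nat.card_pos
  have h6 : p ^ n ≠ 1 := fun h7 => by
    rw [h7, one_mul] at h2
    exact hz' (Subgroup.eq_of_le_of_card_ge (CC_D_le X) h2.le ▸ hz)
  have h7 := pow_pos hp.1.pos n
  omega

/-- `q > 2`: `C(X) = [C(X), B] N0` -/
theorem exists_Br (h3 : nS D X ≠ 3) {z : N} (hz : z ∈ CC D N X) :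
    ∃ u ∈ Br D N X (Subgroup.normalizer (X : Set G)), u⁻¹ * z ∈ CC D N D := by
  by_cases h1 : z ∈ CC D N D
  · exact ⟨1, one_mem _, by rwa [inv_one, one_mul]⟩
  obtain ⟨a, ha, b, hb, h2, h4, h5⟩ := h.exists_three h3
  obtain ⟨d, hd, h6⟩ := h.trans ha h2 hb h4
  have h7 : a⁻¹ * d • a ∉ CC D N D := fun h8 => h5 (by
    have h9 := mul_mem h8 (inv_mem h6)
    rwa [show a⁻¹ * d • a * (b⁻¹ * d • a)⁻¹ = a⁻¹ * b by group] at h9)
  have h8 := mem_Br (B := Subgroup.normalizer (X : Set G)) ha (nm_iff.2 hd)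
  obtain ⟨e, he, h9⟩ := h.trans (h.Br_le_ZC h8).1 h7 hz h1
  refine ⟨_, smul_mem_Br (nm_iff.2 he) h8, ?_⟩
  have h10 := inv_mem h9
  rwa [mul_inv_rev, inv_inv] at h10

theorem mem_of_two (h3 : nS D X = 3) {z z' : N} (hz : z ∈ CC D N X) (hz' : z' ∈ CC D N X) (h1 : z ∉ CC D N D)
    (h2 : z' ∉ CC D N D) : z⁻¹ * z' ∈ CC D N D := by
  obtain ⟨n, hn⟩ := h.exists_pow
  have h4 := card_mul_relIndex (CC_D_le X : CC D N D ≤ _)
  rw [(h.card_top hn).1, show p ^ n = 2 by omega, mul_comm] at h4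
  have h5 : ((CC D N D).subgroupOf (CC D N X)).index = 2 := Nat.eq_of_mul_eq_mul_right Nat.card_pos h4
  exact (Subgroup.mul_mem_iff_of_index_two h5 (a := (⟨z, hz⟩ : CC D N X)⁻¹) (b := ⟨z', hz'⟩)).2
    (iff_of_false (fun h6 => h1 (inv_mem_iff.1 h6)) h2)

/-- `q = 2`: `N_D(X)` centralises `C(X)` -/
theorem smul_eq_of_two (h3 : nS D X = 3) {d : D} (hd : cj (d : G) X = X) {z : N} (hz : z ∈ CC D N X) : d • z = z := by
  by_cases h1 : z ∈ CC D N D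
  · exact smul_eq_of_CC h1 d
  have h2 := h.eq_one_of_Br (mem_Br hz (nm_iff.2 hd))
    (h.mem_of_two h3 hz (smul_mem_CC_nm hd hz) h1 fun h4 => h1 ((smul_mem_CC_D d).1 h4))
  rw [← mul_inv_cancel_left z (d • z), h2, mul_one]

/-- `q = 2`: `[C(X), D]` is a four group -/
theorem exists_omega (h3 : nS D X = 3) : ∃ ω ∈ Br D N X D, ω ∈ CC D N X ∧ ω ∉ CC D N D ∧
    ∀ f ∈ Br D N X D, f ∈ CC D N X → f = 1 ∨ f = ω := by
  obtain ⟨a₀, ha₀, ha₀'⟩ := h.act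
  obtain ⟨a, ha, h1, -⟩ := h.exists_ZC ha₀
  have ha' : a ∉ CC D N D := fun h2 => ha₀' ((mul_mem_cancel_left (inv_mem h2)).1 h1)
  have hX := self_mem_Cjs D X
  -- the three Sylow subgroups
  obtain ⟨P, R, hPR, hC⟩ : ∃ P R, P ≠ R ∧ Cjs D X \ {X} = {P, R} := by
    rw [← Set.ncard_eq_two, Set.ncard_sdiff_singleton_of_mem hX]
    exact congrArg (· - 1) h3
  have hP : P ∈ Cjs D X \ {X} := hC ▸ Or.inl rfl
  have hR : R ∈ Cjs D X \ {X} := hC ▸ Or.inr rfl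
  have hall : ∀ Y ∈ Cjs D X, Y = X ∨ Y = P ∨ Y = R := fun Y hY => by
    by_cases h2 : Y = X
    · exact Or.inl h2
    · exact Or.inr (show Y ∈ ({P, R} : Set _) from hC ▸ ⟨hY, h2⟩)
  have horb : ∀ d e : D, cj (d : G) X = cj (e : G) X → d • a = e • a := fun d e h2 => by
    have h4 := h.smul_eq_of_two h3 (d := e⁻¹ * d) (by
      rw [Subgroup.coe_mul, Subgroup.coe_inv, cj_mul, h2, cj_inv_cj]) ha.1
    rwa [mul_smul, inv_smul_eq_iff] at h4
  obtain ⟨⟨d, hd, rfl⟩, hPX⟩ := hP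
  obtain ⟨⟨e, he, rfl⟩, hRX⟩ := hR
  let d' : D := ⟨d, hd⟩
  let e' : D := ⟨e, he⟩
  obtain ⟨b, hb⟩ : ∃ b, b = d' • a := ⟨_, rfl⟩
  obtain ⟨c, hc⟩ : ∃ c, c = e' • a := ⟨_, rfl⟩
  have hbP : b ∈ ZC D N (cj d X) := hb ▸ smul_mem_ZC (e := d') ha
  have hcR : c ∈ ZC D N (cj e X) := hc ▸ smul_mem_ZC (e := e') ha
  have hb' : b ∉ CC D N D := fun h2 => ha' ((smul_mem_CC_D d').1 (hb ▸ h2))
  have hc' : c ∉ CC D N D := fun h2 => ha' ((smul_mem_CC_D e').1 (hc ▸ h2))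
  have hP : cj d X ∈ Cjs D X := ⟨d, hd, rfl⟩
  have hR : cj e X ∈ Cjs D X := ⟨e, he, rfl⟩
  have h3' : ∀ {Y}, Y ∈ Cjs D X → nS D Y = 3 := fun hY => by rw [nS, Cjs_eq_of_mem hY]; exact h3
  have habc : ∀ g : D, g • a = a ∨ g • a = b ∨ g • a = c := fun g => by
    rcases hall (cj g X) ⟨g, g.2, rfl⟩ with h2 | h2 | h2
    · exact Or.inl (h.smul_eq_of_two h3 h2 ha.1)
    · exact Or.inr (Or.inl (hb ▸ horb g d' h2))
    · exact Or.inr (Or.inr (hc ▸ horb g e' h2))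
  have hbX : b ∉ CC D N X := fun h2 => hPX (h.eq_of_mem hP hX hbP.1 h2 hb')
  have hcX : c ∉ CC D N X := fun h2 => hRX (h.eq_of_mem hR hX hcR.1 h2 hc')
  have hcP : c ∉ CC D N (cj d X) := fun h2 => hPR (h.eq_of_mem hP hR h2 hcR.1 hc')
  have haP : a ∉ CC D N (cj d X) := fun h2 => hPX (h.eq_of_mem hP hX h2 ha.1 ha')
  -- `a b c` is fixed
  have hn : a * b * c ∈ CC D N D := by
    obtain ⟨Y, hY, h2⟩ := h.cov (a * b)
    rcases hall Y hY with rfl | rfl | rfl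
    · exact absurd ((mul_mem_cancel_left ha.1).1 h2) hbX
    · exact absurd ((mul_mem_cancel_right hbP.1).1 h2) haP
    · have h4 := (h.of_mem hR).mem_of_two (h3' hR) (inv_mem h2) hcR.1
        (fun h5 => hbX ((mul_mem_cancel_left ha.1).1 (CC_D_le X (inv_mem_iff.1 h5)))) hc'
      rwa [inv_inv] at h4
  have hsq : ∀ g : D, g • a * g • a = a * a := fun g => by
    have h2 := h.mem_of_two h3 (inv_mem ha.1) ha.1 (fun h4 => ha' (inv_mem_iff.1 h4)) ha'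
    rw [inv_inv] at h2
    rw [← smul_mul', smul_eq_of_CC h2]
  -- an element of `X` which swaps `b` and `c`
  obtain ⟨x, hx, hxP⟩ := h.spl _ hP hPX _ hR hRX
  let x' : D := ⟨x, h.mx.le hx⟩
  have hxa : x' • a = a := ha.1 x' hx
  have hxb : x' • b = c := by
    rw [hb, hc, ← mul_smul]
    exact horb _ _ (by rw [Subgroup.coe_mul, cj_mul]; exact hxP)
  have hxc : x' • c = b := by
    rcases habc (x' * e') with h2 | h2 | h2 <;> rw [mul_smul, ← hc] at h2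
    · exact absurd ((MulAction.injective x' (h2.trans hxa.symm)) ▸ ha.1) hcX
    · exact h2
    · exact absurd ((MulAction.injective x' (h2.trans hxb.symm)) ▸ hbP.1) hcP
  have hbc : b * c = c * b := by
    have h2 := smul_eq_of_CC hn x'
    rw [smul_mul', smul_mul', hxa, hxb, hxc, mul_assoc, mul_assoc] at h2
    exact (mul_left_cancel h2).symm
  have hab : a * b = b * a := by
    have h2 := hbP.2 _ (CC_D_le _ hn)
    rw [mul_assoc, mul_assoc, ← hbc, ← mul_assoc, ← mul_assoc, ← mul_assoc, ← mul_assoc] at h2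
    exact mul_right_cancel (mul_right_cancel h2)
  have hac : a * c = c * a := by
    have h2 := congrArg (x' • ·) hab
    simpa only [smul_mul', hxa, hxb] using h2
  have hbb : b * b = a * a := hb ▸ hsq d'
  have hcc : c * c = a * a := hc ▸ hsq e'
  have k1 : ∀ {u v : N}, u * v = v * u → u * u = v * v → u⁻¹ * v = v⁻¹ * u := fun {u v} h4 h5 => by
    calc u⁻¹ * v = u⁻¹ * (v * v) * v⁻¹ := by group
      _ = u * v⁻¹ := by rw [← h5]; group
      _ = v⁻¹ * (v * u) * v⁻¹ := by group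
      _ = _ := by rw [← h4]; group
  have e1 := k1 hab hbb.symm
  have e2 := k1 hac hcc.symm
  have e3 := k1 hbc (hbb.trans hcc.symm)
  let F : Subgroup N :=
    { carrier := {f | ∃ u v, (u = a ∨ u = b ∨ u = c) ∧ (v = a ∨ v = b ∨ v = c) ∧ f = u⁻¹ * v}
      one_mem' := ⟨a, a, Or.inl rfl, Or.inl rfl, (inv_mul_cancel a).symm⟩
      inv_mem' := by
        rintro _ ⟨u, v, hu, hv, rfl⟩
        exact ⟨v, u, hv, hu, by group⟩
      mul_mem' := by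
        have k2 : ∀ u v, (u = a ∨ u = b ∨ u = c) → (v = a ∨ v = b ∨ v = c) → u⁻¹ * v = v⁻¹ * u := by
          rintro u v (rfl | rfl | rfl) (rfl | rfl | rfl)
          exacts [rfl, e1, e2, e1.symm, rfl, e3, e2.symm, e3.symm, rfl]
        rintro _ _ ⟨u, v, hu, hv, rfl⟩ ⟨u', v', hu', hv', rfl⟩
        by_cases c1 : v = u'
        · exact ⟨u, v', hu, hv', by rw [c1]; group⟩
        by_cases c2 : v = v'
        · exact ⟨u, u', hu, hu', by rw [k2 u' v' hu' hv', c2]; group⟩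
        by_cases c3 : u = u'
        · exact ⟨v, v', hv, hv', by rw [k2 u v hu hv, c3]; group⟩
        by_cases c4 : u = v'
        · exact ⟨v, u', hv, hu', by rw [k2 u v hu hv, k2 u' v' hu' hv', c4]; group⟩
        by_cases c5 : u = v
        · exact ⟨u', v', hu', hv', by rw [c5]; group⟩
        by_cases c6 : u' = v'
        · exact ⟨u, v, hu, hv, by rw [c6]; group⟩
        exfalso
        rcases hu with rfl | rfl | rfl <;> rcases hv with rfl | rfl | rfl <;> rcases hu' with rfl | rfl | rfl <;>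
          rcases hv' with rfl | rfl | rfl <;> simp at c1 c2 c3 c4 c5 c6 }
  have hF : Br D N X D ≤ F := Br_le fun u hu g _ => by
    by_cases h2 : u ∈ CC D N D
    · rw [smul_eq_of_CC h2, inv_mul_cancel]; exact one_mem _
    have h4 := h.mem_of_two h3 ha.1 hu ha' h2
    have h5 := (smul_mem_ZC (e := g) ha).2 _ (CC_D_le _ h4)
    have h6 := ha.2 _ (CC_D_le _ h4)
    have h7 := smul_eq_of_CC h4 g
    generalize hn : a⁻¹ * u = n at h4 h5 h6 h7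
    obtain rfl : u = a * n := by rw [← hn, mul_inv_cancel_left]
    refine ⟨a, g • a, Or.inl rfl, habc g, ?_⟩
    rw [smul_mul', h7, ← h5, ← h6]
    group
  have hω : b⁻¹ * c ∈ Br D N X D := by
    have h2 := mul_mem (inv_mem (mem_Br (B := D) (d := d') ha.1 hd)) (mem_Br (B := D) (d := e') ha.1 he)
    rwa [← hb, ← hc, show (a⁻¹ * b)⁻¹ * (a⁻¹ * c) = b⁻¹ * c by group] at h2
  have hω' : b⁻¹ * c ∉ CC D N D := fun h2 => hcP ((mul_mem_cancel_left (inv_mem hbP.1)).1 (CC_D_le _ h2))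
  refine ⟨b⁻¹ * c, hω, ?_, hω', fun f hf hfX => ?_⟩
  · obtain ⟨Y, hY, h2⟩ := h.cov (b⁻¹ * c)
    rcases hall Y hY with rfl | rfl | rfl
    · exact h2
    · exact absurd ((mul_mem_cancel_left (inv_mem hbP.1)).1 h2) hcP
    · exact absurd (h.eq_of_mem hP hR hbP.1 (inv_mem_iff.1 ((mul_mem_cancel_right hcR.1).1 h2)) hb') hPR
  · obtain ⟨u, v, hu, hv, rfl⟩ := hF hf
    rcases hu with rfl | rfl | rfl <;> rcases hv with rfl | rfl | rfl
    · exact Or.inl (inv_mul_cancel _)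
    · exact absurd ((mul_mem_cancel_left (inv_mem ha.1)).1 hfX) hbX
    · exact absurd ((mul_mem_cancel_left (inv_mem ha.1)).1 hfX) hcX
    · exact absurd (inv_mem_iff.1 ((mul_mem_cancel_right ha.1).1 hfX)) hbX
    · exact Or.inl (inv_mul_cancel _)
    · exact Or.inr rfl
    · exact absurd (inv_mem_iff.1 ((mul_mem_cancel_right ha.1).1 hfX)) hcX
    · exact Or.inr e3.symm
    · exact Or.inl (inv_mul_cancel _)

end Sp

end Cfsg.Agent.TH.Own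
end

-- part: TH/Own/Mod
section
/-!
# S3541, `BoxOwn`: modules (helper74)

* `Cm Q V K` : the elements of `Q` centralised by `K` modulo `V`;
* `Md p a D X V Q` : `Q / V` is regular on `Q a`, normalised by `D ≤ G_a`, every point of `Q a` is fixed by a conjugate
  of `X` under `D`;
* `Ac p a D X V Q` : moreover `D` is split of rank one and acts non-trivially (SPREAD, the affine lemma).
-/

set_option autoImplicit false
set_option linter.unusedSectionVars false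
set_option linter.unusedVariables false

namespace Cfsg.Agent.TH.Own

open MulAction

variable {G : Type*} [Group G] {p : ℕ} {Ω : Type*} [MulAction G Ω]

/-- the elements of `Q` centralised by `K` modulo `V` -/
def Cm (Q V K : Subgroup G) : Subgroup G where
  carrier := {w | w ∈ Q ∧ cj w V = V ∧ ∀ k ∈ K, w⁻¹ * (k * w * k⁻¹) ∈ V}
  one_mem' := ⟨one_mem _, cj_one V, fun k _ => by simp⟩
  mul_mem' {a b} ha hb := ⟨mul_mem ha.1 hb.1, nm_mul ha.2.1 hb.2.1, fun k hk => by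
    have h1 := mul_mem (nm_conj' hb.2.1 (ha.2.2 k hk)) (hb.2.2 k hk)
    convert h1 using 1
    group⟩
  inv_mem' {a} ha := ⟨inv_mem ha.1, nm_inv ha.2.1, fun k hk => by
    have h1 := nm_conj ha.2.1 (inv_mem (ha.2.2 k hk))
    convert h1 using 1
    group⟩

section Cm

variable {Q V K L : Subgroup G}

theorem mem_Cm {w : G} : w ∈ Cm Q V K ↔ w ∈ Q ∧ cj w V = V ∧ ∀ k ∈ K, w⁻¹ * (k * w * k⁻¹) ∈ V := Iff.rfl

theorem Cm_le : Cm Q V K ≤ Q := fun _ h => h.1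

theorem Cm_anti (h : K ≤ L) : Cm Q V L ≤ Cm Q V K := fun _ hw => ⟨hw.1, hw.2.1, fun k hk => hw.2.2 k (h hk)⟩

theorem Cm_mono {Q' : Subgroup G} (h : Q ≤ Q') : Cm Q V K ≤ Cm Q' V K := fun _ hw => ⟨h hw.1, hw.2⟩

theorem Cm_Cm (h : L ≤ K) : Cm (Cm Q V L) V K = Cm Q V K :=
  le_antisymm (Cm_mono Cm_le) fun _ hw => ⟨Cm_anti h hw, hw.2⟩

theorem le_Cm (h1 : V ≤ Q) (h2 : ∀ k ∈ K, cj k V = V) : V ≤ Cm Q V K := fun _ hv =>
  ⟨h1 hv, cj_of_mem hv, fun k hk => mul_mem (inv_mem hv) (nm_conj (h2 k hk) hv)⟩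

theorem conj_mem_Cm {w : G} (hw : w ∈ Cm Q V K) (g : G) : g * w * g⁻¹ ∈ Cm (cj g Q) (cj g V) (cj g K) :=
  ⟨conj_mem_cj g hw.1, nm_cj hw.2.1, by
    rintro _ ⟨k, hk, rfl⟩
    have h1 := conj_mem_cj g (hw.2.2 k hk)
    convert h1 using 1
    show _ * (g * k * g⁻¹ * _ * (g * k * g⁻¹)⁻¹) = _
    group⟩

theorem cj_Cm (g : G) : cj g (Cm Q V K) = Cm (cj g Q) (cj g V) (cj g K) := by
  refine le_antisymm (by rintro _ ⟨w, hw, rfl⟩; exact conj_mem_Cm hw g) fun w hw => mem_cj.2 ?_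
  have h1 := conj_mem_Cm hw g⁻¹
  rwa [cj_inv_cj, cj_inv_cj, cj_inv_cj, inv_inv] at h1

theorem nm_Cm {g : G} (h1 : cj g Q = Q) (h2 : cj g V = V) (h3 : cj g K = K) : cj g (Cm Q V K) = Cm Q V K := by
  rw [cj_Cm, h1, h2, h3]

/-- `Cm Q V K` normalises `K V` -/
theorem nm_sup_of_Cm {w : G} (hw : w ∈ Cm Q V K) : cj w (K ⊔ V) = K ⊔ V := by
  have key : ∀ {w : G}, w ∈ Cm Q V K → cj w⁻¹ (K ⊔ V) ≤ K ⊔ V := fun {w} hw => by
    rw [cj_sup, nm_inv hw.2.1]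
    refine sup_le ?_ le_sup_right
    rintro _ ⟨k, hk, rfl⟩
    have h1 := mul_mem (Subgroup.mem_sup_right (S := K) (hw.2.2 k hk)) (Subgroup.mem_sup_left hk)
    convert h1 using 1
    show w⁻¹ * k * w⁻¹⁻¹ = _
    group
  refine le_antisymm (inv_inv w ▸ key (inv_mem hw)) ?_
  have h1 := cj_mono w (key hw)
  rwa [cj_cj_inv] at h1

theorem nm_of_Cm {w : G} (hw : w ∈ Cm Q V K) (h : V ≤ K) : cj w K = K := by
  have h1 := nm_sup_of_Cm hw
  rwa [sup_of_le_left h] at h1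

/-- `Cm` by points -/
theorem mem_Cm_iff {b : Ω} (hb : Q ⊓ stabilizer G b = V) (nm : ∀ w ∈ Q, cj w V = V) (h1 : K ≤ stabilizer G b)
    (h2 : ∀ k ∈ K, cj k Q = Q) {w : G} : w ∈ Cm Q V K ↔ w ∈ Q ∧ K ≤ stabilizer G (w • b) := by
  refine and_congr_right fun hw => ⟨fun h k hk => ?_, fun h => ⟨nm w hw, fun k hk => ?_⟩⟩
  · have h3 : (w⁻¹ * (k * w * k⁻¹)) • b = b := (hb.ge (h.2 k hk)).2
    rwa [mul_smul, mul_smul, mul_smul, show k⁻¹ • b = b from h1 (inv_mem hk), inv_smul_eq_iff] at h3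
  · refine hb.le (Subgroup.mem_inf.2 ⟨mul_mem (inv_mem hw) (nm_conj (h2 k hk) hw), ?_⟩)
    show (w⁻¹ * (k * w * k⁻¹)) • b = b
    rw [mul_smul, mul_smul, mul_smul, show k⁻¹ • b = b from h1 (inv_mem hk), inv_smul_eq_iff]
    exact h hk

theorem reg_smul {b : Ω} (hb : Q ⊓ stabilizer G b = V) (nm : ∀ w ∈ Q, cj w V = V) {w : G} (hw : w ∈ Q) :
    Q ⊓ stabilizer G (w • b) = V := by
  rw [← cj_stab, ← nm w hw, ← hb, cj_inf, cj_of_mem hw]

theorem reg_mono {b : Ω} (hb : Q ⊓ stabilizer G b = V) {M : Subgroup G} (h1 : V ≤ M) (h2 : M ≤ Q) :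
    M ⊓ stabilizer G b = V :=
  le_antisymm ((inf_le_inf_right _ h2).trans hb.le) (le_inf h1 (hb.ge.trans inf_le_right))

theorem ncard_Orb_reg {b : Ω} (hb : Q ⊓ stabilizer G b = V) {M : Subgroup G} (h1 : V ≤ M) (h2 : M ≤ Q) :
    (Orb M b).ncard * Nat.card V = Nat.card M := by
  rw [← reg_mono hb h1 h2, ncard_Orb_mul]

/-- the fixed points of `K` in `Q b` -/
theorem Orb_inter_Fx {b : Ω} (hb : Q ⊓ stabilizer G b = V) (nm : ∀ w ∈ Q, cj w V = V) (h1 : K ≤ stabilizer G b)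
    (h2 : ∀ k ∈ K, cj k Q = Q) : Orb Q b ∩ Fx K = Orb (Cm Q V K) b := by
  ext c
  constructor
  · rintro ⟨⟨w, hw, rfl⟩, h3⟩
    exact ⟨w, (mem_Cm_iff hb nm h1 h2).2 ⟨hw, h3⟩, rfl⟩
  · rintro ⟨w, hw, rfl⟩
    exact ⟨⟨w, hw.1, rfl⟩, ((mem_Cm_iff hb nm h1 h2).1 hw).2⟩

theorem smul_mem_Orb_nm {b c : Ω} {g : G} (h1 : cj g Q = Q) (h2 : g • b ∈ Orb Q b) (hc : c ∈ Orb Q b) :
    g • c ∈ Orb Q b := by
  obtain ⟨w, hw, rfl⟩ := hc
  have h3 := smul_mem_Orb (nm_conj h1 hw) h2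
  rwa [← mul_smul, inv_mul_cancel_right, mul_smul] at h3

/-- the commutators `[Cm X, B]` -/
def BrG (Q V X B : Subgroup G) : Subgroup G :=
  Subgroup.closure {v | ∃ u ∈ Cm Q V X, ∃ d ∈ B, v = u⁻¹ * (d * u * d⁻¹)}

theorem mem_BrG {X B : Subgroup G} {u d : G} (hu : u ∈ Cm Q V X) (hd : d ∈ B) :
    u⁻¹ * (d * u * d⁻¹) ∈ BrG Q V X B := Subgroup.subset_closure ⟨u, hu, d, hd, rfl⟩

theorem BrG_le {X B M : Subgroup G} (h : ∀ u ∈ Cm Q V X, ∀ d ∈ B, u⁻¹ * (d * u * d⁻¹) ∈ M) : BrG Q V X B ≤ M :=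
  (Subgroup.closure_le M).2 (by rintro _ ⟨u, hu, d, hd, rfl⟩; exact h u hu d hd)

theorem conj_mem_BrG {X B : Subgroup G} {e v : G} (he : e ∈ B) (hv : v ∈ BrG Q V X B) : e * v * e⁻¹ ∈ BrG Q V X B :=
  mem_cj.1 (BrG_le (M := cj e⁻¹ (BrG Q V X B)) (fun u hu d hd => mem_cj.2 (by
    have h1 := mul_mem (inv_mem (mem_BrG hu he)) (mem_BrG hu (mul_mem he hd))
    convert h1 using 1
    group)) hv) |> fun h => by rwa [inv_inv] at h

end Cm

variable (p) in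
/-- a module at the point `a` -/
structure Md (a : Ω) (D X V Q : Subgroup G) : Prop where
  isP : IsPGroup p Q
  reg : Q ⊓ stabilizer G a = V
  nm : ∀ w ∈ Q, cj w V = V
  fix : D ≤ stabilizer G a
  nQ : ∀ g ∈ D, cj g Q = Q
  cov : ∀ w ∈ Q, ∃ P ∈ Cjs D X, P ≤ stabilizer G (w • a)

namespace Md

variable {a : Ω} {D X V Q : Subgroup G} (h : Md p a D X V Q)

include h

theorem V_le : V ≤ Q := h.reg.ge.trans inf_le_left

theorem V_fix : V ≤ stabilizer G a := h.reg.ge.trans inf_le_right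

theorem nV {g : G} (hg : g ∈ D) : cj g V = V := h.reg ▸ nm_inf (h.nQ g hg) (nm_stab (h.fix hg))

theorem mem_Cm {K : Subgroup G} (hK : K ≤ D) {w : G} : w ∈ Cm Q V K ↔ w ∈ Q ∧ K ≤ stabilizer G (w • a) :=
  mem_Cm_iff h.reg h.nm (hK.trans h.fix) fun k hk => h.nQ k (hK hk)

theorem V_le_Cm {K : Subgroup G} (hK : K ≤ D) : V ≤ Cm Q V K := le_Cm h.V_le fun _ hk => h.nV (hK hk)

theorem conj_mem {K : Subgroup G} {w e : G} (hw : w ∈ Cm Q V K) (he : e ∈ D) : e * w * e⁻¹ ∈ Cm Q V (cj e K) := by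
  have h1 := conj_mem_Cm hw e
  rwa [h.nQ e he, h.nV he] at h1

theorem cov' (hX : X ≤ D) {w : G} (hw : w ∈ Q) : ∃ P ∈ Cjs D X, w ∈ Cm Q V P := by
  obtain ⟨P, hP, h1⟩ := h.cov w hw
  exact ⟨P, hP, (h.mem_Cm (le_of_mem_Cjs hX hP)).2 ⟨hw, h1⟩⟩

theorem of_mem {P : Subgroup G} (hP : P ∈ Cjs D X) : Md p a D P V Q :=
  ⟨h.isP, h.reg, h.nm, h.fix, h.nQ, by rw [Cjs_eq_of_mem hP]; exact h.cov⟩

theorem conj (g : G) : Md p (g • a) (cj g D) (cj g X) (cj g V) (cj g Q) where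
  isP := isPGroup_cj h.isP g
  reg := by rw [← cj_stab, ← cj_inf, h.reg]
  nm w hw := nm_cj_iff.2 (h.nm _ (mem_cj.1 hw))
  fix := cj_le_stab.2 h.fix
  nQ x hx := nm_cj_iff.2 (h.nQ _ (mem_cj.1 hx))
  cov w hw := by
    obtain ⟨P, hP, h1⟩ := h.cov _ (mem_cj.1 hw)
    refine ⟨cj g P, cj_mem_Cjs_cj.2 hP, ?_⟩
    rw [← cj_le_stab (g := g), ← mul_smul, ← mul_assoc, mul_inv_cancel_left, mul_smul] at h1
    exact h1

/-- invariant submodules -/
theorem sub {M : Subgroup G} (h1 : V ≤ M) (h2 : M ≤ Q) (h3 : ∀ g ∈ D, cj g M = M) : Md p a D X V M :=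
  ⟨h.isP.to_le h2, reg_mono h.reg h1 h2, fun w hw => h.nm w (h2 hw), h.fix, h3, fun w hw => h.cov w (h2 hw)⟩

/-- a non-trivial element centralised by `X` -/
theorem exists_Cm (hX : X ≤ D) (hne : ¬ Q ≤ V) : ∃ w ∈ Cm Q V X, w ∉ V := by
  obtain ⟨w, hw, h1⟩ := SetLike.not_le_iff_exists.1 hne
  obtain ⟨_, ⟨e, he, rfl⟩, h2⟩ := h.cov' hX hw
  have h3 := h.conj_mem h2 (inv_mem he)
  rw [cj_inv_cj] at h3
  refine ⟨_, h3, fun h4 => h1 ?_⟩
  have h5 := nm_conj (h.nV he) h4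
  rwa [show e * (e⁻¹ * w * e⁻¹⁻¹) * e⁻¹ = w by group] at h5

/-- passive modules -/
theorem eq_of_pas (hX : X ≤ D) (h1 : Cm Q V X ≤ Cm Q V D) : Cm Q V D = Q :=
  le_antisymm Cm_le fun w hw => by
    obtain ⟨_, ⟨e, he, rfl⟩, h2⟩ := h.cov' hX hw
    have h3 := h.conj_mem h2 (inv_mem he)
    rw [cj_inv_cj] at h3
    have h4 := h.conj_mem (h1 h3) he
    rwa [cj_of_mem he, show e * (e⁻¹ * w * e⁻¹⁻¹) * e⁻¹ = w by group] at h4

theorem normal : (V.subgroupOf Q).Normal := ⟨fun v hv g => show (g : G) * v * (g : G)⁻¹ ∈ V from nm_conj (h.nm g g.2) hv⟩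

/-- conjugation on `Q` -/
def cQ (e : D) : Q →* Q where
  toFun w := ⟨e * w * e⁻¹, nm_conj (h.nQ e e.2) w.2⟩
  map_one' := Subtype.ext (by simp)
  map_mul' x y := Subtype.ext (show (e : G) * (x * y) * (e : G)⁻¹ = e * x * (e : G)⁻¹ * (e * y * (e : G)⁻¹) by group)

/-- the action of `D` on `Q / V` -/
@[reducible] def qa [(V.subgroupOf Q).Normal] : MulDistribMulAction D (Q ⧸ V.subgroupOf Q) where
  smul e := QuotientGroup.map _ _ (h.cQ e) fun _ hv => nm_conj (h.nV e.2) hv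
  one_smul x := QuotientGroup.induction_on x fun w =>
    congrArg QuotientGroup.mk (Subtype.ext (show ((1 : D) : G) * w * ((1 : D) : G)⁻¹ = w by simp))
  mul_smul e f x := QuotientGroup.induction_on x fun w => congrArg QuotientGroup.mk (Subtype.ext
    (show ((e * f : D) : G) * w * ((e * f : D) : G)⁻¹ = e * (f * w * (f : G)⁻¹) * (e : G)⁻¹ by
      rw [Subgroup.coe_mul]; group))
  smul_mul e x y := map_mul (QuotientGroup.map _ _ (h.cQ e) fun _ hv => nm_conj (h.nV e.2) hv) x y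
  smul_one e := map_one (QuotientGroup.map _ _ (h.cQ e) fun _ hv => nm_conj (h.nV e.2) hv)

theorem mem_CC [(V.subgroupOf Q).Normal] {P : Subgroup G} (hP : P ≤ D) (w : Q) :
    (w : Q ⧸ V.subgroupOf Q) ∈ @CC G _ D _ _ h.qa P ↔ (w : G) ∈ Cm Q V P := by
  constructor
  · exact fun h1 => ⟨w.2, h.nm w w.2, fun k hk => (QuotientGroup.eq (a := w) (b := h.cQ ⟨k, hP hk⟩ w)).1 (h1 ⟨k, hP hk⟩ hk).symm⟩
  · exact fun h1 x hx => ((QuotientGroup.eq (a := w) (b := h.cQ x w)).2 (h1.2.2 x hx)).symm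

theorem index_CC [(V.subgroupOf Q).Normal] {P : Subgroup G} (hP : P ≤ D) :
    (Cm Q V P).relIndex Q = (@CC G _ D _ _ h.qa P).index := by
  rw [← Subgroup.index_comap_of_surjective _ (QuotientGroup.mk'_surjective (V.subgroupOf Q)), Subgroup.relIndex]
  congr 1
  ext w
  exact (h.mem_CC hP w).symm

theorem mem_Br [(V.subgroupOf Q).Normal] (hX : X ≤ D) {B : Subgroup G} (hB : B ≤ D) {w : Q}
    (hw : (w : G) ∈ BrG Q V X B) : (w : Q ⧸ V.subgroupOf Q) ∈ @Br G _ D _ _ h.qa X B := by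
  obtain ⟨w', h1, h2⟩ := BrG_le (M := ((@Br G _ D _ _ h.qa X B).comap (QuotientGroup.mk' _)).map Q.subtype)
    (fun u hu d hd => ⟨(⟨u, hu.1⟩ : Q)⁻¹ * h.cQ ⟨d, hB hd⟩ ⟨u, hu.1⟩,
      @Own.mem_Br G _ D X _ _ h.qa B _ ((h.mem_CC hX ⟨u, hu.1⟩).2 hu) ⟨d, hB hd⟩ hd, rfl⟩) hw
  rw [← Subtype.ext h2]
  exact h1

theorem exists_BrG [(V.subgroupOf Q).Normal] (hX : X ≤ D) {B : Subgroup G} {v : Q ⧸ V.subgroupOf Q}
    (hv : v ∈ @Br G _ D _ _ h.qa X B) : ∃ w : Q, (w : G) ∈ BrG Q V X (D ⊓ B) ∧ (w : Q ⧸ V.subgroupOf Q) = v :=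
  @Br_le G _ D X _ _ h.qa B (((BrG Q V X (D ⊓ B)).subgroupOf Q).map (QuotientGroup.mk' _)) (fun u hu d hd => by
    induction u using QuotientGroup.induction_on with
    | _ u => exact ⟨u⁻¹ * h.cQ d u, mem_BrG ((h.mem_CC hX u).1 hu) ⟨d.2, hd⟩, rfl⟩) v hv

end Md

variable (p) in
/-- an active module of a split group of rank one -/
structure Ac (a : Ω) (D X V Q : Subgroup G) : Prop extends Md p a D X V Q where
  mx : MaxP p D X
  spl : Spl D X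
  gen : ∀ K, (∀ P ∈ Cjs D X, P ≤ K) → D ≤ K
  act : ¬ Cm Q V X ≤ Cm Q V D

namespace Ac

variable [Finite G] [hp : Fact p.Prime] {a : Ω} {D X V Q : Subgroup G} (h : Ac p a D X V Q)

include h

theorem sp [(V.subgroupOf Q).Normal] : @Sp G _ p D X _ _ h.toMd.qa :=
  @Sp.mk G _ p D X _ _ h.toMd.qa h.mx h.spl h.gen (h.isP.to_quotient _)
    (fun w => by
      induction w using QuotientGroup.induction_on with
      | _ w =>
      obtain ⟨P, hP, h1⟩ := h.toMd.cov' h.mx.le w.2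
      exact ⟨P, hP, (h.toMd.mem_CC (le_of_mem_Cjs h.mx.le hP) w).2 h1⟩)
    (by
      obtain ⟨w, h1, h2⟩ := SetLike.not_le_iff_exists.1 h.act
      exact ⟨(⟨w, h1.1⟩ : Q), (h.toMd.mem_CC h.mx.le _).2 h1, fun h3 => h2 ((h.toMd.mem_CC le_rfl _).1 h3)⟩)

theorem two {P P' K : Subgroup G} (hP : P ∈ Cjs D X) (hP' : P' ∈ Cjs D X) (hne : P ≠ P') (h1 : P ≤ K) (h2 : P' ≤ K) :
    D ≤ K := h.spl.le_of_two h.gen hP hP' hne h1 h2

theorem of_mem {P : Subgroup G} (hP : P ∈ Cjs D X) : Ac p a D P V Q where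
  toMd := h.toMd.of_mem hP
  mx := h.mx.of_mem_Cjs hP
  spl := h.spl.of_mem hP
  gen := by rw [Cjs_eq_of_mem hP]; exact h.gen
  act h1 := by
    obtain ⟨e, he, rfl⟩ := hP
    refine h.act fun w hw => ?_
    have h2 := h.toMd.conj_mem (h1 (h.toMd.conj_mem hw he)) (inv_mem he)
    rwa [cj_of_mem (inv_mem he), show e⁻¹ * (e * w * e⁻¹) * e⁻¹⁻¹ = w by group] at h2

theorem conj (g : G) : Ac p (g • a) (cj g D) (cj g X) (cj g V) (cj g Q) where
  toMd := h.toMd.conj g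
  mx := h.mx.cj g
  spl := h.spl.cj g
  gen K h1 := (cj_le_iff g).2 (h.gen _ fun P hP => (cj_le_iff g).1 (h1 _ (cj_mem_Cjs_cj.2 hP)))
  act h1 := by
    rw [← cj_Cm, ← cj_Cm, cj_le_cj_iff] at h1
    exact h.act h1

theorem eq_of_mem {P P' : Subgroup G} (hP : P ∈ Cjs D X) (hP' : P' ∈ Cjs D X) {w : G} (h1 : w ∈ Cm Q V P)
    (h2 : w ∈ Cm Q V P') (h3 : w ∉ Cm Q V D) : P = P' := by
  by_contra hne
  exact h3 ((h.toMd.mem_Cm le_rfl).2 ⟨h1.1, h.two hP hP' hne ((h.toMd.mem_Cm (le_of_mem_Cjs h.mx.le hP)).1 h1).2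
    ((h.toMd.mem_Cm (le_of_mem_Cjs h.mx.le hP')).1 h2).2⟩)

theorem exists_pow : ∃ n, nS D X = p ^ n + 1 := by
  have := h.toMd.normal
  exact @Sp.exists_pow G _ p D X _ _ h.toMd.qa _ _ _ h.sp

/-- **SPREAD**, the orders -/
theorem card {q : ℕ} (hq : nS D X = q + 1) :
    Nat.card (Cm Q V X) = q * Nat.card (Cm Q V D) ∧ Nat.card Q = q * q * Nat.card (Cm Q V D) := by
  have := h.toMd.normal
  let _ := h.toMd.qa
  obtain ⟨n, hn⟩ := h.exists_pow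
  obtain rfl : q = p ^ n := by omega
  obtain ⟨h1, h2⟩ := h.sp.card_top hn
  have h3 := (CC D (Q ⧸ V.subgroupOf Q) X).card_mul_index
  have h4 := (CC D (Q ⧸ V.subgroupOf Q) D).card_mul_index
  rw [h2, ← h.toMd.index_CC le_rfl, mul_comm] at h4
  rw [h1, h2, ← h.toMd.index_CC h.mx.le, mul_assoc, mul_assoc, mul_comm (Nat.card _)] at h3
  have h0 := pow_pos hp.1.pos n
  have h5 := Nat.eq_of_mul_eq_mul_right Nat.card_pos h4
  have h6 := Nat.eq_of_mul_eq_mul_right Nat.card_pos (Nat.eq_of_mul_eq_mul_left h0 h3)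
  have h7 := card_mul_relIndex (Cm_le : Cm Q V D ≤ Q)
  have h8 := card_mul_relIndex (Cm_le : Cm Q V X ≤ Q)
  rw [h5] at h7
  rw [h6, ← h7] at h8
  exact ⟨Nat.eq_of_mul_eq_mul_right h0 (h8.trans (by ring)), by rw [← h7]; ring⟩

theorem two_le {q : ℕ} (hq : nS D X = q + 1) : 2 ≤ q := by
  obtain ⟨n, hn⟩ := h.exists_pow
  have h1 := (h.card hq).1
  have h2 := pow_pos hp.1.pos n
  by_contra h3
  obtain rfl : q = 1 := by omega
  rw [one_mul] at h1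
  exact h.act (Subgroup.eq_of_le_of_card_ge (Cm_anti h.mx.le) h1.le).ge

theorem comm_mem {u v : G} (hu : u ∈ Q) (hv : v ∈ Q) : u * v * u⁻¹ * v⁻¹ ∈ Cm Q V D := by
  have := h.toMd.normal
  let _ := h.toMd.qa
  exact (h.toMd.mem_CC le_rfl ((⟨u, hu⟩ : Q) * (⟨v, hv⟩ : Q) * (⟨u, hu⟩ : Q)⁻¹ * (⟨v, hv⟩ : Q)⁻¹)).1
    (h.sp.comm_mem ((⟨u, hu⟩ : Q) : Q ⧸ V.subgroupOf Q) (⟨v, hv⟩ : Q))

theorem nm_of_le {M : Subgroup G} (h0 : Cm Q V D ≤ M) (h1 : M ≤ Q) {w : G} (hw : w ∈ Q) : cj w M = M :=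
  Own.nm_of_conj fun x hx => by
    have h2 := mul_mem (h0 (h.comm_mem hw (h1 hx))) hx
    rwa [inv_mul_cancel_right] at h2

theorem exists_mul {P : Subgroup G} (hP : P ∈ Cjs D X) (hne : P ≠ X) {y : G} (hy : y ∈ Q) :
    ∃ z ∈ Cm Q V X, ∃ y' ∈ Cm Q V P, y = z * y' := by
  have := h.toMd.normal
  let _ := h.toMd.qa
  obtain ⟨z, hz, y', hy', h1⟩ := h.sp.exists_mul hP hne ((⟨y, hy⟩ : Q) : Q ⧸ V.subgroupOf Q)
  induction z using QuotientGroup.induction_on with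
  | _ z =>
  refine ⟨z, (h.toMd.mem_CC h.mx.le z).1 hz, _, (h.toMd.mem_CC (le_of_mem_Cjs h.mx.le hP) (z⁻¹ * ⟨y, hy⟩)).1 ?_,
    (mul_inv_cancel_left _ _).symm⟩
  rw [QuotientGroup.mk_mul, QuotientGroup.mk_inv, h1, inv_mul_cancel_left]
  exact hy'

/-- `N_D(X)` is transitive on the non-trivial cosets -/
theorem trans {z z' : G} (hz : z ∈ Cm Q V X) (h1 : z ∉ Cm Q V D) (hz' : z' ∈ Cm Q V X) (h2 : z' ∉ Cm Q V D) :
    ∃ d ∈ D, cj d X = X ∧ z'⁻¹ * (d * z * d⁻¹) ∈ Cm Q V D := by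
  have := h.toMd.normal
  let _ := h.toMd.qa
  obtain ⟨d, h3, h4⟩ := h.sp.trans ((h.toMd.mem_CC h.mx.le ⟨z, hz.1⟩).2 hz)
    (fun c => h1 ((h.toMd.mem_CC le_rfl ⟨z, hz.1⟩).1 c)) ((h.toMd.mem_CC h.mx.le ⟨z', hz'.1⟩).2 hz')
    (fun c => h2 ((h.toMd.mem_CC le_rfl ⟨z', hz'.1⟩).1 c))
  exact ⟨d, d.2, h3, (h.toMd.mem_CC le_rfl ((⟨z', hz'.1⟩ : Q)⁻¹ * h.toMd.cQ d ⟨z, hz.1⟩)).1 h4⟩

theorem BrG_le_Cm : BrG Q V X (D ⊓ Subgroup.normalizer (X : Set G)) ≤ Cm Q V X :=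
  BrG_le fun u hu d hd => mul_mem (inv_mem hu) (nm_iff.1 hd.2 ▸ h.toMd.conj_mem hu hd.1)

theorem mem_V_of_BrG {v : G} (h1 : v ∈ BrG Q V X (D ⊓ Subgroup.normalizer (X : Set G))) (h2 : v ∈ Cm Q V D) :
    v ∈ V := by
  have := h.toMd.normal
  let _ := h.toMd.qa
  have h3 := h.toMd.mem_Br h.mx.le inf_le_left (w := ⟨v, h2.1⟩) h1
  exact (QuotientGroup.eq_one_iff (⟨v, h2.1⟩ : Q)).1 (h.sp.eq_one_of_Br
    (Br_le (fun u hu d hd => Own.mem_Br hu (Subgroup.mem_inf.1 hd).2) h3) ((h.toMd.mem_CC le_rfl _).2 h2))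

theorem exists_three (h3 : nS D X ≠ 3) :
    ∃ z ∈ Cm Q V X, ∃ z' ∈ Cm Q V X, z ∉ Cm Q V D ∧ z' ∉ Cm Q V D ∧ z⁻¹ * z' ∉ Cm Q V D := by
  have := h.toMd.normal
  let _ := h.toMd.qa
  obtain ⟨z, hz, z', hz', h1, h2, h4⟩ := h.sp.exists_three h3
  induction z using QuotientGroup.induction_on with
  | _ z =>
  induction z' using QuotientGroup.induction_on with
  | _ z' =>
  exact ⟨z, (h.toMd.mem_CC h.mx.le z).1 hz, z', (h.toMd.mem_CC h.mx.le z').1 hz',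
    fun c => h1 ((h.toMd.mem_CC le_rfl z).2 c), fun c => h2 ((h.toMd.mem_CC le_rfl z').2 c),
    fun c => h4 ((h.toMd.mem_CC le_rfl (z⁻¹ * z')).2 c)⟩

theorem exists_BrG (h3 : nS D X ≠ 3) {z : G} (hz : z ∈ Cm Q V X) :
    ∃ u ∈ BrG Q V X (D ⊓ Subgroup.normalizer (X : Set G)), u⁻¹ * z ∈ Cm Q V D := by
  have := h.toMd.normal
  let _ := h.toMd.qa
  obtain ⟨u, h1, h2⟩ := h.sp.exists_Br h3 ((h.toMd.mem_CC h.mx.le ⟨z, hz.1⟩).2 hz)
  obtain ⟨w, h4, rfl⟩ := h.toMd.exists_BrG h.mx.le h1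
  exact ⟨w, h4, (h.toMd.mem_CC le_rfl (w⁻¹ * (⟨z, hz.1⟩ : Q))).1 h2⟩

theorem mem_of_two (h3 : nS D X = 3) {z z' : G} (hz : z ∈ Cm Q V X) (hz' : z' ∈ Cm Q V X) (h1 : z ∉ Cm Q V D)
    (h2 : z' ∉ Cm Q V D) : z⁻¹ * z' ∈ Cm Q V D := by
  have := h.toMd.normal
  let _ := h.toMd.qa
  exact (h.toMd.mem_CC le_rfl ((⟨z, hz.1⟩ : Q)⁻¹ * (⟨z', hz'.1⟩ : Q))).1 (h.sp.mem_of_two h3
    ((h.toMd.mem_CC h.mx.le ⟨z, hz.1⟩).2 hz) ((h.toMd.mem_CC h.mx.le ⟨z', hz'.1⟩).2 hz')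
    (fun c => h1 ((h.toMd.mem_CC le_rfl ⟨z, hz.1⟩).1 c)) (fun c => h2 ((h.toMd.mem_CC le_rfl ⟨z', hz'.1⟩).1 c)))

theorem BrG_le_Q : BrG Q V X D ≤ Q := BrG_le fun u hu d hd => mul_mem (inv_mem hu.1) (nm_conj (h.nQ d hd) hu.1)

theorem exists_omega (h3 : nS D X = 3) : ∃ ω ∈ BrG Q V X D, ω ∈ Cm Q V X ∧ ω ∉ Cm Q V D ∧
    ∀ f ∈ BrG Q V X D, f ∈ Cm Q V X → f ∈ V ∨ ω⁻¹ * f ∈ V := by
  have := h.toMd.normal
  let _ := h.toMd.qa
  obtain ⟨ω, h1, h2, h4, h5⟩ := h.sp.exists_omega h3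
  obtain ⟨w, h6, rfl⟩ := h.toMd.exists_BrG h.mx.le h1
  rw [inf_idem] at h6
  refine ⟨w, h6, (h.toMd.mem_CC h.mx.le w).1 h2, fun c => h4 ((h.toMd.mem_CC le_rfl w).2 c), fun f hf h7 => ?_⟩
  rcases h5 _ (h.toMd.mem_Br h.mx.le le_rfl (w := ⟨f, h7.1⟩) hf) ((h.toMd.mem_CC h.mx.le _).2 h7) with h8 | h8
  · exact Or.inl ((QuotientGroup.eq_one_iff (⟨f, h7.1⟩ : Q)).1 h8)
  · exact Or.inr ((QuotientGroup.eq (a := w) (b := ⟨f, h7.1⟩)).1 h8.symm)

/-- **the affine lemma** -/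
theorem aff {b : Ω} (hb : Q ⊓ stabilizer G b = V) (hX : X ≤ stabilizer G b)
    (cov : ∀ w ∈ Q, ∃ P ∈ Cjs D X, P ≤ stabilizer G (w • b)) : ∃ z ∈ Cm Q V X, D ≤ stabilizer G (z • b) := by
  by_contra hc
  push Not at hc
  have hXQ : ∀ k ∈ X, cj k Q = Q := fun k hk => h.nQ k (h.mx.le hk)
  obtain ⟨n, hn⟩ := h.exists_pow
  have hq := h.two_le hn
  let A : Set (Subgroup G) := {P ∈ Cjs D X | ∃ c ∈ Orb Q b, P ≤ stabilizer G c}
  have hZ := ncard_Orb_reg hb (h.toMd.V_le_Cm h.mx.le) Cm_le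
  have h1 : (Orb Q b).ncard = A.ncard * (Orb (Cm Q V X) b).ncard :=
    ncard_eq_mul (finite_Orb _ _) (Set.toFinite _) (fun P => Orb Q b ∩ Fx P)
      (by
        rintro _ ⟨w, hw, rfl⟩
        obtain ⟨P, hP, h2⟩ := cov w hw
        exact ⟨P, ⟨hP, _, ⟨w, hw, rfl⟩, h2⟩, ⟨w, hw, rfl⟩, h2⟩)
      (fun _ _ => Set.inter_subset_left)
      (by
        rintro P hP P' hP' _ ⟨⟨w, hw, rfl⟩, h2⟩ h3
        by_contra hne
        have h4 := h.two hP.1 hP'.1 hne h2 h3.2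
        exact hc w ((mem_Cm_iff hb h.nm hX hXQ).2 ⟨hw, h.mx.le.trans h4⟩) h4)
      (by
        rintro P ⟨hP, _, ⟨w, hw, rfl⟩, h2⟩
        have h3 := reg_smul hb h.nm hw
        have h4 := le_of_mem_Cjs h.mx.le hP
        rw [← Orb_eq (L := Q) ⟨w, hw, rfl⟩, Orb_inter_Fx h3 h.nm h2 fun k hk => h.nQ k (h4 hk)]
        have h5 := ncard_Orb_reg h3 (h.toMd.V_le_Cm h4) Cm_le
        rw [((h.of_mem hP).card (q := p ^ n) (by rw [nS, Cjs_eq_of_mem hP]; exact hn)).1, ← (h.card hn).1, ← hZ] at h5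
        exact Nat.eq_of_mul_eq_mul_right Nat.card_pos h5)
  have h2 := ncard_Orb_reg hb h.toMd.V_le le_rfl
  rw [h1, mul_assoc, hZ, (h.card hn).1, (h.card hn).2, ← mul_assoc] at h2
  have h3 : A.ncard = p ^ n :=
    Nat.eq_of_mul_eq_mul_right (by omega) (Nat.eq_of_mul_eq_mul_right Nat.card_pos h2)
  have hXA : X ∈ A := ⟨self_mem_Cjs D X, b, self_mem_Orb _ _, hX⟩
  obtain ⟨P, hP, hne⟩ := Set.exists_ne_of_one_lt_ncard (s := A) (by omega) X
  have h4 : A = Cjs D X := Set.Subset.antisymm (fun _ h => h.1) fun R hR => by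
    by_cases h5 : R = X
    · rwa [h5]
    obtain ⟨x, hx, rfl⟩ := h.spl P hP.1 hne R hR h5
    obtain ⟨c, hc1, hc2⟩ := hP.2
    exact ⟨hR, x • c, smul_mem_Orb_nm (hXQ x hx) ((show x • b = b from hX hx).symm ▸ self_mem_Orb _ _) hc1,
      cj_le_stab.2 hc2⟩
  rw [h4] at h3
  have h5 : nS D X = p ^ n := h3
  omega

end Ac

end Cfsg.Agent.TH.Own
end

-- part: TH/Own/ModPS
section
/-!
# S3541, `BoxOwn`: modules of the groups `D J`, existence (helper74)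
-/

set_option autoImplicit false
set_option linter.unusedSectionVars false
set_option linter.unusedVariables false

namespace Cfsg.Agent.TH.Own

open MulAction

variable {G : Type*} [Group G] {p : ℕ} {Ω : Type*} [MulAction G Ω] {I : Type*}

variable (Ω) in
/-- `Q / V` is semiregular on the fixed points of `V` -/
def Semi (V Q : Subgroup G) : Prop := ∀ b : Ω, V ≤ stabilizer G b → Q ⊓ stabilizer G b = V

theorem Semi.mono {V Q M : Subgroup G} (h : Semi Ω V Q) (h1 : V ≤ M) (h2 : M ≤ Q) : Semi Ω V M :=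
  fun b hb => reg_mono (h b hb) h1 h2

/-- the node `j` is active in the module `Q / V` -/
def PS.Act (S : PS G p I) (V Q : Subgroup G) (j : I) : Prop := ¬ Cm Q V S.X ≤ Cm Q V (S.D {j})

theorem PS.Act.cj {S : PS G p I} {V Q : Subgroup G} {j k : I} (h : S.Act V Q j) {g : G} (h1 : TH.cj g S.X = S.X)
    (h2 : TH.cj g (S.D {j}) = S.D {k}) : S.Act (TH.cj g V) (TH.cj g Q) k := fun h3 => by
  rw [← h1, ← h2, ← cj_Cm, ← cj_Cm, cj_le_cj_iff] at h3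
  exact h h3

variable [Finite G] [hp : Fact p.Prime]

theorem PS.exists_Syl_of_fix (S : PS G p I) {c : Ω} {P K : Subgroup G} (hP : P ∈ S.Syl Set.univ)
    (h1 : P ≤ stabilizer G c) (hK : IsPGroup p K) (h2 : K ≤ S.D Set.univ) (h3 : K ≤ stabilizer G c) :
    ∃ R ∈ S.Syl Set.univ, K ≤ R ∧ R ≤ stabilizer G c := by
  obtain ⟨g, hg, h4⟩ := ((S.maxP_Syl hP).mono (L' := S.D Set.univ ⊓ stabilizer G c) (le_inf (S.Syl_le hP) h1)
    inf_le_left).exists_cj hK (le_inf h2 h3)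
  exact ⟨_, cj_mem_Cjs hg.1 hP, h4, (cj_mono g h1).trans (cj_of_mem hg.2).le⟩

theorem PS.At.exists_Syl_V {T : Subgroup G} {m : ℕ} {a : Ω} {S : PS G p I} (h : S.At T a) (A : Amb Ω T p m) {L : Set I}
    {b : Ω} (hb : S.V L ≤ stabilizer G b) : ∃ P ∈ S.Syl L, P ≤ stabilizer G b := by
  obtain ⟨P, hP, h1, h2⟩ := h.exists_Syl A (S.V_isP L) ((S.V_le L).trans (S.X_le _)) hb
  exact ⟨P, S.vx L P hP h1, h2⟩

namespace Md

variable {S : PS G p I} {a : Ω} {J : Set I} {V Q : Subgroup G} (h : Md p a (S.D J) S.X V Q)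

include h

theorem mem_X {w : G} : w ∈ Cm Q V S.X ↔ w ∈ Q ∧ S.X ≤ stabilizer G (w • a) := h.mem_Cm (S.X_le J)

theorem mem_D {L : Set I} (hL : L ⊆ J) {w : G} : w ∈ Cm Q V (S.D L) ↔ w ∈ Q ∧ S.D L ≤ stabilizer G (w • a) :=
  h.mem_Cm (S.mono hL)

theorem mem_D_of {L : Set I} (hL : L ⊆ J) {w : G} (h1 : w ∈ Cm Q V S.X) (h2 : ∀ i ∈ L, w ∈ Cm Q V (S.D {i})) :
    w ∈ Cm Q V (S.D L) :=
  (h.mem_D hL).2 ⟨h1.1, S.D_le (h.mem_X.1 h1).2 fun i hi =>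
    ((h.mem_D (Set.singleton_subset_iff.2 (hL hi))).1 (h2 i hi)).2⟩

/-- restriction to a subset of the nodes -/
theorem restrict {L : Set I} (hL : L ⊆ J) : Md p a (S.D L) S.X V (Cm Q V (S.V L)) where
  isP := h.isP.to_le Cm_le
  reg := reg_mono h.reg (h.V_le_Cm ((S.V_le L).trans (S.X_le J))) Cm_le
  nm w hw := hw.2.1
  fix := (S.mono hL).trans h.fix
  nQ g hg := nm_Cm (h.nQ g (S.mono hL hg)) (h.nV (S.mono hL hg)) (S.nm_V hg)
  cov w hw := by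
    obtain ⟨P, hP, h1⟩ := h.cov w hw.1
    obtain ⟨R, hR, h2, h3⟩ := S.exists_Syl_of_fix (S.Syl_mono (Set.subset_univ J) hP) h1 (S.V_isP L)
      ((S.V_le L).trans (S.X_le _)) ((h.mem_Cm ((S.V_le L).trans (S.X_le J))).1 hw).2
    exact ⟨R, S.vx L R hR h2, h3⟩

theorem exists_act (h1 : ¬ Cm Q V S.X ≤ Cm Q V (S.D J)) : ∃ j ∈ J, S.Act V Q j := by
  by_contra h2
  push Not at h2
  exact h1 fun w hw => h.mem_D_of subset_rfl hw fun i hi => not_not.1 (h2 i hi) hw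

/-- if no node is active then `D J` is trivial on `Q / V` -/
theorem eq_of_not_act (h1 : ∀ j ∈ J, ¬ S.Act V Q j) : Cm Q V (S.D J) = Q :=
  h.eq_of_pas (S.X_le J) (by_contra fun h2 => by
    obtain ⟨j, hj, h3⟩ := h.exists_act h2
    exact h1 j hj h3)

theorem ac {j : I} (hj : j ∈ J) (h1 : S.Split j) (h2 : S.Act V Q j) :
    Ac p a (S.D {j}) S.X V (Cm Q V (S.V {j})) where
  toMd := h.restrict (Set.singleton_subset_iff.2 hj)
  mx := S.maxD _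
  spl := h1
  gen := S.gen _
  act := by rwa [Cm_Cm (S.V_le _), Cm_Cm ((S.V_le _).trans (S.X_le _))]

theorem card_X {j : I} (hj : j ∈ J) (h1 : S.Split j) (h2 : S.Act V Q j) {q : ℕ} (hq : S.W {j} = q + 1) :
    Nat.card (Cm Q V S.X) = q * Nat.card (Cm Q V (S.D {j})) ∧
      Nat.card (Cm Q V (S.V {j})) = q * q * Nat.card (Cm Q V (S.D {j})) := by
  have h3 := (h.ac hj h1 h2).card hq
  rwa [Cm_Cm (S.V_le _), Cm_Cm ((S.V_le _).trans (S.X_le _))] at h3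

/-- the affine lemma -/
theorem aff {T : Subgroup G} {m : ℕ} (hS : S.At T a) (A : Amb Ω T p m) (hs : Semi Ω V Q) {j : I} (hj : j ∈ J)
    (h1 : S.Split j) (h2 : S.Act V Q j) {b : Ω} (hX : S.X ≤ stabilizer G b) (hV : V ≤ stabilizer G b) :
    ∃ z ∈ Cm Q V S.X, S.D {j} ≤ stabilizer G (z • b) := by
  have h3 := h.ac hj h1 h2
  have h4 := (h.ac hj h1 h2).aff (hs.mono h3.toMd.V_le Cm_le b hV) hX fun w hw => hS.exists_Syl_V A
    ((mem_Cm_iff (hs b hV) h.nm ((S.V_le _).trans hX) fun k hk => h.nQ k (S.X_le J (S.V_le _ hk))).1 hw).2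
  rwa [Cm_Cm (S.V_le _)] at h4

theorem cntK {j : I} (hj : j ∈ J) {K : Subgroup G} (h1 : S.V {j} ≤ K) (h2 : K ≤ S.X) :
    Nat.card (Cm Q V K) + {P ∈ S.Syl {j} | K ≤ P}.ncard * Nat.card (Cm Q V (S.D {j})) =
      {P ∈ S.Syl {j} | K ≤ P}.ncard * Nat.card (Cm Q V S.X) + Nat.card (Cm Q V (S.D {j})) := by
  have hD : S.D {j} ≤ S.D J := S.mono (Set.singleton_subset_iff.2 hj)
  have hK : K ≤ S.D J := h2.trans (S.X_le J)
  have h3 : ((Cm Q V K : Set G) \ Cm Q V (S.D {j})).ncard =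
      {P ∈ S.Syl {j} | K ≤ P}.ncard * ((Cm Q V S.X : Set G) \ Cm Q V (S.D {j})).ncard :=
    ncard_eq_mul (Set.toFinite _) (Set.toFinite _) (fun P => (Cm Q V P : Set G) \ Cm Q V (S.D {j}))
      (fun w hw => by
        obtain ⟨P, hP, h4⟩ := h.cov w hw.1.1
        obtain ⟨R, hR, h5, h6⟩ := S.exists_Syl_of_fix (S.Syl_mono (Set.subset_univ J) hP) h4 (S.isP.to_le h2)
          (h2.trans (S.X_le _)) ((h.mem_Cm hK).1 hw.1).2
        have h7 := S.vx _ R hR (h1.trans h5)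
        exact ⟨R, ⟨h7, h5⟩, (h.mem_Cm ((S.Syl_le h7).trans hD)).2 ⟨hw.1.1, h6⟩, hw.2⟩)
      (fun P hP w hw => ⟨Cm_anti hP.2 hw.1, hw.2⟩)
      (fun P hP P' hP' w hw hw' => by_contra fun hne => hw.2 ((h.mem_Cm hD).2 ⟨hw.1.1,
        S.D_le_of_two' hP.1 hP'.1 hne ((h.mem_Cm ((S.Syl_le hP.1).trans hD)).1 hw.1).2
          ((h.mem_Cm ((S.Syl_le hP'.1).trans hD)).1 hw'.1).2⟩))
      (by
        rintro _ ⟨⟨e, he, rfl⟩, -⟩
        have h4 := cj_Cm (Q := Q) (V := V) (K := S.X) e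
        have h5 := cj_Cm (Q := Q) (V := V) (K := S.D {j}) e
        rw [h.nQ e (hD he), h.nV (hD he)] at h4 h5
        rw [cj_of_mem he] at h5
        rw [← h4]
        conv_lhs => rw [← h5]
        exact (congrArg Set.ncard (Set.image_sdiff (MulAut.conj e).injective _ _).symm).trans
          (Set.ncard_image_of_injective _ (MulAut.conj e).injective))
  have h4 := Set.ncard_sdiff_add_ncard_of_subset (s := (Cm Q V (S.D {j}) : Set G)) (t := (Cm Q V K : Set G))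
    (Cm_anti (h2.trans (S.X_le _)))
  have h5 := Set.ncard_sdiff_add_ncard_of_subset (s := (Cm Q V (S.D {j}) : Set G)) (t := (Cm Q V S.X : Set G))
    (Cm_anti (S.X_le _))
  have e : ∀ K : Subgroup G, Nat.card K = (K : Set G).ncard := fun K => Nat.card_coe_set_eq (K : Set G)
  rw [e, e, e, ← h4, ← h5, h3]
  ring

theorem dvd_iff_of_act {j : I} (hj : j ∈ J) (h0 : S.Act V Q j) :
    ∃ b, ∀ K, S.V {j} ≤ K → K ≤ S.X → ∀ c, ¬ p ^ c ∣ {P ∈ S.Syl {j} | K ≤ P}.ncard - 1 ↔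
      (b < c ∧ {P ∈ S.Syl {j} | K ≤ P}.ncard ≠ 1) := by
  obtain ⟨b, hb⟩ := relIndex_eq_pow (A := Cm Q V (S.D {j})) (h.isP.to_le (Cm_le (V := V) (K := S.X)))
  have h1 := card_mul_relIndex (Cm_anti (Q := Q) (V := V) (S.X_le {j}))
  have hb0 : 0 < b := Nat.pos_of_ne_zero (by
    rintro rfl
    rw [pow_zero, Subgroup.relIndex_eq_one] at hb
    exact h0 hb)
  refine ⟨b, fun K h2 h3 c => ?_⟩
  obtain ⟨y, hy⟩ := relIndex_eq_pow (A := Cm Q V (S.D {j})) (h.isP.to_le (Cm_le (V := V) (K := K)))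
  have h4 := card_mul_relIndex (Cm_anti (Q := Q) (V := V) (h3.trans (S.X_le {j})))
  have h5 := h.cntK hj h2 h3
  have h6 : 0 < {P ∈ S.Syl {j} | K ≤ P}.ncard := (Set.ncard_pos (Set.toFinite _)).2 ⟨_, S.X_mem _, h3⟩
  generalize {P ∈ S.Syl {j} | K ≤ P}.ncard = r at h5 h6
  obtain ⟨s, rfl⟩ : ∃ s, r = s + 1 := ⟨r - 1, by omega⟩
  rw [← h4, ← h1, hy, hb] at h5
  have h7 : p ^ y + s = s * p ^ b + p ^ b :=
    Nat.eq_of_mul_eq_mul_left (Nat.card_pos (α := Cm Q V (S.D {j}))) (by linarith only [h5])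
  rw [Nat.add_sub_cancel]
  rcases Nat.eq_zero_or_pos s with rfl | hs
  · simp
  · rw [arith_val hp.1 hb0 hs h7 c]
    omega

end Md

/-- a node which is not split is never active -/
theorem FS.split_of_act {F : FS G p I} {a : Ω} {J : Set I} {V Q : Subgroup G} (h : Md p a (F.D J) F.X V Q) {j : I}
    (hj : j ∈ J) (h0 : F.toPS.Act V Q j) : F.toPS.Split j := by
  by_contra h1
  obtain ⟨K, c, h2, h3, h4, h5⟩ := F.multi j h1
  obtain ⟨b, hb⟩ := Md.dvd_iff_of_act (S := F.toPS) h hj h0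
  have h6 : {P ∈ F.toPS.Syl {j} | F.toPS.V {j} ≤ P} = F.toPS.Syl {j} :=
    Set.sep_eq_self_iff_mem_true.2 fun P hP => rad_le hP
  have h7 := hb _ le_rfl (F.toPS.V_le _) c
  rw [h6] at h7
  have h8 := F.toPS.three_le j
  exact h7.2 ⟨((hb K h2 h3 c).1 h5).1, fun h9 => by
    have h10 : F.toPS.W {j} = 1 := h9
    omega⟩ h4

section Ex

variable {T : Subgroup G} {m : ℕ} {a : Ω}

/-- Borel–Tits for a clean subgroup -/
theorem Amb.exists_Q (A : Amb Ω T p m) {V : Subgroup G} (h0 : V ≠ ⊥) (hV : IsPGroup p V) (h1 : V ≤ T)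
    (h2 : V ≤ stabilizer G a) (clean : ∀ P : Subgroup G, IsPGroup p P → P ≤ T → P ≤ stabilizer G a → V ≤ P →
      (∀ g : G, g • a = a → cj g V = V → cj g P = P) → P ≤ V) :
    ∃ Q : Subgroup G, IsPGroup p Q ∧ Q ≤ T ∧ Q ⊓ stabilizer G a = V ∧ (∀ w ∈ Q, cj w V = V) ∧ ¬ Q ≤ V ∧
      ∀ g : G, cj g V = V → cj g Q = Q := by
  obtain ⟨Q, hQ, h3, h4, h5, h6⟩ := A.gt a V h0 hV h1 h2
  have h7 : Q ⊓ stabilizer G a = V := le_antisymm (clean _ (hQ.to_le inf_le_left) (inf_le_left.trans h3) inf_le_right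
    (le_inf h4 h2) fun g hg hg' => nm_inf (h5 g hg') (nm_stab hg)) (le_inf h4 h2)
  obtain ⟨w, hw, h8, h9⟩ := exists_nm_of_lt hQ h4 fun h => h6 (h.trans h2)
  refine ⟨Q ⊓ Subgroup.normalizer (V : Set G), hQ.to_le inf_le_left, inf_le_left.trans h3,
    reg_mono h7 (le_inf h4 Subgroup.le_normalizer) inf_le_left, fun w hw => nm_iff.1 hw.2,
    fun h => h8 (h ⟨hw, nm_iff.2 h9⟩), fun g hg => nm_inf (h5 g hg) (by rw [cj_normalizer, hg])⟩

/-- the `Q`-trick -/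
theorem reg_of_nm {V Q R : Subgroup G} (hQ : IsPGroup p Q) (h1 : Q ≤ T) (h2 : Q ⊓ stabilizer G a = V) {b : Ω}
    (hb : V ≤ stabilizer G b) (hR : MaxP p (T ⊓ stabilizer G b) R) (h3 : R ≤ stabilizer G a)
    (h4 : ∀ g ∈ R, cj g Q = Q) : Q ⊓ stabilizer G b = V :=
  le_antisymm ((le_inf inf_le_left ((hR.le_of_nm (hQ.to_le inf_le_left) (inf_le_inf_right _ h1)
    fun g hg => nm_inf (h4 g hg) (nm_stab (hR.le hg).2)).trans h3)).trans h2.le) (le_inf (h2.ge.trans inf_le_left) hb)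

theorem mem_Np {X : Subgroup G} {g : G} (h1 : g ∈ T) (h2 : g • a = a) (h3 : cj g X = X) {n : ℕ} (h4 : g ^ p ^ n = 1) :
    g ∈ Np p T a X := Subgroup.subset_closure ⟨h1, h2, h3, n, h4⟩

theorem Np_le (X : Subgroup G) : Np p T a X ≤ T ⊓ stabilizer G a ⊓ Subgroup.normalizer (X : Set G) :=
  (Subgroup.closure_le _).2 fun _ h => ⟨⟨h.1, h.2.1⟩, nm_iff.2 h.2.2.1⟩

theorem Np_T {X : Subgroup G} {g : G} (h : g ∈ Np p T a X) : g ∈ T := (Np_le X h).1.1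

theorem Np_fix {X : Subgroup G} {g : G} (h : g ∈ Np p T a X) : g • a = a := (Np_le X h).1.2

theorem Np_nm {X : Subgroup G} {g : G} (h : g ∈ Np p T a X) : cj g X = X := nm_iff.1 (Np_le X h).2

theorem nm_Np [hT : T.Normal] {X : Subgroup G} {g : G} (h1 : g • a = a) (h2 : cj g X = X) :
    cj g (Np p T a X) = Np p T a X :=
  nm_of_le ((cj_le_iff g).2 ((Subgroup.closure_le _).2 fun x ⟨h3, h4, h5, n, h6⟩ => mem_cj.2 (by
    rw [inv_inv]
    refine mem_Np (hT.conj_mem x h3 g) ?_ (nm_mul (nm_mul h2 h5) (nm_inv h2)) (n := n) (by rw [conj_pow, h6]; simp)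
    rw [mul_smul, mul_smul, inv_smul_eq_iff.2 h1.symm, h4, h1])))

theorem PS.At.le_Np {S : PS G p I} (h : S.At T a) {P : Subgroup G} (hP : IsPGroup p P) (h1 : P ≤ T)
    (h2 : P ≤ stabilizer G a) (h3 : S.X ≤ P) : P ≤ Np p T a S.X := fun g hg => by
  obtain ⟨n, hn⟩ := exists_pow_of_isP hP hg
  exact mem_Np (h1 hg) (h2 hg) (h.nm_of_le hP h2 (S.X_mem ∅) h3 hg) hn

theorem PS.At.X_le_Np {S : PS G p I} (h : S.At T a) : S.X ≤ Np p T a S.X := h.le_Np S.isP h.X_T h.X_fix le_rfl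

/-- a `p`-subgroup of `T_a` normalised by `Np` lies in `X` -/
theorem FS.At.le_X [hT : T.Normal] {F : FS G p I} (h : F.At T a) {P : Subgroup G} (hP : IsPGroup p P) (h1 : P ≤ T)
    (h2 : P ≤ stabilizer G a) (h3 : ∀ g ∈ Np p T a F.X, cj g P = P) : P ≤ F.X := by
  have h4 : P ≤ Np p T a F.X := le_sup_right.trans (h.toAt.le_Np
    (isP_sup F.isP hP fun x hx => h3 x (h.toAt.X_le_Np hx)) (sup_le h.toAt.X_T h1) (sup_le h.toAt.X_fix h2) le_sup_left)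
  obtain ⟨h5, h6, -⟩ := Op_spec (p := p) (Np p T a F.X)
  exact (le_Op h4 hP h3).trans (h.maxX _ h6 (fun g hg => Np_T (h5 hg)) (fun g hg => Np_fix (h5 hg))
    (fun g hg => Np_nm (h5 hg)) fun g _ hg hg' => nm_Op (nm_Np hg hg'))

/-- **existence (i)**: `J` is invariant under `Np` -/
theorem FS.At.exists_md {F : FS G p I} (h : F.At T a) (A : Amb Ω T p m) {J : Set I} (hJ : J ≠ Set.univ)
    (inv : ∀ g ∈ Np p T a F.X, cj g (F.D J) = F.D J) :
    ∃ Q : Subgroup G, Md p a (F.D J) F.X (F.toPS.V J) Q ∧ Q ≤ T ∧ ¬ Q ≤ F.toPS.V J ∧ Semi Ω (F.toPS.V J) Q ∧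
      ∀ g : G, cj g (F.toPS.V J) = F.toPS.V J → cj g Q = Q := by
  have := A.nrm
  have hN : ∀ g ∈ Np p T a F.X, cj g (F.toPS.V J) = F.toPS.V J := fun g hg => nm_rad' (inv g hg) (Np_nm hg)
  obtain ⟨Q, hQ, h1, h2, h3, h4, h5⟩ := A.exists_Q (a := a) (F.toPS.V_ne_bot hJ) (F.toPS.V_isP J)
    ((F.toPS.V_le J).trans h.toAt.X_T) ((F.toPS.V_le J).trans h.toAt.X_fix) fun P hP h1 h2 _ h4 =>
      le_rad (h.le_X hP h1 h2 fun g hg => h4 g (Np_fix hg) (hN g hg))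
        fun g hg => h4 g (h.toAt.D_fix J hg) (F.toPS.nm_V hg)
  refine ⟨Q, ⟨hQ, h2, h3, h.toAt.D_fix J, fun g hg => h5 g (F.toPS.nm_V hg), fun w hw => h.toAt.exists_Syl_V A
    (le_stab_smul (h3 w hw) ((F.toPS.V_le J).trans h.toAt.X_fix))⟩, h1, h4, fun b hb => ?_, h5⟩
  obtain ⟨R, h6, h7, h8⟩ := A.exists_S a b (F.toPS.V_isP J) ((F.toPS.V_le J).trans h.toAt.X_T)
    ((F.toPS.V_le J).trans h.toAt.X_fix) hb
  refine reg_of_nm hQ h1 h2 hb h8 (h7.le.trans inf_le_right) fun g hg => h5 g ?_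
  obtain ⟨e, he, h9⟩ := F.vx J _ (h.toAt.inf_mem h7) (le_inf h6 ((F.toPS.V_le J).trans (F.toPS.X_le _)))
  have h10 : cj e⁻¹ R ≤ Np p T a F.X := h.toAt.le_Np (isPGroup_cj h7.isP _)
    ((cj_mono _ (h7.le.trans inf_le_left)).trans (cj_normal _ T).le)
    ((cj_mono _ (h7.le.trans inf_le_right)).trans (cj_of_mem (inv_mem (h.toAt.D_fix J he))).le)
    ((cj_le_iff e).1 (h9 ▸ inf_le_left))
  have h11 := hN _ (h10 (conj_mem_cj e⁻¹ hg))
  rw [inv_inv, ← nm_cj_iff, F.toPS.nm_V he] at h11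
  exact h11

/-- `C_A(K)` -/
abbrev CA (T : Subgroup G) (a : Ω) (K : Subgroup G) : Subgroup G :=
  T ⊓ stabilizer G a ⊓ Subgroup.centralizer (K : Set G)

theorem nm_CA [hT : T.Normal] {K : Subgroup G} {g : G} (h1 : g • a = a) (h2 : cj g K = K) :
    cj g (CA T a K) = CA T a K :=
  nm_inf (nm_inf (cj_normal g T) (nm_stab h1)) (by rw [cj_centralizer, h2])

theorem nm_of_CA {K V : Subgroup G} (h : V ≤ CA T a K) {g : G} (hg : g ∈ K) : cj g V = V :=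
  nm_of_comm fun _ hx => (h hx).2 g hg

/-- a `p`-subgroup of `G_a` normalised by `D univ` centralises it -/
theorem PS.At.comm_of_nm {S : PS G p I} (h : S.At T a) (A : Amb Ω T p m) {P : Subgroup G} (hP : IsPGroup p P)
    (h2 : P ≤ stabilizer G a) (h3 : ∀ g ∈ S.D Set.univ, cj g P = P) :
    P ≤ Subgroup.centralizer (S.D Set.univ : Set G) := fun x hx e he => by
  have h4 := h.eq_bot_of_nm A (P := P ⊓ S.D Set.univ) (hP.to_le inf_le_left) inf_le_right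
    fun g hg => nm_inf (h3 g hg) (cj_of_mem hg)
  have h5 : e * x * e⁻¹ * x⁻¹ ∈ P ⊓ S.D Set.univ := Subgroup.mem_inf.2 ⟨mul_mem (nm_conj (h3 e he) hx) (inv_mem hx), by
    have h6 := mul_mem (show e ∈ S.D Set.univ from he) (nm_conj (h.nrmH x (h2 hx)) (inv_mem he))
    rwa [← mul_assoc, ← mul_assoc] at h6⟩
  rwa [h4, Subgroup.mem_bot, mul_inv_eq_one, mul_inv_eq_iff_eq_mul] at h5

/-- **existence (ii)**: `V` is a Sylow subgroup of the centraliser of `D univ` -/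
theorem PS.At.exists_md {S : PS G p I} (h : S.At T a) (A : Amb Ω T p m) {V : Subgroup G}
    (hV : MaxP p (CA T a (S.D Set.univ)) V) (h0 : V ≠ ⊥) :
    ∃ Q : Subgroup G, Md p a (S.D Set.univ) S.X V Q ∧ Q ≤ T ∧ ¬ Q ≤ V ∧ Semi Ω V Q ∧
      ∀ g : G, cj g V = V → cj g Q = Q := by
  have := A.nrm
  have hT : V ≤ T := hV.le.trans (inf_le_left.trans inf_le_left)
  have ha : V ≤ stabilizer G a := hV.le.trans (inf_le_left.trans inf_le_right)
  obtain ⟨Q, hQ, h1, h2, h3, h4, h5⟩ := A.exists_Q (a := a) h0 hV.isP hT ha fun P hP h1 h2 h3 h4 =>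
    (hV.max P hP (le_inf (le_inf h1 h2) (h.comm_of_nm A hP h2 fun g hg => h4 g (h.fix hg) (nm_of_CA hV.le hg))) h3).le
  refine ⟨Q, ⟨hQ, h2, h3, h.fix, fun g hg => h5 g (nm_of_CA hV.le hg), fun w hw => ?_⟩, h1, h4, fun b hb => ?_, h5⟩
  · obtain ⟨P, hP, -, h6⟩ := h.exists_Syl A (b := w • a) (K := ⊥) IsPGroup.of_bot bot_le bot_le
    exact ⟨P, hP, h6⟩
  obtain ⟨R, h6, h7, h8⟩ := A.exists_S a b hV.isP hT ha hb
  refine reg_of_nm hQ h1 h2 hb h8 (h7.le.trans inf_le_right) fun g hg => h5 g ?_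
  rw [← hV.max (R ⊓ CA T a (S.D Set.univ)) (h7.isP.to_le inf_le_left) inf_le_right (le_inf h6 hV.le)]
  exact nm_inf (cj_of_mem hg) (nm_CA (h7.le hg).2 (h.nrmH g (h7.le hg).2))

/-- the subgroup generated by the `p'`-elements -/
def Opp (p : ℕ) (L : Subgroup G) : Subgroup G := Subgroup.closure {g | g ∈ L ∧ Nat.Coprime p (orderOf g)}

theorem Opp_le (L : Subgroup G) : Opp p L ≤ L := (Subgroup.closure_le _).2 fun _ h => h.1

theorem nm_Opp {L : Subgroup G} {g : G} (hg : cj g L = L) : cj g (Opp p L) = Opp p L :=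
  nm_of_le ((cj_le_iff g).2 ((Subgroup.closure_le _).2 fun x hx => mem_cj.2 (by
    rw [inv_inv]
    exact Subgroup.subset_closure ⟨nm_conj hg hx.1, by
      rw [show g * x * g⁻¹ = MulAut.conj g x from rfl, MulEquiv.orderOf_eq]; exact hx.2⟩)))

theorem Opp_sup {D V : Subgroup G} (hV : IsPGroup p V) (h : ∀ v ∈ V, cj v D = D) : Opp p (D ⊔ V) = Opp p D := by
  refine le_antisymm (Subgroup.closure_mono fun g hg => ⟨?_, hg.2⟩) (Subgroup.closure_mono fun g hg =>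
    ⟨Subgroup.mem_sup_left hg.1, hg.2⟩)
  obtain ⟨d, hd, v, hv, rfl⟩ := mem_sup_nm' h (sup_comm D V ▸ hg.1)
  obtain ⟨n, hn⟩ := exists_pow_of_isP hV hv
  have h1 : ∀ k : ℕ, (d * v) ^ k * (v ^ k)⁻¹ ∈ D := fun k => by
    induction k with
    | zero => simp
    | succ k ih =>
      have h2 := mul_mem hd (nm_conj (h v hv) ih)
      rwa [show d * (v * ((d * v) ^ k * (v ^ k)⁻¹) * v⁻¹) = (d * v) ^ (k + 1) * (v ^ (k + 1))⁻¹ by
        rw [pow_succ' (d * v), pow_succ' v]; group] at h2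
  have h2 := h1 (p ^ n)
  rw [hn, inv_one, mul_one] at h2
  obtain ⟨k, hk⟩ := exists_pow_eq_self_of_coprime (Nat.Coprime.pow_left n hg.2)
  rw [← hk]
  exact pow_mem h2 k

theorem isP_of_Opp {L : Subgroup G} (h : Opp p L = ⊥) : IsPGroup p L := fun g => by
  obtain ⟨n, r, hr, h1⟩ := Nat.exists_eq_pow_mul_and_not_dvd (orderOf_pos (g : G)).ne' p hp.1.ne_one
  refine ⟨n, Subtype.ext ?_⟩
  have h2 : (g : G) ^ p ^ n ∈ Opp p L := Subgroup.subset_closure ⟨pow_mem g.2 _,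
    Nat.Coprime.coprime_dvd_right (orderOf_dvd_of_pow_eq_one (n := r) (by rw [← pow_mul, ← h1, pow_orderOf_eq_one]))
      ((Nat.Prime.coprime_iff_not_dvd hp.1).2 hr)⟩
  rwa [h, Subgroup.mem_bot] at h2

theorem PS.not_isP (S : PS G p I) (i : I) : ¬ IsPGroup p (S.D {i}) := fun h =>
  Set.singleton_ne_empty i (S.D_inj (((S.maxD {i}).max _ h le_rfl (S.X_le _)).trans S.D_empty.symm))

/-- the normaliser of `D univ ⊔ V` fixes `a` -/
theorem PS.At.smul_eq_of_sup {S : PS G p I} (h : S.At T a) (A : Amb Ω T p m) {V : Subgroup G} (hV : IsPGroup p V)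
    (h1 : V ≤ stabilizer G a) {w : G} (hw : cj w (S.D Set.univ ⊔ V) = S.D Set.univ ⊔ V) : w • a = a := by
  obtain ⟨i, -⟩ := S.endn
  refine A.smul_eq_of_nm (N := Opp p (S.D Set.univ)) (fun h2 => S.not_isP i ((isP_of_Opp h2).to_le (S.le_univ _)))
    ((Opp_le _).trans h.fix) (fun g hg => nm_Opp (h.nrmH g hg)) ?_
  rw [← Opp_sup hV fun v hv => h.nrmH v (h1 hv)]
  exact nm_Opp hw

/-- a module of `D univ` is active -/
theorem Md.exists_act_univ {S : PS G p I} {V Q : Subgroup G} (h : Md p a (S.D Set.univ) S.X V Q) (hS : S.At T a)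
    (A : Amb Ω T p m) (h1 : ¬ Q ≤ V) : ∃ j, S.Act V Q j := by
  by_contra h2
  push Not at h2
  refine h1 fun w hw => h.reg.le ⟨hw, hS.smul_eq_of_sup A (h.isP.to_le h.V_le) h.V_fix (nm_sup_of_Cm (Q := Q) ?_)⟩
  rwa [h.eq_of_not_act fun j _ => h2 j]

end Ex

end Cfsg.Agent.TH.Own
end

-- part: TH/Own/Count
section
/-!
# S3541, `BoxOwn`: the counting lemmas CNT, RANK2, AFF2, PT (helper74)
-/

set_option autoImplicit false
set_option linter.unusedSectionVars false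
set_option linter.unusedVariables false

namespace Cfsg.Agent.TH.Own

open MulAction

variable {G : Type*} [Group G] {p : ℕ} {Ω : Type*} [MulAction G Ω] {I : Type*}

theorem sum_ite_eq_ncard {α : Type*} {A : Set α} (hA : A.Finite) (q : α → Prop) [DecidablePred q] :
    ∑ b ∈ hA.toFinset, (if q b then (1 : ℚ) else 0) = ({b ∈ A | q b}.ncard : ℚ) := by
  rw [Finset.sum_boole, ← Set.ncard_coe_finset]
  congr 2
  ext b
  simp

theorem exists_mul_of_relIndex [Finite G] {A B Z : Subgroup G} (hA : A ≤ Z) (h : B.relIndex A = B.relIndex Z) {z : G}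
    (hz : z ∈ Z) : ∃ u ∈ A, ∃ v ∈ B, z = u * v := by
  have h1 : ∀ L : Subgroup G, (Orb L ((1 : G) : G ⧸ B)).ncard = B.relIndex L := fun L => by
    have h2 := ncard_Orb_mul L ((1 : G) : G ⧸ B)
    rw [show stabilizer G ((1 : G) : G ⧸ B) = B from stabilizer_quotient B,
      ← card_mul_relIndex (inf_le_left : L ⊓ B ≤ L), Subgroup.inf_relIndex_left, mul_comm] at h2
    exact Nat.eq_of_mul_eq_mul_left Nat.card_pos h2
  have h2 : Orb A ((1 : G) : G ⧸ B) = Orb Z ((1 : G) : G ⧸ B) :=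
    Set.eq_of_subset_of_ncard_le (fun _ ⟨g, hg, h3⟩ => ⟨g, hA hg, h3⟩) (by rw [h1, h1, h])
  obtain ⟨u, hu, h3⟩ : z • ((1 : G) : G ⧸ B) ∈ Orb A ((1 : G) : G ⧸ B) := h2 ▸ ⟨z, hz, rfl⟩
  have h4 : ((u * 1 : G) : G ⧸ B) = ((z * 1 : G) : G ⧸ B) := h3
  rw [mul_one, mul_one] at h4
  exact ⟨u, hu, u⁻¹ * z, QuotientGroup.eq.1 h4, by group⟩

theorem arith_rank2 {p a b c n e : ℕ} (hp : p.Prime) (ha : 0 < a) (hb : 0 < b) (hc : c ≤ a + b)
    (he : e = 0 ∨ ¬ p ∣ e) (h : ((p : ℤ) ^ n - 1) * ((p ^ a + 1) * (p ^ b + 1)) =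
      ((p ^ a + 1) * (p ^ b + 1) + p ^ a * p ^ b * e) * (p ^ c + 1) * (p ^ a * p ^ b - 1)) : c = a + b ∧ e = 0 := by
  have hp' : Prime (p : ℤ) := Nat.prime_iff_prime_int.1 hp
  have h1 : (1 : ℤ) < p := by exact_mod_cast hp.one_lt
  have hu : ¬ (p : ℤ) ∣ (p ^ a + 1) * (p ^ b + 1) := fun h2 => by
    rcases hp'.dvd_or_dvd h2 with h3 | h3
    · exact hp'.not_dvd_one ((dvd_add_right (dvd_pow_self _ ha.ne')).1 h3)
    · exact hp'.not_dvd_one ((dvd_add_right (dvd_pow_self _ hb.ne')).1 h3)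
  rw [← pow_add] at h
  have h2 : (1 : ℤ) < p ^ (a + b) := one_lt_pow₀ h1 (by omega)
  have h3 : (0 : ℤ) < p ^ c := by positivity
  have h4 : (0 : ℤ) < (p ^ a + 1) * (p ^ b + 1) := by (clear * - h1; positivity)
  generalize ((p : ℤ) ^ a + 1) * (p ^ b + 1) = u at h hu h4
  have h5 : c < n := (pow_lt_pow_iff_right₀ h1).1 (by
    have h6 : (0 : ℤ) ≤ p ^ (a + b) * e := by (clear * - h1; positivity)
    have h7 : u * (p ^ c + 1) * 1 ≤ (u + p ^ (a + b) * e) * (p ^ c + 1) * (p ^ (a + b) - 1) := by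
      gcongr
      · omega
      · omega
    rw [← h] at h7
    nlinarith only [h4, h7])
  have h6 : (p : ℤ) ^ (c + 1) ∣ p ^ n := pow_dvd_pow _ h5
  have h7 : c = a + b := by
    by_contra h8
    have h9 : (p : ℤ) ^ (c + 1) ∣ p ^ (a + b) := pow_dvd_pow _ (by omega)
    have h10 : (p : ℤ) ^ (c + 1) ∣ p ^ c * u := by
      rw [show (p : ℤ) ^ c * u = p ^ (a + b) * ((u + p ^ (a + b) * e) * (p ^ c + 1) - e * (p ^ c + 1)) - p ^ n * u by
        linarith only [h]]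
      exact dvd_sub (h9.mul_right _) (h6.mul_right _)
    rw [pow_succ] at h10
    exact hu ((mul_dvd_mul_iff_left h3.ne').1 h10)
  refine ⟨h7, he.resolve_right fun h8 => h8 ?_⟩
  rw [← h7] at h
  have h9 : (p : ℤ) ^ (c + 1) ∣ p ^ c * p ^ c := by
    rw [← pow_add]; exact pow_dvd_pow _ (by omega)
  have h10 : (p : ℤ) ^ (c + 1) ∣ p ^ c * e := by
    rw [show (p : ℤ) ^ c * e = p ^ c * p ^ c * (u + e * p ^ c) - p ^ n * u by linarith only [h]]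
    exact dvd_sub (h9.mul_right _) (h6.mul_right _)
  rw [pow_succ] at h10
  exact_mod_cast (mul_dvd_mul_iff_left h3.ne').1 h10

variable [Finite G] [hp : Fact p.Prime]

namespace PS

variable (S : PS G p I)

theorem ncard_Syl_fix {L : Set I} {b : Ω} (hb : S.X ≤ stabilizer G b) :
    {P ∈ S.Syl L | P ≤ stabilizer G b}.ncard = S.W (S.typ (stabilizer G b) ∩ L) := by
  congr 1
  ext P
  exact ⟨fun h => S.mem_Syl_inter (S.mem_Syl_typ hb (S.Syl_mono (Set.subset_univ L) h.1) h.2) h.1,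
    fun h => ⟨S.Syl_mono Set.inter_subset_right h,
      (S.Syl_le (S.Syl_mono Set.inter_subset_left h)).trans (S.ov' hb).1⟩⟩

theorem ncard_Syl_smul {L : Set I} {e : G} (he : e ∈ S.D L) (b : Ω) :
    {P ∈ S.Syl L | P ≤ stabilizer G (e • b)}.ncard = {P ∈ S.Syl L | P ≤ stabilizer G b}.ncard := by
  rw [← Set.ncard_image_of_injective {P ∈ S.Syl L | P ≤ stabilizer G b} fun _ _ h => cj_inj e h]
  congr 1
  ext P
  constructor
  · exact fun h => ⟨cj e⁻¹ P, ⟨cj_mem_Cjs (inv_mem he) h.1, cj_le_stab'.2 (by rw [inv_inv]; exact h.2)⟩, cj_cj_inv e P⟩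
  · rintro ⟨R, h, rfl⟩
    exact ⟨cj_mem_Cjs he h.1, cj_le_stab.2 h.2⟩

open Classical in
/-- **CNT** -/
theorem cnt {L : Set I} {Θ : Set Ω} (hfin : Θ.Finite) (inv : ∀ g ∈ S.D L, ∀ b ∈ Θ, g • b ∈ Θ)
    (cov : ∀ b ∈ Θ, ∃ P ∈ S.Syl L, P ≤ stabilizer G b) :
    (Θ.ncard : ℚ) = S.W L * ∑ b ∈ hfin.toFinset,
      if S.X ≤ stabilizer G b then 1 / (S.W (S.typ (stabilizer G b) ∩ L) : ℚ) else 0 := by
  let n : Ω → ℚ := fun b => {P ∈ S.Syl L | P ≤ stabilizer G b}.ncard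
  have h1 : (Θ.ncard : ℚ) = ∑ b ∈ hfin.toFinset, ∑ P ∈ (finite_Cjs (S.D L) S.X).toFinset,
      (if P ≤ stabilizer G b then 1 else 0) * (1 / n b) := by
    rw [Set.ncard_eq_toFinset_card Θ hfin, Finset.card_eq_sum_ones, Nat.cast_sum]
    refine Finset.sum_congr rfl fun b hb => ?_
    rw [← Finset.sum_mul, sum_ite_eq_ncard, Nat.cast_one, mul_one_div_cancel]
    exact Nat.cast_ne_zero.2 ((Set.ncard_pos (Set.toFinite _)).2 (cov b (hfin.mem_toFinset.1 hb))).ne'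
  rw [h1, Finset.sum_comm, show S.W L = (finite_Cjs (S.D L) S.X).toFinset.card from Set.ncard_eq_toFinset_card _ _,
    ← nsmul_eq_mul, ← Finset.sum_const]
  refine Finset.sum_congr rfl fun P hP => ?_
  obtain ⟨e, he, rfl⟩ := (finite_Cjs _ _).mem_toFinset.1 hP
  symm
  refine Finset.sum_equiv (MulAction.toPerm e) (fun b => ?_) fun b hb => ?_
  · rw [hfin.mem_toFinset, hfin.mem_toFinset]
    exact ⟨inv e he b, fun h => by
      have h2 := inv _ (inv_mem he) _ h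
      rwa [MulAction.toPerm_apply, inv_smul_smul] at h2⟩
  · simp only [MulAction.toPerm_apply, cj_le_stab, n, S.ncard_Syl_smul he]
    split_ifs with h
    · rw [S.ncard_Syl_fix h, one_mul]
    · rw [zero_mul]

/-- CNT for two nodes -/
theorem cnt2 {j k : I} (hne : j ≠ k) {Θ : Set Ω} (hfin : Θ.Finite) (inv : ∀ g ∈ S.D {j, k}, ∀ b ∈ Θ, g • b ∈ Θ)
    (cov : ∀ b ∈ Θ, ∃ P ∈ S.Syl {j, k}, P ≤ stabilizer G b) :
    (Θ.ncard : ℚ) = S.W {j, k} * ((Θ ∩ Fx S.X).ncard + (1 / S.W {j} - 1) * (Θ ∩ Fx (S.D {j})).ncard +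
      (1 / S.W {k} - 1) * (Θ ∩ Fx (S.D {k})).ncard +
      (1 / S.W {j, k} - 1 / S.W {j} - 1 / S.W {k} + 1) * (Θ ∩ Fx (S.D {j, k})).ncard) := by
  classical
  rw [S.cnt hfin inv cov]
  congr 1
  have e : ∀ K : Subgroup G, ((Θ ∩ Fx K).ncard : ℚ) = ∑ b ∈ hfin.toFinset, if K ≤ stabilizer G b then 1 else 0 :=
    fun K => (sum_ite_eq_ncard hfin _).symm
  rw [e, e, e, e, Finset.mul_sum, Finset.mul_sum, Finset.mul_sum, ← Finset.sum_add_distrib, ← Finset.sum_add_distrib,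
    ← Finset.sum_add_distrib]
  refine Finset.sum_congr rfl fun b _ => ?_
  have h1 : S.D {j, k} ≤ stabilizer G b ↔ S.D {j} ≤ stabilizer G b ∧ S.D {k} ≤ stabilizer G b := by
    rw [show ({j, k} : Set I) = {j} ∪ {k} from rfl, S.D_union, sup_le_iff]
  by_cases hX : S.X ≤ stabilizer G b
  · by_cases hj : S.D {j} ≤ stabilizer G b <;> by_cases hk : S.D {k} ≤ stabilizer G b
    · have : S.typ (stabilizer G b) ∩ {j, k} = {j, k} := Set.inter_eq_right.2 (Set.pair_subset hj hk)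
      simp only [this, h1, hX, hj, hk, and_self, if_true]
      ring
    · have : S.typ (stabilizer G b) ∩ {j, k} = {j} := by
        ext i
        exact ⟨fun h => h.2.elim id fun h2 => absurd (show i = k from h2 ▸ rfl) fun h3 => hk (h3 ▸ h.1),
          fun h => by rw [show i = j from h]; exact ⟨hj, Or.inl rfl⟩⟩
      simp only [this, h1, hX, hj, hk, and_false, if_true, if_false]
      ring
    · have : S.typ (stabilizer G b) ∩ {j, k} = {k} := by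
        ext i
        exact ⟨fun h => h.2.elim (fun h2 => absurd h2 fun h3 => hj (h3 ▸ h.1)) id,
          fun h => by rw [show i = k from h]; exact ⟨hk, Or.inr rfl⟩⟩
      simp only [this, h1, hX, hj, hk, false_and, if_true, if_false]
      ring
    · have : S.typ (stabilizer G b) ∩ {j, k} = ∅ := Set.eq_empty_of_forall_notMem fun i h =>
        h.2.elim (fun h3 => hj (h3 ▸ h.1)) fun h3 => hk ((show i = k from h3) ▸ h.1)
      simp only [this, S.W_empty, h1, hX, hj, hk, and_self, if_true, if_false]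
      ring
  · have h2 : ∀ J, ¬ S.D J ≤ stabilizer G b := fun J h => hX ((S.X_le J).trans h)
    simp only [hX, h2, if_false]
    ring

end PS

namespace Md

variable {S : PS G p I} {a : Ω} {J : Set I} {V Q : Subgroup G} (h : Md p a (S.D J) S.X V Q)

include h

theorem ncard_inter {b : Ω} (hb : Q ⊓ stabilizer G b = V) {K : Subgroup G} (hK : K ≤ S.D J) (h1 : K ≤ stabilizer G b) :
    ((Orb Q b ∩ Fx K).ncard : ℚ) * Nat.card V = Nat.card (Cm Q V K) := by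
  rw [Orb_inter_Fx hb h.nm h1 fun k hk => h.nQ k (hK hk)]
  exact_mod_cast ncard_Orb_reg hb (h.V_le_Cm hK) Cm_le

/-- the linear count for two nodes -/
theorem cnt2 {j k : I} (hne : j ≠ k) (hj : j ∈ J) (hk : k ∈ J) :
    (Nat.card (Cm Q V (S.V {j, k})) : ℚ) = S.W {j, k} * (Nat.card (Cm Q V S.X) +
      (1 / S.W {j} - 1) * Nat.card (Cm Q V (S.D {j})) + (1 / S.W {k} - 1) * Nat.card (Cm Q V (S.D {k})) +
      (1 / S.W {j, k} - 1 / S.W {j} - 1 / S.W {k} + 1) * Nat.card (Cm Q V (S.D {j, k}))) := by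
  have h1 := h.restrict (Set.pair_subset hj hk)
  have h2 := S.cnt2 hne (finite_Orb (Cm Q V (S.V {j, k})) a)
    (fun g hg b hb => smul_mem_Orb_nm (h1.nQ g hg) ((show g • a = a from h1.fix hg).symm ▸ self_mem_Orb _ _) hb)
    (by rintro _ ⟨w, hw, rfl⟩; exact h1.cov w hw)
  have e : ∀ L : Set I, L ⊆ {j, k} → ((Orb (Cm Q V (S.V {j, k})) a ∩ Fx (S.D L)).ncard : ℚ) * Nat.card V =
      Nat.card (Cm Q V (S.D L)) := fun L hL => by
    rw [h1.ncard_inter h1.reg (S.mono hL) ((S.mono hL).trans h1.fix), Cm_Cm ((S.V_le _).trans (S.X_le _))]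
  have e0 := e ∅ (Set.empty_subset _)
  rw [S.D_empty] at e0
  rw [← e0, ← e {j} (by simp), ← e {k} (by simp), ← e {j, k} subset_rfl,
    ← ncard_Orb_reg h1.reg h1.V_le le_rfl, Nat.cast_mul, h2]
  ring

theorem Cm_pair {j k : I} (hj : j ∈ J) (hk : k ∈ J) :
    Cm Q V (S.D {j, k}) = Cm Q V (S.D {j}) ⊓ Cm Q V (S.D {k}) :=
  le_antisymm (le_inf (Cm_anti (S.mono (by simp))) (Cm_anti (S.mono (by simp)))) fun w hw =>
    h.mem_D_of (Set.pair_subset hj hk) (Cm_anti (S.X_le _) hw.1) (by rintro i (rfl | rfl); exacts [hw.1, hw.2])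

/-- **RANK2** -/
theorem rank2 {j k : I} (hne : j ≠ k) (hj : j ∈ J) (hk : k ∈ J) (sj : S.Split j) (sk : S.Split k)
    (aj : S.Act V Q j) (ak : S.Act V Q k) :
    ¬ S.Adj j k ∧ ∀ z ∈ Cm Q V S.X, ∃ u ∈ Cm Q V (S.D {j}), ∃ v ∈ Cm Q V (S.D {k}), z = u * v := by
  obtain ⟨s, hs, h1⟩ := sj.exists_pow
  obtain ⟨t, ht, h2⟩ := sk.exists_pow
  obtain ⟨e, h3, he⟩ := S.rk2 j k hne sj sk
  have h3' : S.W {j, k} = (p ^ s + 1) * (p ^ t + 1) + p ^ s * p ^ t * e := by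
    have h4 : S.W {j, k} = S.W {j} * S.W {k} + (S.W {j} - 1) * (S.W {k} - 1) * e := h3
    rwa [h1, h2, Nat.add_sub_cancel, Nat.add_sub_cancel] at h4
  have h4 := h.cnt2 hne hj hk
  have h5 := (h.card_X hj sj aj h1).1
  have h6 := (h.card_X hk sk ak h2).1
  obtain ⟨n, hn⟩ := relIndex_eq_pow (A := Cm Q V (S.D {j, k})) (h.isP.to_le (Cm_le (V := V) (K := S.V {j, k})))
  obtain ⟨c, hc⟩ := relIndex_eq_pow (A := Cm Q V (S.D {j, k})) (h.isP.to_le (Cm_le (V := V) (K := S.X)))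
  have h7 := card_mul_relIndex (Cm_anti (Q := Q) (V := V) ((S.V_le {j, k}).trans (S.X_le {j, k})))
  have h8 := card_mul_relIndex (Cm_anti (Q := Q) (V := V) (S.X_le {j, k}))
  have i1 : (Cm Q V (S.D {j})).relIndex (Cm Q V S.X) = p ^ s := Nat.eq_of_mul_eq_mul_left Nat.card_pos
    ((card_mul_relIndex (Cm_anti (S.X_le {j}))).trans (h5.trans (mul_comm _ _)))
  have i2 : (Cm Q V (S.D {k})).relIndex (Cm Q V S.X) = p ^ t := Nat.eq_of_mul_eq_mul_left Nat.card_pos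
    ((card_mul_relIndex (Cm_anti (S.X_le {k}))).trans (h6.trans (mul_comm _ _)))
  have h9 : c ≤ s + t := (Nat.pow_le_pow_iff_right hp.1.one_lt).1 (by
    rw [← hc, h.Cm_pair hj hk, pow_add, ← i1, ← i2]
    exact Subgroup.relIndex_inf_le)
  rw [hn] at h7
  rw [hc] at h8
  have hp0 : (0 : ℚ) < p := by exact_mod_cast hp.1.pos
  have h10 : (Nat.card (Cm Q V (S.D {j})) : ℚ) = Nat.card (Cm Q V (S.D {j, k})) * p ^ c / p ^ s := by
    rw [eq_div_iff (by (clear * - hp0; positivity)), mul_comm]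
    exact_mod_cast (h8.trans h5).symm
  have h11 : (Nat.card (Cm Q V (S.D {k})) : ℚ) = Nat.card (Cm Q V (S.D {j, k})) * p ^ c / p ^ t := by
    rw [eq_div_iff (by (clear * - hp0; positivity)), mul_comm]
    exact_mod_cast (h8.trans h6).symm
  have h12 : (0 : ℚ) < Nat.card (Cm Q V (S.D {j, k})) := by exact_mod_cast Nat.card_pos
  have h13 : (0 : ℚ) < S.W {j, k} := by exact_mod_cast S.W_pos _
  rw [h10, h11, ← h7, ← h8, h1, h2] at h4
  push_cast at h4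
  have h14 : ((p : ℚ) ^ n - 1) * ((p ^ s + 1) * (p ^ t + 1)) = S.W {j, k} * (p ^ c + 1) * (p ^ s * p ^ t - 1) := by
    field_simp at h4
    have h15 : (0 : ℚ) < p ^ s * p ^ t := by (clear * - hp0; positivity)
    apply mul_left_cancel₀ h15.ne'
    linarith only [h4]
  rw [h3'] at h14
  obtain ⟨h15, rfl⟩ := arith_rank2 (n := n) hp.1 hs ht h9 he (by exact_mod_cast h14)
  refine ⟨fun h16 => h16.2 (by simpa using h3), fun z hz => exists_mul_of_relIndex (Cm_anti (S.X_le _)) ?_ hz⟩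
  have h16 := Subgroup.relIndex_mul_relIndex (Cm Q V (S.D {j, k})) (Cm Q V (S.D {j})) (Cm Q V S.X)
    (Cm_anti (S.mono (by simp))) (Cm_anti (S.X_le _))
  rw [hc, i1, h15, pow_add, h.Cm_pair hj hk, Subgroup.inf_relIndex_left, mul_comm] at h16
  rw [i2]
  exact Nat.eq_of_mul_eq_mul_left (pow_pos hp.1.pos s) h16

/-- **AFF2** -/
theorem aff2 {T : Subgroup G} {m : ℕ} (hS : S.At T a) (A : Amb Ω T p m) (hs : Semi Ω V Q) {j k : I} (hj : j ∈ J)
    (hk : k ∈ J) (sj : S.Split j) (aj : S.Act V Q j) (ak : ¬ S.Act V Q k) (adj : S.Adj j k) {b : Ω}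
    (hX : S.X ≤ stabilizer G b) (hV : V ≤ stabilizer G b) : S.D {k} ≤ stabilizer G b := by
  have ak' : Cm Q V (S.D {k}) = Cm Q V S.X := le_antisymm (Cm_anti (S.X_le _)) (not_not.1 ak)
  have key : ∀ {z : G} {c : Ω}, z ∈ Cm Q V S.X → V ≤ stabilizer G c → S.D {k} ≤ stabilizer G (z • c) →
      S.D {k} ≤ stabilizer G c := fun {z c} hz h1 h2 => by
    have h3 := le_stab_smul (nm_inv (nm_sup_of_Cm (ak' ▸ hz))) (sup_le h2 (le_stab_smul hz.2.1 h1))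
    rw [inv_smul_smul] at h3
    exact le_sup_left.trans h3
  obtain ⟨z, hz, hc⟩ := h.aff hS A hs hj sj aj hX hV
  refine key hz hV (by_contra fun hck => ?_)
  have hcV := le_stab_smul hz.2.1 hV
  generalize z • b = c at hc hck hcV
  have hcX : S.X ≤ stabilizer G c := (S.X_le _).trans hc
  have h1 := h.restrict (Set.pair_subset hj hk)
  have hr := hs.mono h1.V_le Cm_le c hcV
  obtain ⟨n, hn0, hn⟩ := sj.exists_pow
  obtain ⟨h2, h3⟩ := h.card_X hj sj aj hn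
  have h4 := h.cnt2 adj.1 hj hk
  rw [h.Cm_pair hj hk, ak', inf_of_le_left (Cm_anti (S.X_le _)), h2, hn] at h4
  have hC : (0 : ℚ) < Nat.card (Cm Q V (S.D {j})) := by exact_mod_cast Nat.card_pos
  have hW : (0 : ℚ) < S.W {j, k} := by exact_mod_cast S.W_pos _
  have hk3 : (3 : ℚ) ≤ S.W {k} := by exact_mod_cast S.three_le k
  have hq : (2 : ℚ) ≤ (p : ℚ) ^ n := by exact_mod_cast Nat.one_lt_pow hn0.ne' hp.1.one_lt
  have hWle : ((p : ℚ) ^ n + 1) * S.W {k} ≤ S.W {j, k} := by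
    have h5 := S.W_mul_le (Set.disjoint_singleton.2 adj.1)
    rw [hn] at h5
    exact_mod_cast h5
  have hcov : ∀ w ∈ Cm Q V (S.V {j, k}), ∃ P ∈ S.Syl {j, k}, P ≤ stabilizer G (w • c) := fun w hw =>
    hS.exists_Syl_V A ((mem_Cm_iff (hs c hcV) h.nm ((S.V_le _).trans hcX)
      fun k hk => h.nQ k (S.X_le J (S.V_le _ hk))).1 hw).2
  let K : Subgroup G :=
    { carrier := {g | cj g (Cm Q V (S.V {j, k})) = Cm Q V (S.V {j, k}) ∧ g • c ∈ Orb (Cm Q V (S.V {j, k})) c}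
      one_mem' := ⟨cj_one _, (one_smul G c).symm ▸ self_mem_Orb _ _⟩
      mul_mem' := fun {x y} hx hy => ⟨nm_mul hx.1 hy.1, (mul_smul x y c).symm ▸ smul_mem_Orb_nm hx.1 hx.2 hy.2⟩
      inv_mem' := fun {x} hx => ⟨nm_inv hx.1, by
        obtain ⟨w, hw, h5⟩ := hx.2
        exact ⟨x⁻¹ * w⁻¹ * x, nm_conj' hx.1 (inv_mem hw), by rw [mul_smul, ← h5, mul_smul, inv_smul_smul]⟩⟩ }
  have hK : ∀ g ∈ S.D {j, k}, ∀ w ∈ Cm Q V (S.V {j, k}), g • w • c = w • c → g ∈ K := fun g hg w hw h5 =>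
    ⟨h1.nQ g hg, g * w⁻¹ * g⁻¹ * w, mul_mem (nm_conj (h1.nQ g hg) (inv_mem hw)) hw, by
      rw [mul_smul, ← h5, mul_smul, inv_smul_smul, mul_smul, inv_smul_smul]⟩
  have hjK : S.D {j} ≤ K := fun g hg => hK g (S.mono (by simp) hg) 1 (one_mem _) (by rw [one_smul]; exact hc hg)
  have hXK : S.X ≤ K := (S.X_le _).trans hjK
  push_cast at h4
  by_cases hkK : S.D {k} ≤ K
  · have h5 : S.D {j, k} ≤ K := S.D_le hXK (by rintro i (rfl | rfl); exacts [hjK, hkK])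
    have h6 := S.cnt2 adj.1 (finite_Orb (Cm Q V (S.V {j, k})) c)
      (fun g hg b hb => smul_mem_Orb_nm (h5 hg).1 (h5 hg).2 hb) (by rintro _ ⟨w, hw, rfl⟩; exact hcov w hw)
    have h7 : Orb (Cm Q V (S.V {j, k})) c ∩ Fx (S.D {k}) = ∅ := Set.eq_empty_of_forall_notMem (by
      rintro _ ⟨⟨w, hw, rfl⟩, h7⟩
      exact hck (key ((mem_Cm_iff (hs c hcV) h.nm hcX fun k hk => h.nQ k (S.X_le J hk)).2
        ⟨hw.1, (S.X_le _).trans h7⟩) hcV h7))
    have h8 : Orb (Cm Q V (S.V {j, k})) c ∩ Fx (S.D {j, k}) = ∅ :=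
      Set.eq_empty_of_forall_notMem fun d hd => Set.notMem_empty d (h7 ▸ ⟨hd.1, (S.mono (by simp)).trans hd.2⟩)
    have e1 := h1.ncard_inter hr (S.X_le _) hcX
    have e2 := h1.ncard_inter hr (K := S.D {j}) (S.mono (by simp)) hc
    have e3 : ((Orb (Cm Q V (S.V {j, k})) c).ncard : ℚ) * Nat.card V = Nat.card (Cm Q V (S.V {j, k})) := by
      exact_mod_cast ncard_Orb_reg hr h1.V_le le_rfl
    rw [Cm_Cm (S.V_le _), h2] at e1
    rw [Cm_Cm ((S.V_le _).trans (S.X_le _))] at e2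
    rw [h7, h8, Set.ncard_empty, hn] at h6
    push_cast at h6 e1
    have h9 : (Nat.card (Cm Q V (S.V {j, k})) : ℚ) =
        S.W {j, k} * (p ^ n + (1 / (p ^ n + 1) - 1)) * Nat.card (Cm Q V (S.D {j})) := by
      rw [← e3, h6]
      linear_combination (S.W {j, k} : ℚ) * e1 + (S.W {j, k} : ℚ) * (1 / (p ^ n + 1) - 1) * e2
    rw [h9] at h4
    have h10 : (S.W {j, k} : ℚ) * (S.W {k} + (p ^ n - 1) * (S.W {k} - 1) * (p ^ n + 1)) = S.W {k} * (p ^ n + 1) := by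
      field_simp at h4
      linarith only [h4]
    have h11 : (0 : ℚ) ≤ (p ^ n - 1) * (S.W {k} - 1) * (p ^ n + 1) := by
      have : (0 : ℚ) ≤ p ^ n - 1 := by linarith only [hq]
      have : (0 : ℚ) ≤ S.W {k} - 1 := by linarith only [hk3]
      positivity
    nlinarith only [hW, hk3, hWle, h10, h11]
  · have h5 : Cm Q V (S.V {j, k}) = Cm Q V (S.V {j}) := le_antisymm (fun w hw => by
      obtain ⟨P, hP, h5⟩ := hcov w hw
      have h6 := S.mem_Syl_inter (S.mem_Syl_typ hXK (S.Syl_mono (Set.subset_univ _) hP)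
        fun g hg => hK g (S.Syl_le hP hg) w hw (h5 hg)) hP
      have h7 : P ∈ S.Syl {j} := S.Syl_mono (fun i hi => hi.2.elim id fun h7 => absurd
        ((show i = k from h7) ▸ hi.1) hkK) h6
      exact (mem_Cm_iff (hs c hcV) h.nm ((S.V_le _).trans hcX) fun k hk => h.nQ k (S.X_le J (S.V_le _ hk))).2
        ⟨hw.1, (rad_le h7).trans h5⟩) (Cm_anti (S.V_anti (by simp)))
    rw [h5, h3] at h4
    push_cast at h4
    refine adj.2 ?_
    have h6 : (S.W {j, k} : ℚ) = (p ^ n + 1) * S.W {k} := by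
      field_simp at h4
      apply mul_left_cancel₀ (show ((p : ℚ) ^ n - 1) * (p ^ n + 1) ≠ 0 from mul_ne_zero (by linarith only [hq]) (by linarith only [hq]))
      linarith only [h4]
    show S.W {j, k} = S.W {j} * S.W {k}
    rw [hn]
    exact_mod_cast h6

end Md

/-- the stabiliser in `N_{G_a}(X)` of `b` -/
abbrev BH (a b : Ω) (X : Subgroup G) : Subgroup G :=
  stabilizer G a ⊓ stabilizer G b ⊓ Subgroup.normalizer (X : Set G)

/-- **PT**: comparison of two fixed points of `X` -/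
theorem PS.At.pt {T : Subgroup G} {m : ℕ} {a : Ω} {S : PS G p I} (h : S.At T a) (A : Amb Ω T p m) {y z : Ω}
    (hy : y ≠ a) (hz : z ≠ a) (hXy : S.X ≤ stabilizer G y) (hXz : S.X ≤ stabilizer G z) {c : ℕ}
    (hc : c * S.W (S.typ (stabilizer G z)) ≤ S.W (S.typ (stabilizer G y))) {β : Type*} (f : G → β) (B : Set β)
    (hB : B.Finite) (h1 : ∀ g ∈ BH a z S.X, f g ∈ B)
    (h2 : ∀ g ∈ BH a z S.X, ∀ g' ∈ BH a z S.X, f g = f g' → (g⁻¹ * g') • y = y) : c ≤ B.ncard := by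
  have h3 := card_le_mul (B := BH a z S.X) (B' := BH a y S.X) f B hB h1 fun g hg g' hg' h4 =>
    ⟨⟨(mul_mem (inv_mem hg) hg').1.1, h2 g hg g' hg' h4⟩, (mul_mem (inv_mem hg) hg').2⟩
  have h4 := (h.m_eq A hy hXy).trans (h.m_eq A hz hXz).symm
  have h5 : 0 < Nat.card (BH a y S.X) := Nat.card_pos
  have h6 := S.W_pos (S.typ (stabilizer G z))
  have h7 := (Nat.mul_le_mul_right _ hc).trans (h4.le.trans (Nat.mul_le_mul_left _ h3))
  rw [← mul_assoc, mul_comm c] at h7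
  exact Nat.le_of_mul_le_mul_left (Nat.le_of_mul_le_mul_right h7 h5) h6

end Cfsg.Agent.TH.Own
end

-- part: TH/Own/Lab
section
/-!
# S3541, `BoxOne`: labels and atoms (helper74)

`N_G(X)` permutes the labels `Y i`; `atm g k` is the group of rank one with label `k` at the good point `g a`.
-/

set_option autoImplicit false
set_option linter.unusedSectionVars false
set_option linter.unusedVariables false

namespace Cfsg.Agent.TH.Own

open MulAction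

variable {G : Type*} [Group G] {p : ℕ} {I : Type*}

namespace FS

variable (F : FS G p I)

open Classical in
/-- the action of `N_G(X)` on the labels -/
noncomputable def lab (g : G) (i : I) : I := if h : ∃ k, cj g (F.Y i) = F.Y k then h.choose else i

/-- the atom with label `k` at the point `g a` -/
noncomputable def atm (g : G) (k : I) : Subgroup G := cj g (F.D {F.lab g⁻¹ k})

/-- the nodes whose group fixes `b` -/
abbrev J {Ω : Type*} [MulAction G Ω] (b : Ω) : Set I := F.toPS.typ (stabilizer G b)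

variable {F}

theorem mem_J {Ω : Type*} [MulAction G Ω] {b : Ω} {i : I} : i ∈ F.J b ↔ F.D {i} ≤ stabilizer G b := Iff.rfl

theorem lab_eq {g : G} {i k : I} (h : cj g (F.Y i) = F.Y k) : F.lab g i = k := by
  have h1 : ∃ k, cj g (F.Y i) = F.Y k := ⟨k, h⟩
  rw [lab, dif_pos h1]
  exact F.y3 _ _ (h1.choose_spec.symm.trans h).le

theorem lab_one (i : I) : F.lab 1 i = i := lab_eq (cj_one _)

theorem atm_one (k : I) : F.atm 1 k = F.D {k} := by rw [atm, inv_one, lab_one, cj_one]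

theorem le_Y {i : I} {Z P : Subgroup G} (h1 : Z ≤ F.X) (h2 : ∀ x ∈ F.X, cj x Z = Z) (hP : P ∈ F.toPS.Syl {i})
    (hne : P ≠ F.X) (h3 : Z ≤ P) : Z ≤ F.Y i := by
  obtain ⟨k, hk, h4⟩ := F.y2 {i} Z h1 h2 P hP hne h3
  rwa [show k = i from hk] at h4

theorem V_le_Y (i : I) : F.toPS.V {i} ≤ F.Y i := by
  obtain ⟨P, hP, hne⟩ := F.toPS.exists_ne i
  exact le_Y (F.toPS.V_le _) (fun x hx => F.toPS.nm_V (F.toPS.X_le _ hx)) hP hne (rad_le hP)

end FS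

/-- the hypotheses of `BoxOne` -/
structure Cx (F : FS G p I) {Ω : Type*} [MulAction G Ω] (T : Subgroup G) (m : ℕ) (a : Ω) : Prop where
  A : Amb Ω T p m
  h : F.At T a

namespace Cx

variable {Ω : Type*} [MulAction G Ω] {F : FS G p I} {T : Subgroup G} {m : ℕ} {a : Ω} [Finite G] [hp : Fact p.Prime]
  (c : Cx F T m a)

include c

theorem S : F.toPS.At T a := c.h.toAt

theorem conj (g : G) : Cx (F.conj g) T m (g • a) :=
  have := c.A.nrm
  ⟨c.A, c.h.conj g⟩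

theorem X_fix {g : G} (hg : cj g F.X = F.X) : F.X ≤ stabilizer G (g • a) := le_stab_smul hg c.S.X_fix

theorem Y_le {g : G} (hg : cj g F.X = F.X) (i : I) : ∃ k, F.Y i ≤ cj g (F.Y k) := by
  have h1 := (c.conj g).S
  have hX : (F.conj g).X = F.X := hg
  obtain ⟨_, ⟨e, he, rfl⟩, hne, h2⟩ := F.y1 i
  obtain ⟨R, hR, h3, h4⟩ : ∃ R ∈ (F.conj g).toPS.Syl Set.univ, R ≠ F.X ∧ F.Y i ≤ R := by
    by_cases h3 : F.D {i} ≤ stabilizer G (g • a)
    · exact ⟨_, h1.cj_mem_Syl (h3 he) ((F.conj g).toPS.X_mem _), hX.symm ▸ hne, hX.symm ▸ h2⟩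
    have h4 : cj e F.X ≤ stabilizer G (e • g • a) := cj_le_stab.2 (c.X_fix hg)
    obtain ⟨R, hR, h5, h6⟩ := h1.exists_Syl c.A (F.isP.to_le (F.Y_le i))
      ((F.Y_le i).trans (hX.ge.trans ((F.conj g).toPS.X_le _))) (h2.trans h4)
    refine ⟨R, hR, fun h7 => h3 ?_, h5⟩
    have h8 := F.toPS.D_le_of_two ⟨e, he, rfl⟩ hne (h7 ▸ h6) h4
    rwa [← cj_of_mem he, cj_le_stab] at h8
  obtain ⟨k, -, h5⟩ := (F.conj g).y2 Set.univ (F.Y i) (hX.symm ▸ F.Y_le i) (hX.symm ▸ F.Y_nrm i) R hR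
    (hX.symm ▸ h3) h4
  exact ⟨k, h5⟩

theorem cj_Y {g : G} (hg : cj g F.X = F.X) (i : I) : cj g (F.Y i) = F.Y (F.lab g i) := by
  obtain ⟨k, h1⟩ := c.Y_le (nm_inv hg) i
  obtain ⟨l, h2⟩ := c.Y_le hg k
  have h3 : F.Y i ≤ F.Y l := by
    have h4 := h1.trans (cj_mono _ h2)
    rwa [cj_inv_cj] at h4
  have h4 : cj g (F.Y i) = F.Y k := le_antisymm ((cj_le_iff g).2 h1) (by rw [F.y3 i l h3]; exact h2)
  rw [FS.lab_eq h4, h4]

theorem lab_mul {g g' : G} (hg : cj g F.X = F.X) (hg' : cj g' F.X = F.X) (i : I) :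
    F.lab (g * g') i = F.lab g (F.lab g' i) := FS.lab_eq (by rw [cj_mul, c.cj_Y hg', c.cj_Y hg])

theorem lab_inv_lab {g : G} (hg : cj g F.X = F.X) (i : I) : F.lab g⁻¹ (F.lab g i) = i := by
  rw [← c.lab_mul (nm_inv hg) hg, inv_mul_cancel, FS.lab_one]

theorem lab_lab_inv {g : G} (hg : cj g F.X = F.X) (i : I) : F.lab g (F.lab g⁻¹ i) = i := by
  rw [← c.lab_mul hg (nm_inv hg), mul_inv_cancel, FS.lab_one]

theorem lab_inj {g : G} (hg : cj g F.X = F.X) {i k : I} (h : F.lab g i = F.lab g k) : i = k := by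
  rw [← c.lab_inv_lab hg i, h, c.lab_inv_lab hg]

theorem lab_of_cj {g : G} (hg : cj g F.X = F.X) {i k : I} (h : cj g (F.D {i}) = F.D {k}) : F.lab g i = k := by
  obtain ⟨P, hP, hne, h1⟩ := F.y1 i
  refine F.y3 _ _ (FS.le_Y (F.Y_le _) (F.Y_nrm _) (P := cj g P) ?_ (fun h2 => hne (cj_inj g (h2.trans hg.symm))) ?_)
  · show _ ∈ Cjs (F.D {k}) F.X
    rw [← h, ← hg]
    exact cj_mem_Cjs_cj.2 hP
  · rw [← c.cj_Y hg]
    exact cj_mono g h1

theorem lab_of_nm_V {g : G} (hg : cj g F.X = F.X) {j : I} (h : cj g (F.toPS.V {j}) = F.toPS.V {j}) :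
    F.lab g j = j := by
  obtain ⟨P, hP, hne, h1⟩ := F.y1 (F.lab g j)
  by_contra h2
  refine hne (F.toPS.eq_X_of_disjoint (Set.disjoint_singleton.2 h2) hP
    (F.vx _ P (F.toPS.Syl_mono (Set.subset_univ _) hP) (le_trans ?_ h1)))
  rw [← c.cj_Y hg]
  exact h.ge.trans (cj_mono g (FS.V_le_Y j))

theorem cj_D {g : G} (ha : g • a = a) (hg : cj g F.X = F.X) (i : I) : cj g (F.D {i}) = F.D {F.lab g i} := by
  obtain ⟨k, hk⟩ := F.toPS.exists_perm (c.S.nrmH g ha) hg i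
  rw [c.lab_of_cj hg hk, hk]

theorem lab_E {g : G} (he : g ∈ F.D Set.univ) (hg : cj g F.X = F.X) (i : I) : F.lab g i = i :=
  c.lab_of_cj hg (F.nrm g he hg _)

theorem cj_D_set {g : G} (ha : g • a = a) (hg : cj g F.X = F.X) {J L : Set I} (h : ∀ i, i ∈ J ↔ F.lab g i ∈ L) :
    cj g (F.D J) = F.D L :=
  F.toPS.cj_D_eq hg (fun i hi => ⟨_, (h i).1 hi, c.cj_D ha hg i⟩) fun k hk =>
    ⟨F.lab g⁻¹ k, (h _).2 (by rwa [c.lab_lab_inv hg]), by rw [c.cj_D ha hg, c.lab_lab_inv hg]⟩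

theorem lab_mem_J {g : G} (ha : g • a = a) (hg : cj g F.X = F.X) {b : Ω} {i : I} :
    F.lab g i ∈ F.J (g • b) ↔ i ∈ F.J b := by
  rw [FS.mem_J, ← c.cj_D ha hg, cj_le_stab, FS.mem_J]

theorem adj_lab {g : G} (ha : g • a = a) (hg : cj g F.X = F.X) {i k : I} (h : F.toPS.Adj i k) :
    F.toPS.Adj (F.lab g i) (F.lab g k) := F.toPS.adj_of_cj hg (c.cj_D ha hg i) (c.cj_D ha hg k) h

theorem atm_lab {g : G} (hg : cj g F.X = F.X) (i : I) : F.atm g (F.lab g i) = cj g (F.D {i}) := by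
  rw [FS.atm, c.lab_inv_lab hg]

theorem atm_mul {g g' : G} (hg : cj g F.X = F.X) (hg' : cj g' F.X = F.X) (k : I) :
    F.atm (g * g') k = cj g (F.atm g' (F.lab g⁻¹ k)) := by
  rw [FS.atm, FS.atm, mul_inv_rev, c.lab_mul (nm_inv hg') (nm_inv hg), cj_mul]

theorem cj_atm {g g' : G} (hg : cj g F.X = F.X) (hg' : cj g' F.X = F.X) (k : I) :
    cj g (F.atm g' k) = F.atm (g * g') (F.lab g k) := by
  rw [c.atm_mul hg hg', c.lab_inv_lab hg]

theorem atm_H {g : G} (ha : g • a = a) (hg : cj g F.X = F.X) (k : I) : F.atm g k = F.D {k} := by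
  rw [FS.atm, c.cj_D ha hg, c.lab_lab_inv hg]

theorem atm_congr {g g' : G} (hg : cj g F.X = F.X) (hg' : cj g' F.X = F.X) (h : g • a = g' • a) (k : I) :
    F.atm g k = F.atm g' k := by
  have h1 := nm_mul (nm_inv hg) hg'
  rw [← mul_inv_cancel_left g g', c.atm_mul hg h1, c.atm_H (by rw [mul_smul, ← h, inv_smul_smul]) h1, FS.atm]

theorem atm_fix (g : G) (k : I) : F.atm g k ≤ stabilizer G (g • a) := cj_le_stab.2 (c.S.D_fix _)

/-- a group `D {k}` which fixes a good point is an atom of it -/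
theorem mem_J_iff {g : G} (hg : cj g F.X = F.X) {k : I} : k ∈ F.J (g • a) ↔ F.atm g k = F.D {k} := by
  refine ⟨fun h => ?_, fun h => h.ge.trans (c.atm_fix g k)⟩
  have h1 := (c.conj g).S
  have hX : (F.conj g).X = F.X := hg
  obtain ⟨_, ⟨e, he, rfl⟩, hne⟩ := F.toPS.exists_ne k
  have h2 := (F.conj g).toPS.mem_Syl_typ (K := F.D {k}) (hX.le.trans (F.toPS.X_le _))
    (h1.cj_mem_Syl (h he) ((F.conj g).toPS.X_mem _)) (hX.symm ▸ F.toPS.Syl_le ⟨e, he, rfl⟩)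
  obtain ⟨i, hi⟩ : ((F.conj g).toPS.typ (F.D {k})).Nonempty := Set.nonempty_iff_ne_empty.2 fun h3 => by
    rw [h3] at h2
    have h4 := (F.conj g).toPS.Syl_empty h2
    rw [hX] at h4
    exact hne h4
  obtain ⟨P, hP, h3⟩ := (F.conj g).toPS.exists_ne i
  have h4 : P ≤ (F.conj g).D {i} := (F.conj g).toPS.Syl_le hP
  have h5 : P ∈ F.toPS.Syl {k} := (F.toPS.maxD {k}).mem_Cjs ((F.toPS.maxD {k}).of_card ((F.conj g).toPS.Syl_isP hP)
    (h4.trans hi) (by rw [card_of_mem_Cjs hP, hX]))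
  have h6 : cj g (F.D {i}) = F.D {k} :=
    le_antisymm hi (F.toPS.D_le_of_two h5 (hX ▸ h3) (hX.ge.trans ((F.conj g).toPS.X_le _)) h4)
  rw [← c.lab_of_cj hg h6, c.atm_lab hg, c.lab_of_cj hg h6, h6]

theorem atm_fix_iff {g g' : G} (hg : cj g F.X = F.X) (hg' : cj g' F.X = F.X) {k : I} :
    F.atm g' k ≤ stabilizer G (g • a) ↔ F.atm g k = F.atm g' k := by
  refine ⟨fun h => ?_, fun h => h.ge.trans (c.atm_fix g k)⟩
  rw [FS.atm, cj_le_stab', ← mul_smul] at h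
  have h1 := (c.mem_J_iff (nm_mul (nm_inv hg') hg)).1 h
  rw [c.atm_mul (nm_inv hg') hg, inv_inv, c.lab_lab_inv hg'] at h1
  rw [FS.atm.eq_1 F g', ← h1, cj_cj_inv]

/-- a good point is determined by its atoms -/
theorem smul_eq_of_atm {g g' : G} (hg : cj g F.X = F.X) (hg' : cj g' F.X = F.X) (h : ∀ k, F.atm g k = F.atm g' k) :
    g • a = g' • a := by
  have h1 := nm_mul (nm_inv hg') hg
  have h2 : ∀ k, F.atm (g'⁻¹ * g) k = F.D {k} := fun k => by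
    rw [c.atm_mul (nm_inv hg') hg, h, inv_inv, c.atm_lab hg', cj_inv_cj]
  have h3 := c.S.smul_eq c.A (F.toPS.cj_D_eq h1 (J := Set.univ) (L := Set.univ)
    (fun i _ => ⟨_, trivial, by rw [← c.atm_lab h1, h2]⟩) fun k _ => ⟨_, trivial, h2 k⟩)
  rwa [mul_smul, inv_smul_eq_iff] at h3

theorem eq_of_J {g : G} (hg : cj g F.X = F.X) (h : ∀ k, k ∈ F.J (g • a)) : g • a = a := by
  have h1 := c.smul_eq_of_atm hg (cj_one _) fun k => by rw [FS.atm_one, (c.mem_J_iff hg).1 (h k)]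
  rwa [one_smul] at h1

theorem exists_not_J {g : G} (hg : cj g F.X = F.X) (h : g • a ≠ a) : ∃ k, k ∉ F.J (g • a) :=
  not_forall.1 fun h1 => h (c.eq_of_J hg h1)

/-- the restriction of a word is fixed by the stabiliser of the support -/
theorem fix_of_restrict {g g' : G} (hg : cj g F.X = F.X) (hg' : cj g' F.X = F.X) {A : Set I}
    (h1 : ∀ k ∈ A, F.atm g k = F.atm g' k) (h2 : ∀ k, k ∉ A → k ∈ F.J (g • a)) {h : G} (hh : h ∈ BH a (g' • a) F.X)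
    (h3 : ∀ k, F.lab h⁻¹ k ∈ A ↔ k ∈ A) : h • g • a = g • a := by
  have h4 := nm_iff.1 hh.2
  rw [← mul_smul]
  refine c.smul_eq_of_atm (nm_mul h4 hg) hg fun k => ?_
  rw [c.atm_mul h4 hg]
  by_cases hk : k ∈ A
  · rw [h1 _ ((h3 k).2 hk), ← c.atm_mul h4 hg', h1 k hk]
    exact c.atm_congr (nm_mul h4 hg') hg' ((mul_smul _ _ _).trans hh.1.2) k
  · rw [(c.mem_J_iff hg).1 (h2 _ fun h5 => hk ((h3 k).1 h5)), (c.mem_J_iff hg).1 (h2 k hk), c.cj_D hh.1.1 h4,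
      c.lab_lab_inv h4]

/-- an element of `N(X)` which normalises `D {k}` -/
theorem mem_J_of_nm {g : G} {k : I} (h : cj g (F.D {k}) = F.D {k}) {b : Ω} : k ∈ F.J (g • b) ↔ k ∈ F.J b := by
  rw [FS.mem_J, ← h, cj_le_stab, FS.mem_J]

theorem nm_of_mem_J {g : G} (hg : cj g F.X = F.X) {k : I} (h1 : F.lab g k = k) (h2 : k ∈ F.J (g • a)) :
    cj g (F.D {k}) = F.D {k} := by
  rw [← c.atm_lab hg, h1, (c.mem_J_iff hg).1 h2]

theorem self_mem_J (k : I) : k ∈ F.J a := c.S.D_fix _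

/-- not doubly transitive -/
theorem not_two (h : ∀ b d : Ω, b ≠ a → d ≠ a → F.X ≤ stabilizer G b → F.X ≤ stabilizer G d →
    ∃ g : G, g • a = a ∧ g • b = d) : False := c.A.not_trans F.isP c.S.X_T c.S.X_fix h

end Cx

end Cfsg.Agent.TH.Own
end

-- part: TH/Own/OneA
section
/-!
# S3541, `BoxOne`: orbits of `Np`, their modules, affine nodes (helper74)
-/

set_option autoImplicit false
set_option linter.unusedSectionVars false
set_option linter.unusedVariables false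

namespace Cfsg.Agent.TH.Own

open MulAction

variable {G : Type*} [Group G] {p : ℕ} {I : Type*} {Ω : Type*} [MulAction G Ω]

theorem cj_Op [Finite G] [Fact p.Prime] (g : G) (L : Subgroup G) : cj g (Op p L) = Op p (cj g L) := by
  have key : ∀ (g : G) (L : Subgroup G), cj g (Op p L) ≤ Op p (cj g L) := fun g L => by
    obtain ⟨h1, h2, h3⟩ := Op_spec (p := p) L
    exact le_Op (cj_mono g h1) (isPGroup_cj h2 g) fun x hx => nm_cj_iff.2 (h3 _ (mem_cj.1 hx))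
  refine le_antisymm (key g L) ?_
  have h1 := key g⁻¹ (cj g L)
  rwa [cj_inv_cj, cj_le_iff, inv_inv] at h1

theorem cj_inf_nm {g : G} {X : Subgroup G} (h : cj g X = X) (D : Subgroup G) :
    cj g (D ⊓ Subgroup.normalizer (X : Set G)) = cj g D ⊓ Subgroup.normalizer (X : Set G) := by
  rw [cj_inf, cj_normalizer, h]

theorem Op_eq [Finite G] [Fact p.Prime] {D X M : Subgroup G} (hX : MaxP p D X) (hM : IsPGroup p M) (h1 : X ≤ M)
    (h2 : ∀ d ∈ D ⊓ Subgroup.normalizer (X : Set G), cj d M = M) :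
    Op p (M ⊔ D ⊓ Subgroup.normalizer (X : Set G)) = M := by
  obtain ⟨h3, h4, -⟩ := Op_spec (p := p) (M ⊔ D ⊓ Subgroup.normalizer (X : Set G))
  have h5 := le_Op (le_sup_left : M ≤ M ⊔ D ⊓ Subgroup.normalizer (X : Set G)) hM
    (nm_of_sup (fun x hx => cj_of_mem hx) h2)
  refine le_antisymm (fun o ho => ?_) h5
  obtain ⟨x, hx, d, hd, rfl⟩ := mem_sup_nm' h2 (sup_comm M _ ▸ h3 ho)
  obtain ⟨n, hn⟩ := exists_pow_of_isP h4 ((mul_mem_cancel_left (h5 hx)).1 ho)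
  exact mul_mem hx (h1 (hX.mem_of_nm hn hd.1 (nm_iff.1 hd.2)))

namespace FS

variable (F : FS G p I)

/-- the orbit of a node under `Np` -/
def Ob (T : Subgroup G) (a : Ω) (i : I) : Set I := {k | ∃ g ∈ Np p T a F.X, F.lab g i = k}

/-- the module of an invariant set of nodes -/
structure Mdl (T : Subgroup G) (a : Ω) (J : Set I) (Q : Subgroup G) : Prop where
  md : Md p a (F.D J) F.X (F.toPS.V J) Q
  leT : Q ≤ T
  ne : ¬ Q ≤ F.toPS.V J
  semi : Semi Ω (F.toPS.V J) Q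
  can : ∀ g : G, cj g (F.toPS.V J) = F.toPS.V J → cj g Q = Q

/-- `j` is active in the module `Q` of `J` -/
structure AIn (T : Subgroup G) (a : Ω) (J : Set I) (Q : Subgroup G) (j : I) : Prop extends F.Mdl T a J Q where
  mem : j ∈ J
  act : F.toPS.Act (F.toPS.V J) Q j

/-- the group generated by the atoms -/
noncomputable def YY (j : I) : Subgroup G := ⨆ g : {g : G // cj g F.X = F.X}, F.atm g j

/-- the group generated by the Borel subgroups of the atoms -/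
noncomputable def R1 (j : I) : Subgroup G :=
  ⨆ g : {g : G // cj g F.X = F.X}, F.atm g j ⊓ Subgroup.normalizer (F.X : Set G)

noncomputable def M1 (j : I) : Subgroup G := Op p (F.R1 j)

noncomputable def M2 (j : I) : Subgroup G := Op p (F.YY j ⊓ Subgroup.normalizer (F.X : Set G))

variable (Ω) in
/-- the node `j` is affine with translation group `M / X` -/
structure Aff (T : Subgroup G) (j : I) (M : Subgroup G) : Prop where
  X_le : F.X ≤ M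
  isP : IsPGroup p M
  leT : M ≤ T
  nmX : ∀ w ∈ M, cj w F.X = F.X
  nmV : ∀ w ∈ M, cj w (F.toPS.V {j}) = F.toPS.V {j}
  semi : ∀ b : Ω, F.X ≤ stabilizer G b → ∀ w ∈ M, w • b = b → w ∈ F.X
  ex : ∀ b : Ω, F.X ≤ stabilizer G b → ∃ w ∈ M, j ∈ F.J (w • b)
  uniq : ∀ b : Ω, j ∈ F.J b → ∀ w ∈ M, j ∈ F.J (w • b) → w ∈ F.X
  nmB : ∀ d ∈ F.D {j}, cj d F.X = F.X → cj d M = M
  trans : ∀ w ∈ M, w ∉ F.X → ∀ w' ∈ M, w' ∉ F.X → ∃ d ∈ F.D {j}, cj d F.X = F.X ∧ w'⁻¹ * (d * w * d⁻¹) ∈ F.X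
  ne : ∃ w ∈ M, w ∉ F.X
  three : F.toPS.W {j} ≠ 3 → ∃ w ∈ M, ∃ w' ∈ M, w ∉ F.X ∧ w' ∉ F.X ∧ w⁻¹ * w' ∉ F.X
  two : F.toPS.W {j} = 3 → ∀ w ∈ M, ∀ w' ∈ M, w ∉ F.X → w' ∉ F.X → w⁻¹ * w' ∈ F.X

variable {F}

theorem atm_le_YY {g : G} (hg : cj g F.X = F.X) (j : I) : F.atm g j ≤ F.YY j :=
  le_iSup (fun g : {g : G // cj g F.X = F.X} => F.atm g j) ⟨g, hg⟩

theorem atm_le_R1 {g : G} (hg : cj g F.X = F.X) (j : I) : F.atm g j ⊓ Subgroup.normalizer (F.X : Set G) ≤ F.R1 j :=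
  le_iSup (fun g : {g : G // cj g F.X = F.X} => F.atm g j ⊓ Subgroup.normalizer (F.X : Set G)) ⟨g, hg⟩

end FS

variable {F : FS G p I} {T : Subgroup G} {m : ℕ} {a : Ω} [Finite G] [hp : Fact p.Prime]

namespace Cx

variable (c : Cx F T m a)

include c

theorem self_mem_Ob (i : I) : i ∈ F.Ob T a i := ⟨1, one_mem _, FS.lab_one i⟩

theorem lab_mem_Ob {g : G} (hg : g ∈ Np p T a F.X) {i k : I} (h : k ∈ F.Ob T a i) : F.lab g k ∈ F.Ob T a i := by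
  obtain ⟨x, hx, rfl⟩ := h
  exact ⟨g * x, mul_mem hg hx, c.lab_mul (Np_nm hg) (Np_nm hx) i⟩

theorem Ob_eq {i k : I} (h : k ∈ F.Ob T a i) : F.Ob T a k = F.Ob T a i := by
  refine Set.Subset.antisymm (by rintro _ ⟨g, hg, rfl⟩; exact c.lab_mem_Ob hg h) ?_
  obtain ⟨x, hx, rfl⟩ := h
  rintro _ ⟨g, hg, rfl⟩
  exact c.lab_mem_Ob hg ⟨x⁻¹, inv_mem hx, c.lab_inv_lab (Np_nm hx) i⟩

theorem Ob_symm {i k : I} (h : k ∈ F.Ob T a i) : i ∈ F.Ob T a k := c.Ob_eq h ▸ c.self_mem_Ob i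

theorem Ob_trans {i k l : I} (h : k ∈ F.Ob T a i) (h' : l ∈ F.Ob T a i) : l ∈ F.Ob T a k := c.Ob_eq h ▸ h'

theorem lab_mem_Ob_iff {g : G} (hg : g ∈ Np p T a F.X) {i k : I} : F.lab g k ∈ F.Ob T a i ↔ k ∈ F.Ob T a i :=
  ⟨fun h => c.lab_inv_lab (Np_nm hg) k ▸ c.lab_mem_Ob (inv_mem hg) h, c.lab_mem_Ob hg⟩

theorem lab_Ob {h : G} (ha : h • a = a) (hh : cj h F.X = F.X) {i k : I} :
    F.lab h k ∈ F.Ob T a (F.lab h i) ↔ k ∈ F.Ob T a i := by
  have := c.A.nrm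
  have key : ∀ {h : G}, h • a = a → cj h F.X = F.X → ∀ {i k : I}, k ∈ F.Ob T a i →
      F.lab h k ∈ F.Ob T a (F.lab h i) := by
    rintro h ha hh i _ ⟨g, hg, rfl⟩
    refine ⟨h * g * h⁻¹, nm_conj (nm_Np ha hh) hg, ?_⟩
    rw [c.lab_mul (nm_mul hh (Np_nm hg)) (nm_inv hh), c.lab_inv_lab hh, c.lab_mul hh (Np_nm hg)]
  refine ⟨fun h1 => ?_, key ha hh⟩
  have h2 := key (inv_smul_eq_iff.2 ha.symm) (nm_inv hh) h1
  rwa [c.lab_inv_lab hh, c.lab_inv_lab hh] at h2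

theorem cj_D_compl {h : G} (ha : h • a = a) (hh : cj h F.X = F.X) (i : I) :
    cj h (F.D (F.Ob T a i)ᶜ) = F.D (F.Ob T a (F.lab h i))ᶜ :=
  c.cj_D_set ha hh fun _ => not_congr (c.lab_Ob ha hh).symm

theorem nm_D_compl {g : G} (hg : g ∈ Np p T a F.X) (i : I) : cj g (F.D (F.Ob T a i)ᶜ) = F.D (F.Ob T a i)ᶜ :=
  c.cj_D_set (Np_fix hg) (Np_nm hg) fun _ => not_congr (c.lab_mem_Ob_iff hg).symm

theorem exists_mdl (i : I) : ∃ Q, F.Mdl T a (F.Ob T a i)ᶜ Q := by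
  obtain ⟨Q, h1, h2, h3, h4, h5⟩ := c.h.exists_md c.A (J := (F.Ob T a i)ᶜ)
    (fun h => (show i ∈ (F.Ob T a i)ᶜ from h ▸ trivial) (c.self_mem_Ob i)) fun g hg => c.nm_D_compl hg i
  exact ⟨Q, h1, h2, h3, h4, h5⟩

theorem mdl_cj {J L : Set I} {Q : Subgroup G} (h : F.Mdl T a J Q) {g : G} (ha : g • a = a) (hg : cj g F.X = F.X)
    (h1 : cj g (F.D J) = F.D L) : F.Mdl T a L (cj g Q) := by
  have := c.A.nrm
  have h2 := F.toPS.V_eq_of_cj hg h1
  refine ⟨?_, (cj_mono g h.leT).trans (cj_normal g T).le, fun h3 => h.ne ((cj_le_cj_iff g).1 (h2 ▸ h3)),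
    fun b hb => ?_, fun x hx => nm_cj_iff.2 (h.can _ (nm_cj_iff.1 (h2.symm ▸ hx)))⟩
  · have h3 := h.md.conj g
    rwa [ha, h1, hg, h2] at h3
  · rw [← h2, cj_le_stab'] at hb
    rw [← h2, ← h.semi _ hb, cj_inf, cj_stab, smul_inv_smul]

theorem ain_cj {J L : Set I} {Q : Subgroup G} {j : I} (h : F.AIn T a J Q j) {g : G} (ha : g • a = a)
    (hg : cj g F.X = F.X) (h1 : ∀ i, i ∈ J ↔ F.lab g i ∈ L) : F.AIn T a L (cj g Q) (F.lab g j) := by
  have h2 := c.cj_D_set ha hg h1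
  refine ⟨c.mdl_cj h.toMdl ha hg h2, (h1 j).1 h.mem, ?_⟩
  rw [← F.toPS.V_eq_of_cj hg h2]
  exact h.act.cj hg (c.cj_D ha hg j)

theorem ain_Ob {i j : I} {Q : Subgroup G} (h : F.AIn T a (F.Ob T a i)ᶜ Q j) {g : G} (ha : g • a = a)
    (hg : cj g F.X = F.X) : F.AIn T a (F.Ob T a (F.lab g i))ᶜ (cj g Q) (F.lab g j) :=
  c.ain_cj h ha hg fun _ => not_congr (c.lab_Ob ha hg).symm

/-- the whole orbit is active -/
theorem ain_of_Ob {i j k : I} {Q : Subgroup G} (h : F.AIn T a (F.Ob T a i)ᶜ Q j) (hk : k ∈ F.Ob T a j) :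
    F.AIn T a (F.Ob T a i)ᶜ Q k := by
  obtain ⟨g, hg, rfl⟩ := hk
  have h1 := c.ain_cj (L := (F.Ob T a i)ᶜ) h (Np_fix hg) (Np_nm hg) fun _ => not_congr (c.lab_mem_Ob_iff (i := i) hg).symm
  rwa [h.can g (F.toPS.V_eq_of_cj (Np_nm hg) (c.nm_D_compl hg i))] at h1

theorem cj_YY {g : G} (hg : cj g F.X = F.X) (j : I) : cj g (F.YY j) = F.YY (F.lab g j) := by
  have key : ∀ {g : G}, cj g F.X = F.X → ∀ j, cj g (F.YY j) ≤ F.YY (F.lab g j) := fun {g} hg j => by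
    rw [FS.YY, cj_iSup]
    exact iSup_le fun x => (c.cj_atm hg x.2 j).le.trans (FS.atm_le_YY (nm_mul hg x.2) _)
  refine le_antisymm (key hg j) ?_
  have h1 := key (nm_inv hg) (F.lab g j)
  rwa [c.lab_inv_lab hg, cj_le_iff, inv_inv] at h1

theorem cj_R1 {g : G} (hg : cj g F.X = F.X) (j : I) : cj g (F.R1 j) = F.R1 (F.lab g j) := by
  have key : ∀ {g : G}, cj g F.X = F.X → ∀ j, cj g (F.R1 j) ≤ F.R1 (F.lab g j) := fun {g} hg j => by
    rw [FS.R1, cj_iSup]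
    exact iSup_le fun x => by
      rw [cj_inf, cj_normalizer, hg, c.cj_atm hg x.2 j]
      exact FS.atm_le_R1 (nm_mul hg x.2) _
  refine le_antisymm (key hg j) ?_
  have h1 := key (nm_inv hg) (F.lab g j)
  rwa [c.lab_inv_lab hg, cj_le_iff, inv_inv] at h1

theorem cj_M1 {g : G} (hg : cj g F.X = F.X) (j : I) : cj g (F.M1 j) = F.M1 (F.lab g j) := by
  rw [FS.M1, cj_Op, c.cj_R1 hg, FS.M1]

theorem cj_M2 {g : G} (hg : cj g F.X = F.X) (j : I) : cj g (F.M2 j) = F.M2 (F.lab g j) := by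
  rw [FS.M2, cj_Op, cj_inf, cj_normalizer, hg, c.cj_YY hg, FS.M2]

omit c in
theorem _root_.Cfsg.Agent.TH.Own.FS.M2_le (j : I) : F.M2 j ≤ F.YY j := (Op_spec _).1.trans inf_le_left

end Cx

namespace FS.Mdl

variable {J : Set I} {Q : Subgroup G} (h : F.Mdl T a J Q)

include h

theorem nm_D {L : Set I} (hL : L ⊆ J) {w : G} (hw : w ∈ Cm Q (F.toPS.V J) (F.D L)) : cj w (F.D L) = F.D L :=
  nm_of_Cm hw ((F.toPS.V_le J).trans (F.toPS.X_le L))

theorem nm_X {w : G} (hw : w ∈ Cm Q (F.toPS.V J) F.X) : cj w F.X = F.X := nm_of_Cm hw (F.toPS.V_le J)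

theorem nm_V {L : Set I} (hL : L ⊆ J) {w : G} (hw : w ∈ Cm Q (F.toPS.V J) F.X) :
    cj w (F.toPS.V L) = F.toPS.V L := nm_of_Cm (Cm_anti (F.toPS.V_le L) hw) (F.toPS.V_anti hL)

theorem mem_V {b : Ω} (hb : F.X ≤ stabilizer G b) {w : G} (hw : w ∈ Q) (h1 : w • b = b) : w ∈ F.toPS.V J :=
  (h.semi b ((F.toPS.V_le J).trans hb)).le ⟨hw, h1⟩

theorem mem_Cm_at {b : Ω} {L : Set I} (hL : L ⊆ J) (hb : F.D L ≤ stabilizer G b) {w : G} (hw : w ∈ Q)
    (h1 : F.D L ≤ stabilizer G (w • b)) : w ∈ Cm Q (F.toPS.V J) (F.D L) :=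
  (mem_Cm_iff (h.semi b ((F.toPS.V_le J).trans ((F.toPS.X_le L).trans hb))) h.md.nm hb
    fun k hk => h.md.nQ k (F.mono hL hk)).2 ⟨hw, h1⟩

theorem pas_or : (∀ j ∈ J, ¬ F.toPS.Act (F.toPS.V J) Q j) ∨ ∃ j, F.AIn T a J Q j := by
  by_cases h1 : ∃ j ∈ J, F.toPS.Act (F.toPS.V J) Q j
  · obtain ⟨j, h2, h3⟩ := h1
    exact Or.inr ⟨j, h, h2, h3⟩
  · exact Or.inl fun j h2 h3 => h1 ⟨j, h2, h3⟩

theorem isP_sup : IsPGroup p ↥(F.X ⊔ Q) := Own.isP_sup F.isP h.md.isP fun x hx => h.md.nQ x (F.toPS.X_le J hx)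

end FS.Mdl

namespace FS.AIn

variable {J : Set I} {Q : Subgroup G} {j : I} (h : F.AIn T a J Q j)

include h

theorem sub : {j} ⊆ J := Set.singleton_subset_iff.2 h.mem

theorem split : F.toPS.Split j := FS.split_of_act h.md h.mem h.act

theorem ac : Ac p a (F.D {j}) F.X (F.toPS.V J) (Cm Q (F.toPS.V J) (F.toPS.V {j})) :=
  Md.ac (S := F.toPS) h.md h.mem h.split h.act

theorem e1 : Cm (Cm Q (F.toPS.V J) (F.toPS.V {j})) (F.toPS.V J) F.X = Cm Q (F.toPS.V J) F.X := Cm_Cm (F.toPS.V_le _)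

theorem e2 : Cm (Cm Q (F.toPS.V J) (F.toPS.V {j})) (F.toPS.V J) (F.D {j}) = Cm Q (F.toPS.V J) (F.D {j}) :=
  Cm_Cm ((F.toPS.V_le _).trans (F.toPS.X_le _))

theorem exists_atm (c : Cx F T m a) {g : G} (hg : cj g F.X = F.X) :
    ∃ z ∈ Cm Q (F.toPS.V J) F.X, F.atm g j = cj z (F.D {j}) := by
  obtain ⟨z, hz, h1⟩ := Md.aff (S := F.toPS) h.md c.S c.A h.semi h.mem h.split h.act (c.X_fix hg)
    ((F.toPS.V_le J).trans (c.X_fix hg))
  have h2 := h.toMdl.nm_X hz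
  rw [← mul_smul] at h1
  have h3 := (c.mem_J_iff (nm_mul h2 hg)).1 h1
  rw [c.atm_mul h2 hg, c.lab_of_nm_V (nm_inv h2) (nm_inv (h.toMdl.nm_V h.sub hz))] at h3
  exact ⟨z⁻¹, inv_mem hz, by rw [← h3, cj_inv_cj]⟩

theorem atm_eq (c : Cx F T m a) {z : G} (hz : z ∈ Cm Q (F.toPS.V J) F.X) : F.atm z j = cj z (F.D {j}) := by
  have h2 := h.toMdl.nm_X hz
  rw [← c.atm_lab h2, c.lab_of_nm_V h2 (h.toMdl.nm_V h.sub hz)]

theorem aff_of (c : Cx F T m a) {K : Subgroup G} (h1 : K ≤ Cm Q (F.toPS.V J) F.X)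
    (h2 : ∀ d ∈ F.D {j}, cj d F.X = F.X → cj d K = K) (h3 : ∀ u ∈ K, u ∈ Cm Q (F.toPS.V J) (F.D {j}) → u ∈ F.X)
    (h4 : ∀ z ∈ Cm Q (F.toPS.V J) F.X, ∃ u ∈ K, u⁻¹ * z ∈ Cm Q (F.toPS.V J) (F.D {j})) :
    F.Aff Ω T j (F.X ⊔ K) := by
  have hd : ∀ w ∈ F.X ⊔ K, ∃ u ∈ K, ∃ x ∈ F.X, w = u * x := fun w hw =>
    mem_sup_nm' (fun x hx => h2 x (F.toPS.X_le _ hx) (cj_of_mem hx)) hw
  have h5 : ∀ u ∈ K, u ∈ F.X → u ∈ Cm Q (F.toPS.V J) (F.D {j}) := fun u hu hx =>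
    h.md.V_le_Cm (F.mono h.sub) (h.md.reg.le ⟨(h1 hu).1, c.S.X_fix hx⟩)
  have hac := h.ac
  refine ⟨le_sup_left, h.toMdl.isP_sup.to_le (sup_le_sup_left (h1.trans Cm_le) _),
    sup_le c.S.X_T (h1.trans (Cm_le.trans h.leT)),
    nm_of_sup (fun x hx => cj_of_mem hx) fun u hu => h.toMdl.nm_X (h1 hu),
    nm_of_sup (fun x hx => F.toPS.nm_V (F.toPS.X_le _ hx)) fun u hu => h.toMdl.nm_V h.sub (h1 hu),
    fun b hb w hw h6 => ?_, fun b hb => ?_, fun b hb w hw h6 => ?_, fun d hd h6 => nm_sup h6 (h2 d hd h6),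
    fun w hw h6 w' hw' h7 => ?_, ?_, fun h6 => ?_, fun h6 w hw w' hw' h7 h8 => ?_⟩
  · obtain ⟨u, hu, x, hx, rfl⟩ := hd w hw
    rw [mul_smul, show x • b = b from hb hx] at h6
    exact mul_mem (F.toPS.V_le J (h.toMdl.mem_V hb (h1 hu).1 h6)) hx
  · obtain ⟨z, hz, h6⟩ := Md.aff (S := F.toPS) h.md c.S c.A h.semi h.mem h.split h.act hb ((F.toPS.V_le J).trans hb)
    obtain ⟨u, hu, h7⟩ := h4 _ (inv_mem hz)
    refine ⟨u⁻¹, Subgroup.mem_sup_right (inv_mem hu), ?_⟩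
    have h8 := le_stab_smul (h.toMdl.nm_D h.sub h7) h6
    rwa [← mul_smul, inv_mul_cancel_right] at h8
  · obtain ⟨u, hu, x, hx, rfl⟩ := hd w hw
    rw [mul_smul, show x • b = b from hb (F.toPS.X_le _ hx)] at h6
    exact mul_mem (h3 u hu (h.toMdl.mem_Cm_at h.sub hb (h1 hu).1 h6)) hx
  · obtain ⟨u, hu, x, hx, rfl⟩ := hd w hw
    obtain ⟨u', hu', x', hx', rfl⟩ := hd w' hw'
    obtain ⟨d, hd, h8, h9⟩ := hac.trans (h.e1.ge (h1 hu)) (fun h8 => h6 (mul_mem (h3 u hu (h.e2.le h8)) hx))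
      (h.e1.ge (h1 hu')) (fun h8 => h7 (mul_mem (h3 u' hu' (h.e2.le h8)) hx'))
    refine ⟨d, hd, h8, ?_⟩
    have h10 := mul_mem (mul_mem (inv_mem hx') (h3 _ (mul_mem (inv_mem hu') (nm_conj (h2 d hd h8) hu)) (h.e2.le h9)))
      (nm_conj h8 hx)
    convert h10 using 1
    group
  · obtain ⟨z, hz, h6⟩ := SetLike.not_le_iff_exists.1 h.act
    obtain ⟨u, hu, h7⟩ := h4 z hz
    exact ⟨u, Subgroup.mem_sup_right hu, fun h8 => h6 ((mul_mem_cancel_left (inv_mem (h5 u hu h8))).1 h7)⟩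
  · obtain ⟨z, hz, z', hz', h7, h8, h9⟩ := hac.exists_three h6
    rw [h.e1] at hz hz'
    rw [h.e2] at h7 h8 h9
    obtain ⟨u, hu, h10⟩ := h4 z hz
    obtain ⟨u', hu', h11⟩ := h4 z' hz'
    refine ⟨u, Subgroup.mem_sup_right hu, u', Subgroup.mem_sup_right hu',
      fun h12 => h7 ((mul_mem_cancel_left (inv_mem (h5 u hu h12))).1 h10),
      fun h12 => h8 ((mul_mem_cancel_left (inv_mem (h5 u' hu' h12))).1 h11), fun h12 => h9 ?_⟩
    have h13 := mul_mem (mul_mem (inv_mem h10) (h5 _ (mul_mem (inv_mem hu) hu') h12)) h11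
    convert h13 using 1
    group
  · obtain ⟨u, hu, x, hx, rfl⟩ := hd w hw
    obtain ⟨u', hu', x', hx', rfl⟩ := hd w' hw'
    have h9 := hac.mem_of_two h6 (h.e1.ge (h1 hu)) (h.e1.ge (h1 hu'))
      (fun h9 => h7 (mul_mem (h3 u hu (h.e2.le h9)) hx)) (fun h9 => h8 (mul_mem (h3 u' hu' (h.e2.le h9)) hx'))
    have h10 := mul_mem (mul_mem (inv_mem hx) (h3 _ (mul_mem (inv_mem hu) hu') (h.e2.le h9))) hx'
    convert h10 using 1
    group

/-- `q > 2` -/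
theorem aff1 (c : Cx F T m a) (h3 : F.toPS.W {j} ≠ 3) : F.Aff Ω T j (F.M1 j) := by
  have hac := h.ac
  let B := F.D {j} ⊓ Subgroup.normalizer (F.X : Set G)
  let K := BrG (Cm Q (F.toPS.V J) (F.toPS.V {j})) (F.toPS.V J) F.X B
  have h1 : ∀ d ∈ B, cj d K = K := fun d hd => nm_of_conj fun x hx => conj_mem_BrG hd hx
  have h2 := h.aff_of c (K := K) (hac.BrG_le_Cm.trans h.e1.le) (fun d hd h2 => h1 d ⟨hd, nm_iff.2 h2⟩)
    (fun u hu h2 => F.toPS.V_le J (hac.mem_V_of_BrG hu (h.e2.ge h2))) fun z hz => by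
      have h2 := hac.exists_BrG h3 (h.e1.ge hz)
      rwa [h.e2] at h2
  have h4 : B ≤ F.R1 j := by
    have h4 := FS.atm_le_R1 (cj_one F.X) j
    rwa [FS.atm_one] at h4
  have h5 : F.R1 j = (F.X ⊔ K) ⊔ B := by
    refine le_antisymm (iSup_le fun g => ?_) (sup_le (sup_le ((le_inf (F.toPS.X_le _) Subgroup.le_normalizer).trans h4)
      (BrG_le fun u hu d hd => ?_)) h4)
    · obtain ⟨z, hz, h5⟩ := h.exists_atm c g.2
      rw [h5, ← cj_inf_nm (h.toMdl.nm_X hz)]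
      rintro _ ⟨d, hd, rfl⟩
      have h6 := mul_mem (Subgroup.mem_sup_left (T := B) (Subgroup.mem_sup_right (S := F.X)
        (mem_BrG (B := B) (h.e1.ge (inv_mem hz)) hd))) (Subgroup.mem_sup_right hd)
      convert h6 using 1
      show z * d * z⁻¹ = _
      group
    · have h5 := inv_mem (h.e1.le hu)
      have h6 := FS.atm_le_R1 (h.toMdl.nm_X h5) j
      rw [h.atm_eq c h5, ← cj_inf_nm (h.toMdl.nm_X h5)] at h6
      have h7 := mul_mem (h6 (conj_mem_cj _ hd)) (h4 (inv_mem hd))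
      convert h7 using 1
      group
  rwa [FS.M1, h5, Op_eq (F.toPS.maxD {j}) h2.isP le_sup_left fun d hd => h2.nmB d hd.1 (nm_iff.1 hd.2)]

/-- `q = 2` -/
theorem aff2 (c : Cx F T m a) (h3 : F.toPS.W {j} = 3) :
    F.Aff Ω T j (F.M2 j) ∧ F.M2 j ≤ F.X ⊔ Cm Q (F.toPS.V J) F.X := by
  have hac := h.ac
  let B := F.D {j} ⊓ Subgroup.normalizer (F.X : Set G)
  let L := BrG (Cm Q (F.toPS.V J) (F.toPS.V {j})) (F.toPS.V J) F.X (F.D {j})
  let K := L ⊓ Cm Q (F.toPS.V J) F.X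
  have h0 : ∀ d ∈ F.D {j}, cj d L = L := fun d hd => nm_of_conj fun x hx => conj_mem_BrG hd hx
  obtain ⟨ω, w1, w2, w3, w4⟩ := hac.exists_omega h3
  rw [h.e1] at w2 w4
  rw [h.e2] at w3
  have hV := h.md.V_le_Cm (F.mono h.sub)
  have h2 := h.aff_of c (K := K) inf_le_right
    (fun d hd h2 => nm_inf (h0 d hd) (nm_Cm (h.md.nQ d (F.mono h.sub hd)) (h.md.nV (F.mono h.sub hd)) h2))
    (fun u hu h2 => (w4 u hu.1 hu.2).elim (fun h4 => F.toPS.V_le J h4) fun h4 =>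
      absurd (inv_mem_iff.1 ((mul_mem_cancel_right h2).1 (hV h4))) w3) fun z hz => by
      by_cases h2 : z ∈ Cm Q (F.toPS.V J) (F.D {j})
      · exact ⟨1, one_mem _, by rwa [inv_one, one_mul]⟩
      · exact ⟨ω, ⟨w1, w2⟩, h.e2.le (hac.mem_of_two h3 (h.e1.ge w2) (h.e1.ge hz) (fun h4 => w3 (h.e2.le h4))
          fun h4 => h2 (h.e2.le h4))⟩
  have h4 : F.D {j} ≤ F.YY j := (FS.atm_one j).ge.trans (FS.atm_le_YY (cj_one F.X) j)
  have h6 : L ≤ F.YY j := BrG_le fun u hu d hd => by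
    have h5 := inv_mem (h.e1.le hu)
    have h6 := FS.atm_le_YY (h.toMdl.nm_X h5) j
    rw [h.atm_eq c h5] at h6
    have h7 := mul_mem (h6 (conj_mem_cj _ hd)) (h4 (inv_mem hd))
    convert h7 using 1
    group
  have h7 : F.YY j ≤ F.D {j} ⊔ L := iSup_le fun g => by
    obtain ⟨z, hz, h5⟩ := h.exists_atm c g.2
    rw [h5]
    rintro _ ⟨d, hd, rfl⟩
    have h6 := mul_mem (Subgroup.mem_sup_right (S := F.D {j}) (mem_BrG (B := F.D {j}) (h.e1.ge (inv_mem hz)) hd))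
      (Subgroup.mem_sup_left hd)
    convert h6 using 1
    show z * d * z⁻¹ = _
    group
  have h5 : F.YY j ⊓ Subgroup.normalizer (F.X : Set G) = (F.X ⊔ K) ⊔ B := by
    refine le_antisymm (fun y hy => ?_) (le_inf (sup_le (sup_le ((F.toPS.X_le _).trans h4) (inf_le_left.trans h6))
      (inf_le_left.trans h4)) (sup_le (fun w hw => nm_iff.2 (h2.nmX w hw)) inf_le_right))
    obtain ⟨f, hf, d, hd, rfl⟩ := mem_sup_nm' h0 (h7 hy.1)
    have h8 : cj (f * d) F.X = F.X := nm_iff.1 hy.2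
    have h9 : f ∈ Cm Q (F.toPS.V J) F.X := (Md.mem_X (S := F.toPS) h.md).2 ⟨(hac.BrG_le_Q hf).1, by
      have h9 := c.X_fix h8
      rwa [mul_smul, show d • a = a from c.S.D_fix _ hd] at h9⟩
    refine mul_mem (Subgroup.mem_sup_left (Subgroup.mem_sup_right ⟨hf, h9⟩)) (Subgroup.mem_sup_right ⟨hd, nm_iff.2 ?_⟩)
    have h10 := nm_mul (nm_inv (h.toMdl.nm_X h9)) h8
    rwa [inv_mul_cancel_left] at h10
  rw [FS.M2, h5, Op_eq (F.toPS.maxD {j}) h2.isP le_sup_left fun d hd => h2.nmB d hd.1 (nm_iff.1 hd.2)]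
  exact ⟨h2, sup_le_sup_left inf_le_right _⟩

theorem exists_aff (c : Cx F T m a) : ∃ M, F.Aff Ω T j M := by
  by_cases h3 : F.toPS.W {j} = 3
  · exact ⟨_, (h.aff2 c h3).1⟩
  · exact ⟨_, h.aff1 c h3⟩

end FS.AIn

namespace FS.Aff

variable {j : I} {M : Subgroup G} (h : F.Aff Ω T j M) (c : Cx F T m a)

include h c

theorem lab {w : G} (hw : w ∈ M) : F.lab w j = j := c.lab_of_nm_V (h.nmX w hw) (h.nmV w hw)

theorem atm_eq {w : G} (hw : w ∈ M) : F.atm w j = cj w (F.D {j}) := by rw [← c.atm_lab (h.nmX w hw), h.lab c hw]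

theorem exists_atm {g : G} (hg : cj g F.X = F.X) : ∃ w ∈ M, F.atm g j = cj w (F.D {j}) := by
  obtain ⟨w, hw, h1⟩ := h.ex _ (c.X_fix hg)
  have h2 := h.nmX w hw
  rw [← mul_smul, c.mem_J_iff (nm_mul h2 hg), c.atm_mul h2 hg, h.lab c (inv_mem hw)] at h1
  exact ⟨w⁻¹, inv_mem hw, by rw [← h1, cj_inv_cj]⟩

theorem not_mem_J {w : G} (hw : w ∈ M) (h1 : w ∉ F.X) : j ∉ F.J (w • a) :=
  fun h2 => h1 (h.uniq a (c.self_mem_J j) w hw h2)

theorem mem_of_nm {w : G} (hw : w ∈ M) (h1 : cj w (F.D {j}) = F.D {j}) : w ∈ F.X :=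
  h.uniq a (c.self_mem_J j) w hw ((c.mem_J_of_nm h1).2 (c.self_mem_J j))

theorem smul_ne {w : G} (hw : w ∈ M) (h1 : w ∉ F.X) : w • a ≠ a := fun h2 => h1 (h.semi a c.S.X_fix w hw h2)

/-- every fixed point of `X` is fixed by an atom -/
theorem exists_fix {b : Ω} (hb : F.X ≤ stabilizer G b) : ∃ g, cj g F.X = F.X ∧ F.atm g j ≤ stabilizer G b := by
  obtain ⟨w, hw, h1⟩ := h.ex b hb
  exact ⟨w⁻¹, nm_inv (h.nmX w hw), by rw [h.atm_eq c (inv_mem hw), cj_le_stab', inv_inv]; exact h1⟩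

/-- by one atom only -/
theorem atm_unique {g g' : G} (hg : cj g F.X = F.X) (hg' : cj g' F.X = F.X) {b : Ω} (h1 : F.atm g j ≤ stabilizer G b)
    (h2 : F.atm g' j ≤ stabilizer G b) : F.atm g j = F.atm g' j := by
  obtain ⟨w, hw, h3⟩ := h.exists_atm c hg
  obtain ⟨w', hw', h4⟩ := h.exists_atm c hg'
  rw [h3, cj_le_stab'] at h1
  rw [h4, cj_le_stab'] at h2
  have h5 := h.uniq _ h1 _ (mul_mem (inv_mem hw') hw) (by rwa [← mul_smul, mul_inv_cancel_right])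
  rw [h3, h4, ← mul_inv_cancel_left w' w, cj_mul, F.toPS.nm_X h5]

/-- the type does not depend on the element -/
theorem mem_J_of {w w' : G} (hw : w ∈ M) (h1 : w ∉ F.X) (hw' : w' ∈ M) (h2 : w' ∉ F.X) {b : Ω} (hb : j ∈ F.J b) {k : I}
    (hk : k ∈ F.J (w • b)) : k ∈ F.J (w' • b) := by
  obtain ⟨d, hd, h3, h4⟩ := h.trans w hw h1 w' hw' h2
  have h5 := (c.mem_J_of_nm (F.nrm d (F.toPS.le_univ _ hd) h3 _)).2 hk
  have h6 : d • w • b = w' • b := by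
    have h6 : (w'⁻¹ * (d * w * d⁻¹)) • b = b := hb (F.toPS.X_le _ h4)
    rwa [mul_smul, mul_smul, mul_smul, show d⁻¹ • b = b from hb (inv_mem hd), inv_smul_eq_iff] at h6
  rwa [h6] at h5

/-- `D {j}` fixes a second point -/
theorem exists_pt : ∃ y : Ω, y ≠ a ∧ j ∈ F.J y := by
  by_contra h1
  push Not at h1
  have h2 : ∀ b : Ω, b ≠ a → F.X ≤ stabilizer G b → ∃ w ∈ M, w ∉ F.X ∧ w • a = b := fun b hb h2 => by
    obtain ⟨w, hw, h3⟩ := h.ex b h2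
    have h4 : w • b = a := by_contra fun h4 => h1 _ h4 h3
    refine ⟨w⁻¹, inv_mem hw, fun h5 => hb ?_, by rw [← h4, inv_smul_smul]⟩
    rw [← h4]
    exact (h2 (inv_mem_iff.1 h5)).symm
  refine c.not_two fun b d hb hd h3 h4 => ?_
  obtain ⟨w, hw, h5, rfl⟩ := h2 b hb h3
  obtain ⟨w', hw', h6, rfl⟩ := h2 d hd h4
  obtain ⟨e, he, -, h7⟩ := h.trans w hw h5 w' hw' h6
  refine ⟨e, c.S.D_fix _ he, ?_⟩
  have h8 : (w'⁻¹ * (e * w * e⁻¹)) • a = a := c.S.X_fix h7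
  rwa [mul_smul, mul_smul, mul_smul, show e⁻¹ • a = a from c.S.D_fix _ (inv_mem he), inv_smul_eq_iff] at h8

end FS.Aff

end Cfsg.Agent.TH.Own
end

-- part: TH/Own/OneB
section
/-!
# S3541, `BoxOne`: passive orbits; affine nodes with `q > 2` (helper74)
-/

set_option autoImplicit false
set_option linter.unusedSectionVars false
set_option linter.unusedVariables false

namespace Cfsg.Agent.TH.Own

open MulAction

variable {G : Type*} [Group G] {p : ℕ} {I : Type*} {Ω : Type*} [MulAction G Ω]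

theorem ncard_pair_le_two {α : Type*} (x y : α) : ({x, y} : Set α).ncard ≤ 2 :=
  (Set.ncard_insert_le x {y}).trans (by rw [Set.ncard_singleton])

namespace FS

variable (F : FS G p I)

/-- a passive module of the complement of the orbit of `i` -/
structure PasQ (T : Subgroup G) (a : Ω) (i : I) (Q : Subgroup G) : Prop extends F.Mdl T a (F.Ob T a i)ᶜ Q where
  pas : ∀ j, j ∉ F.Ob T a i → ¬ F.toPS.Act (F.toPS.V (F.Ob T a i)ᶜ) Q j

/-- the node `j` is active in the module of the complement of an orbit -/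
def AN (T : Subgroup G) (a : Ω) (j : I) : Prop := ∃ i Q, F.AIn T a (F.Ob T a i)ᶜ Q j

end FS

variable {F : FS G p I} {T : Subgroup G} {m : ℕ} {a : Ω} [Finite G] [hp : Fact p.Prime]

namespace FS.PasQ

variable {i : I} {Q : Subgroup G} (h : F.PasQ T a i Q)

include h

theorem mem {w : G} (hw : w ∈ Q) : w ∈ Cm Q (F.toPS.V (F.Ob T a i)ᶜ) (F.D (F.Ob T a i)ᶜ) :=
  (Md.eq_of_not_act (S := F.toPS) h.md h.pas).ge hw

theorem nm_X {w : G} (hw : w ∈ Q) : cj w F.X = F.X := h.toMdl.nm_X (Cm_anti (F.toPS.X_le _) (h.mem hw))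

theorem nm_D {w : G} (hw : w ∈ Q) {k : I} (hk : k ∉ F.Ob T a i) : cj w (F.D {k}) = F.D {k} :=
  h.toMdl.nm_D (Set.singleton_subset_iff.2 hk) (Cm_anti (F.mono (Set.singleton_subset_iff.2 hk)) (h.mem hw))

theorem exists_ne : ∃ w ∈ Q, w • a ≠ a := by
  obtain ⟨w, hw, h1⟩ := SetLike.not_le_iff_exists.1 h.ne
  exact ⟨w, hw, fun h2 => h1 (h.md.reg.le ⟨hw, h2⟩)⟩

theorem cj (c : Cx F T m a) {g : G} (ha : g • a = a) (hg : TH.cj g F.X = F.X) :
    F.PasQ T a (F.lab g i) (TH.cj g Q) := by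
  refine ⟨c.mdl_cj h.toMdl ha hg (c.cj_D_compl ha hg i), fun j hj h1 => ?_⟩
  have h2 := h1.cj (nm_inv hg) (c.cj_D (inv_smul_eq_iff.2 ha.symm) (nm_inv hg) j)
  rw [← F.toPS.V_eq_of_cj hg (c.cj_D_compl ha hg i), cj_inv_cj, cj_inv_cj] at h2
  exact h.pas _ (fun h3 => hj (by rw [← c.lab_lab_inv hg j]; exact (c.lab_Ob ha hg).2 h3)) h2

end FS.PasQ

namespace Cx

variable (c : Cx F T m a)

include c

theorem pas_or (i : I) : (∃ Q, F.PasQ T a i Q) ∨ ∃ j Q, F.AIn T a (F.Ob T a i)ᶜ Q j := by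
  obtain ⟨Q, hQ⟩ := c.exists_mdl i
  rcases hQ.pas_or with h | ⟨j, h⟩
  · exact Or.inl ⟨Q, hQ, h⟩
  · exact Or.inr ⟨j, Q, h⟩

theorem AN_lab {j : I} (h : F.AN T a j) {g : G} (ha : g • a = a) (hg : cj g F.X = F.X) : F.AN T a (F.lab g j) := by
  obtain ⟨i, Q, h⟩ := h
  exact ⟨_, _, c.ain_Ob h ha hg⟩

theorem W_lab {g : G} (ha : g • a = a) (hg : cj g F.X = F.X) (j : I) : F.toPS.W {F.lab g j} = F.toPS.W {j} :=
  F.toPS.W_eq_of_cj hg (c.cj_D ha hg j)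

theorem lab_inv_mem {w : G} (hw : cj w F.X = F.X) {A : Set I} (h : ∀ k, k ∉ A → F.lab w k = k) {k : I} (hk : k ∈ A) :
    F.lab w⁻¹ k ∈ A := by
  by_contra h1
  have h2 := h _ h1
  rw [c.lab_lab_inv hw] at h2
  exact h1 (h2 ▸ hk)

/-- the product of two words -/
theorem atm_prod {w₁ w₂ : G} (h1 : cj w₁ F.X = F.X) (h2 : cj w₂ F.X = F.X) {A : Set I}
    (h3 : ∀ k ∈ A, F.lab w₁⁻¹ k ∈ A) (h4 : ∀ k ∈ A, k ∈ F.J (w₂ • a)) {k : I} (hk : k ∈ A) :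
    F.atm (w₁ * w₂) k = F.atm w₁ k := by
  rw [c.atm_mul h1 h2, (c.mem_J_iff h2).1 (h4 _ (h3 k hk)), FS.atm]

theorem J_congr {g g' : G} (hg : cj g F.X = F.X) (hg' : cj g' F.X = F.X) {k : I} (h : F.atm g k = F.atm g' k) :
    k ∈ F.J (g • a) ↔ k ∈ F.J (g' • a) := by rw [c.mem_J_iff hg, c.mem_J_iff hg', h]

theorem ne_of_not_J {b : Ω} {k : I} (h : k ∉ F.J b) : b ≠ a := fun h1 => h (h1 ▸ c.self_mem_J k)

theorem stab_Ob {g g' : G} (ha : g • a = a) (hg : cj g F.X = F.X) (ha' : g' • a = a) (hg' : cj g' F.X = F.X) {i : I}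
    (h : F.Ob T a (F.lab g i) = F.Ob T a (F.lab g' i)) (k : I) :
    F.lab (g⁻¹ * g')⁻¹ k ∈ F.Ob T a i ↔ k ∈ F.Ob T a i := by
  rw [← c.lab_Ob ha' hg', ← c.lab_mul hg' (nm_inv (nm_mul (nm_inv hg) hg')), mul_inv_rev, mul_inv_cancel_left, inv_inv,
    ← h, c.lab_Ob ha hg]

/-- a passive orbit and a word with support outside -/
theorem pas_disj {i : I} {Q : Subgroup G} (h : F.PasQ T a i Q) {w : G} (hw : cj w F.X = F.X) (h1 : w • a ≠ a)
    (h2 : ∀ k ∈ F.Ob T a i, k ∈ F.J (w • a)) {O : Set I} (h3 : ∀ g, g • a = a → cj g F.X = F.X → ∀ k ∈ F.Ob T a i,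
      F.lab g k ∉ F.Ob T a i → F.lab g k ∉ F.J (w • a) → F.Ob T a (F.lab g k) = O) : False := by
  obtain ⟨v, hv, h4⟩ := h.exists_ne
  have hv' := h.nm_X hv
  have h5 : ∀ k ∈ F.Ob T a i, F.atm (v * w) k = F.atm v k := fun k hk => c.atm_prod hv' hw
    (fun k hk => c.lab_inv_mem hv' (fun l hl => c.lab_of_cj hv' (h.nm_D hv hl)) hk) h2 hk
  have h6 : ∀ k, k ∉ F.Ob T a i → (k ∈ F.J ((v * w) • a) ↔ k ∈ F.J (w • a)) := fun k hk => by
    rw [mul_smul, c.mem_J_of_nm (h.nm_D hv hk)]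
  have h7 : ∀ k, k ∉ F.Ob T a i → k ∈ F.J (v • a) := fun k hk => (c.mem_J_of_nm (h.nm_D hv hk)).2 (c.self_mem_J k)
  obtain ⟨k, hk⟩ := c.exists_not_J hw h1
  obtain ⟨l, hl⟩ := c.exists_not_J hv' h4
  have hk' : k ∉ F.Ob T a i := fun h8 => hk (h2 k h8)
  have hl' : l ∈ F.Ob T a i := by_contra fun h8 => hl (h7 l h8)
  have hvw := nm_mul hv' hw
  have hz : k ∉ F.J ((v * w) • a) := fun h8 => hk ((h6 k hk').1 h8)
  have h8 := c.S.pt c.A h4 (c.ne_of_not_J hz) (c.X_fix hv') (c.X_fix hvw) (c := 3)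
    (F.toPS.three_mul_le' (fun x hx => by
      by_cases h8 : x ∈ F.Ob T a i
      · exact (c.J_congr hvw hv' (h5 x h8)).1 hx
      · exact h7 x h8) hz (h7 k hk'))
    (fun g => F.Ob T a (F.lab g l)) {F.Ob T a i, O} (Set.toFinite _)
    (fun g hg => by
      by_cases h8 : F.lab g l ∈ F.Ob T a i
      · exact Or.inl (c.Ob_eq h8)
      refine Or.inr (h3 g hg.1.1 (nm_iff.1 hg.2) l hl' h8 fun h9 => hl ((c.J_congr hvw hv' (h5 l hl')).1 ?_))
      rw [← c.lab_mem_J hg.1.1 (nm_iff.1 hg.2), show g • (v * w) • a = (v * w) • a from hg.1.2]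
      exact (h6 _ h8).2 h9)
    (fun g hg g' hg' h8 => c.fix_of_restrict hv' hvw (fun k hk => (h5 k hk).symm) h7 (mul_mem (inv_mem hg) hg')
      (by rw [← c.Ob_eq hl']; exact c.stab_Ob hg.1.1 (nm_iff.1 hg.2) hg'.1.1 (nm_iff.1 hg'.2) h8))
  have h9 := ncard_pair_le_two (F.Ob T a i) O
  omega

/-- at most one passive orbit -/
theorem two_pas {i i' : I} {Q Q' : Subgroup G} (h : F.PasQ T a i Q) (h' : F.PasQ T a i' Q') : i' ∈ F.Ob T a i := by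
  by_contra h1
  obtain ⟨w, hw, h2⟩ := h'.exists_ne
  have h3 : ∀ k, k ∉ F.Ob T a i' → k ∈ F.J (w • a) := fun k hk => (c.mem_J_of_nm (h'.nm_D hw hk)).2 (c.self_mem_J k)
  exact c.pas_disj h (h'.nm_X hw) h2 (fun k hk => h3 k fun h4 => h1 (c.Ob_eq hk ▸ c.Ob_symm h4))
    (O := F.Ob T a i') fun g _ _ k _ _ h4 => c.Ob_eq (by_contra fun h5 => h4 (h3 _ h5))

theorem pas_inv {i : I} {Q : Subgroup G} (h : F.PasQ T a i Q) {g : G} (ha : g • a = a) (hg : cj g F.X = F.X) {k : I} :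
    F.lab g k ∈ F.Ob T a i ↔ k ∈ F.Ob T a i := by
  conv_lhs => rw [← c.Ob_eq (c.two_pas h (h.cj c ha hg))]
  exact c.lab_Ob ha hg

theorem pas_disj' {i : I} {Q : Subgroup G} (h : F.PasQ T a i Q) {w : G} (hw : cj w F.X = F.X) (h1 : w • a ≠ a) :
    ∃ k ∈ F.Ob T a i, k ∉ F.J (w • a) := by
  by_contra h2
  push Not at h2
  exact c.pas_disj h hw h1 h2 (O := ∅) fun g ha hg k hk h3 _ => absurd ((c.pas_inv h ha hg).2 hk) h3

theorem lab_R1 {j : I} {w : G} (hw : w ∈ F.R1 j) (k : I) : F.lab w k = k := by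
  refine FS.lab_eq (nm_iff.1 ((iSup_le fun g x hx => ?_ : F.R1 j ≤ Subgroup.normalizer (F.Y k : Set G)) hw))
  have h1 : cj ((g : G)⁻¹ * x * g) F.X = F.X := nm_mul (nm_mul (nm_inv g.2) (nm_iff.1 hx.2)) g.2
  have h2 := c.cj_Y h1 (F.lab (g : G)⁻¹ k)
  rw [c.lab_E (F.toPS.le_univ _ (mem_cj.1 hx.1)) h1, ← nm_cj_iff, c.cj_Y g.2, c.lab_lab_inv g.2] at h2
  exact nm_iff.2 h2

theorem lab_M1 {j : I} {w : G} (hw : w ∈ F.M1 j) (k : I) : F.lab w k = k := c.lab_R1 ((Op_spec _).1 hw) k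

theorem aff1 {j : I} (h : F.AN T a j) (h3 : F.toPS.W {j} ≠ 3) : F.Aff Ω T j (F.M1 j) := by
  obtain ⟨i, Q, h⟩ := h
  exact h.aff1 c h3

theorem M1_eq {j k : I} (hj : F.Aff Ω T j (F.M1 j)) (hk : F.Aff Ω T k (F.M1 k)) {w : G} (hw : w ∈ F.M1 k)
    (h1 : j ∉ F.J (w • a)) : F.M1 j = F.M1 k := by
  have hw' := hk.nmX w hw
  let B := F.D {j} ⊓ Subgroup.normalizer (F.X : Set G)
  have h2 : ∀ l, ∀ d ∈ F.D {l}, cj d F.X = F.X → ∀ i, cj d (F.M1 i) = F.M1 i := fun l d hd h2 i => by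
    rw [c.cj_M1 h2, c.lab_E (F.toPS.le_univ _ hd) h2]
  obtain ⟨u₀, hu₀, h3⟩ := hj.exists_atm c hw'
  have h4 : u₀ ∉ F.X := fun h4 => h1 ((c.mem_J_iff hw').2 (h3.trans (F.toPS.nm_X h4 _)))
  have h5 : cj w (F.D {j}) = cj u₀ (F.D {j}) := by rw [← h3, ← c.atm_lab hw', c.lab_M1 hw]
  have h6 : F.R1 j ≤ B ⊔ F.M1 k := iSup_le fun g => by
    obtain ⟨v, hv, h6⟩ : ∃ v ∈ F.M1 k, F.atm g j = cj v (F.D {j}) := by
      obtain ⟨u, hu, h6⟩ := hj.exists_atm c g.2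
      by_cases h7 : u ∈ F.X
      · exact ⟨u, hk.X_le h7, h6⟩
      obtain ⟨d, hd, h8, h9⟩ := hj.trans u₀ hu₀ h4 u hu h7
      refine ⟨d * w * d⁻¹, nm_conj (h2 j d hd h8 k) hw, ?_⟩
      rw [h6, cj_mul, cj_mul, cj_of_mem (inv_mem hd), h5, ← cj_mul, show d * u₀ = u * (u⁻¹ * (d * u₀ * d⁻¹)) * d by group,
        cj_mul, cj_mul, cj_of_mem hd, F.toPS.nm_X h9]
    rw [h6, ← cj_inf_nm (hk.nmX v hv)]
    exact (cj_mono v le_sup_left).trans (cj_of_mem (Subgroup.mem_sup_right hv)).le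
  have h7 : F.M1 j ≤ F.M1 k := fun x hx => by
    obtain ⟨v, hv, d, hd, rfl⟩ := mem_sup_nm' (P := B) (fun d hd => h2 j d hd.1 (nm_iff.1 hd.2) k) (h6 ((Op_spec _).1 hx))
    have h7 := isP_sup hj.isP hk.isP fun y hy => by rw [c.cj_M1 (hj.nmX y hy), c.lab_M1 hy]
    obtain ⟨n, hn⟩ := exists_pow_of_isP h7
      ((mul_mem_cancel_left (Subgroup.mem_sup_right hv)).1 (Subgroup.mem_sup_left hx))
    exact mul_mem hv (hk.X_le ((F.toPS.maxD {j}).mem_of_nm hn hd.1 (nm_iff.1 hd.2)))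
  refine le_antisymm h7 fun x hx => ?_
  by_cases h8 : x ∈ F.X
  · exact hj.X_le h8
  obtain ⟨d, hd, h9, h10⟩ := hk.trans u₀ (h7 hu₀) h4 x hx h8
  exact inv_mem_iff.1 ((mul_mem_cancel_right (nm_conj (h2 k d hd h9 j) hu₀)).1 (hj.X_le h10))

theorem nm_D_M1 {j : I} (hj : F.Aff Ω T j (F.M1 j)) {w w' : G} (hw : w ∈ F.M1 j) (h1 : w ∉ F.X) (hw' : w' ∈ F.M1 j)
    {k : I} (hk : k ∈ F.J (w • a)) : cj w' (F.D {k}) = F.D {k} := by
  by_cases h2 : w' ∈ F.X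
  · exact F.toPS.nm_X h2 _
  · exact c.nm_of_mem_J (hj.nmX _ hw') (c.lab_M1 hw' k) (hj.mem_J_of c hw h1 hw' h2 (c.self_mem_J j) hk)

/-- all translation groups with `q > 2` coincide -/
theorem two_M1 {j k : I} (hj : F.AN T a j) (hj3 : F.toPS.W {j} ≠ 3) (hk : F.AN T a k) (hk3 : F.toPS.W {k} ≠ 3) :
    F.M1 j = F.M1 k := by
  by_contra hne
  have aj := c.aff1 hj hj3
  have ak := c.aff1 hk hk3
  obtain ⟨w₁, hw₁, n₁⟩ := aj.ne
  obtain ⟨w₂, hw₂, n₂⟩ := ak.ne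
  have x₁ := aj.nmX _ hw₁
  have x₂ := ak.nmX _ hw₂
  have x₃ := nm_mul x₁ x₂
  have h1 : j ∈ F.J (w₂ • a) := by_contra fun h => hne (c.M1_eq aj ak hw₂ h)
  have h2 : k ∈ F.J (w₁ • a) := by_contra fun h => hne (c.M1_eq ak aj hw₁ h).symm
  have h3 : k ∉ F.J ((w₁ * w₂) • a) := by
    rw [mul_smul, c.mem_J_of_nm (c.nm_D_M1 aj hw₁ n₁ hw₁ h2)]
    exact ak.not_mem_J c hw₂ n₂
  have h4 : F.J ((w₁ * w₂) • a) ⊆ F.J (w₁ • a) := fun l hl => by
    by_contra h4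
    have h5 := c.nm_of_mem_J x₃ (by rw [c.lab_mul x₁ x₂, c.lab_M1 hw₂, c.lab_M1 hw₁]) hl
    obtain ⟨u, hu, u', hu', h6, h7, h8⟩ := aj.three hj3
    obtain ⟨v, hv, h9, h10⟩ : ∃ v ∈ F.M1 j, v ∉ F.X ∧ w₁ * v ∉ F.X := by
      by_cases h9 : w₁ * u ∈ F.X
      · refine ⟨u', hu', h7, fun h10 => h8 ?_⟩
        have h11 := mul_mem (inv_mem h9) h10
        rwa [show (w₁ * u)⁻¹ * (w₁ * u') = u⁻¹ * u' by group] at h11
      · exact ⟨u, hu, h6, h9⟩
    obtain ⟨d, hd, h11, h12⟩ := aj.trans _ (inv_mem hw₁) (fun h => n₁ (inv_mem_iff.1 h)) v hv h9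
    have h13 : w₂⁻¹ * (d * w₂ * d⁻¹) ∈ F.X := ak.semi a c.S.X_fix _ (mul_mem (inv_mem hw₂) (nm_conj (by
      rw [c.cj_M1 h11, c.lab_E (F.toPS.le_univ _ hd) h11]) hw₂)) (by
        rw [mul_smul, mul_smul, mul_smul, show d⁻¹ • a = a from c.S.D_fix _ (inv_mem hd),
          show d • w₂ • a = w₂ • a from h1 hd, inv_smul_smul])
    have h14 := F.nrm d (F.toPS.le_univ _ hd) h11 {l}
    have h15 : cj (w₁ * v) (F.D {l}) = F.D {l} := by
      have h15 := nm_mul (nm_mul (nm_mul h5 (F.toPS.nm_X h13 _)) (nm_mul (nm_mul h14 (nm_inv h5)) (nm_inv h14)))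
        (nm_inv (F.toPS.nm_X h12 _))
      rwa [show w₁ * w₂ * (w₂⁻¹ * (d * w₂ * d⁻¹)) * (d * (w₁ * w₂)⁻¹ * d⁻¹) * (v⁻¹ * (d * w₁⁻¹ * d⁻¹))⁻¹ = w₁ * v by
        group] at h15
    exact h4 (aj.mem_J_of c (mul_mem hw₁ hv) h10 hw₁ n₁ (c.self_mem_J j) ((c.mem_J_of_nm h15).2 (c.self_mem_J l)))
  have h5 : ∀ g ∈ BH a ((w₁ * w₂) • a) F.X, F.lab g j ∉ F.J ((w₁ * w₂) • a) := fun g hg h5 => by
    rw [← show g • (w₁ * w₂) • a = (w₁ * w₂) • a from hg.1.2, c.lab_mem_J hg.1.1 (nm_iff.1 hg.2)] at h5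
    exact aj.not_mem_J c hw₁ n₁ (h4 h5)
  have h6 : ∀ g ∈ BH a ((w₁ * w₂) • a) F.X, F.Aff Ω T (F.lab g j) (F.M1 (F.lab g j)) := fun g hg =>
    c.aff1 (c.AN_lab hj hg.1.1 (nm_iff.1 hg.2)) (by rwa [c.W_lab hg.1.1 (nm_iff.1 hg.2)])
  have h7 := c.S.pt c.A (aj.smul_ne c hw₁ n₁) (c.ne_of_not_J h3) (c.X_fix x₁) (c.X_fix x₃) (c := 3)
    (F.toPS.three_mul_le' h4 h3 h2) (fun g => F.M1 (F.lab g j)) {F.M1 j, F.M1 k} (Set.toFinite _)
    (fun g hg => by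
      by_cases h7 : F.lab g j ∈ F.J (w₁ • a)
      · refine Or.inr (c.M1_eq (h6 g hg) ak hw₂ fun h8 => h5 g hg ?_)
        rwa [mul_smul, c.mem_J_of_nm (c.nm_D_M1 aj hw₁ n₁ hw₁ h7)]
      · exact Or.inl (c.M1_eq (h6 g hg) aj hw₁ h7))
    (fun g hg g' hg' h7 => by
      have h8 := mul_mem (inv_mem hg) hg'
      have h9 : cj (g⁻¹ * g') (F.M1 j) = F.M1 j := by
        rw [cj_mul, c.cj_M1 (nm_iff.1 hg'.2), ← h7, ← c.cj_M1 (nm_iff.1 hg.2), cj_inv_cj]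
      generalize g⁻¹ * g' = h at h8 h9
      have hX := nm_iff.1 h8.2
      have h10 := h6 h h8
      have h11 : F.M1 (F.lab h j) = F.M1 j := by rw [← c.cj_M1 hX, h9]
      have h12 : F.lab h j ∈ F.J (w₂ • a) := by_contra fun h12 => hne (h11.symm.trans (c.M1_eq h10 ak hw₂ h12))
      have h13 : ∀ l ∈ F.J (w₂ • a), F.atm (w₁ * w₂) l = cj w₁ (F.D {l}) := fun l hl => by
        rw [c.atm_mul x₁ x₂, c.lab_M1 (inv_mem hw₁), (c.mem_J_iff x₂).1 hl]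
      have h14 : cj (h * w₁ * h⁻¹) (F.D {F.lab h j}) = cj w₁ (F.D {F.lab h j}) := by
        rw [← h13 _ h12, ← c.cj_D h8.1.1 hX, ← cj_mul, inv_mul_cancel_right, cj_mul, ← h13 j h1, c.cj_atm hX x₃]
        exact c.atm_congr (nm_mul hX x₃) x₃ ((mul_smul _ _ _).trans h8.1.2) _
      rw [h11] at h10
      have h15 := h10.mem_of_nm c (mul_mem (inv_mem hw₁) (nm_conj h9 hw₁)) (by rw [cj_mul, h14, cj_inv_cj])
      have h16 : (w₁⁻¹ * (h * w₁ * h⁻¹)) • a = a := c.S.X_fix h15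
      rwa [mul_smul, mul_smul, mul_smul, inv_smul_eq_iff.2 (show h • a = a from h8.1.1).symm, inv_smul_eq_iff] at h16)
  have h8 := ncard_pair_le_two (F.M1 j) (F.M1 k)
  omega

theorem same_fix {j k : I} {M : Subgroup G} (hj : F.Aff Ω T j M) (hk : F.Aff Ω T k M) (h3 : F.toPS.W {j} ≠ 3) {b : Ω}
    (hb : j ∈ F.J b) : k ∈ F.J b := by
  have hX : F.X ≤ stabilizer G b := (F.toPS.X_le _).trans hb
  obtain ⟨w, hw, h1⟩ := hk.ex b hX
  by_cases h2 : w ∈ F.X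
  · rwa [show w • b = b from hX h2] at h1
  obtain ⟨u, hu, u', hu', h4, h5, h6⟩ := hj.three h3
  have h7 := hj.mem_J_of c hw h2 hu h4 hb h1
  exact absurd (hk.uniq _ h7 _ (mul_mem hu' (inv_mem hu)) (by
    rw [← mul_smul, inv_mul_cancel_right]
    exact hj.mem_J_of c hw h2 hu' h5 hb h1)) fun h8 => h6 (by
      have h9 := nm_conj' (hj.nmX u hu) h8
      rwa [show u⁻¹ * (u' * u⁻¹) * u = u⁻¹ * u' by group] at h9)

theorem exists_k {j : I} (hj : F.AN T a j) (hj3 : F.toPS.W {j} ≠ 3) {y : Ω} (hy : y ≠ a) (h1 : j ∈ F.J y) :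
    ∃ k, k ∉ F.J y ∧ ∀ w ∈ F.M1 j, w ∉ F.X → k ∈ F.J (w • y) := by
  have aj := c.aff1 hj hj3
  obtain ⟨w, hw, h2⟩ := aj.ne
  have hX : F.X ≤ stabilizer G y := (F.toPS.X_le _).trans h1
  have h3 : j ∉ F.J (w • y) := fun h3 => h2 (aj.uniq y h1 w hw h3)
  obtain ⟨k, h4, h5⟩ : ∃ k ∈ F.J (w • y), k ∉ F.J y := Set.not_subset.1 fun h4 => by
    have h5 := c.S.pt c.A hy (c.ne_of_not_J h3) hX (le_stab_smul (aj.nmX w hw) hX) (c := 3)
      (F.toPS.three_mul_le' h4 h3 h1) (fun _ => ()) {()} (Set.toFinite _) (fun _ _ => rfl) (fun g hg g' hg' _ => by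
        have h8 := mul_mem (inv_mem hg) hg'
        generalize g⁻¹ * g' = h at h8
        have hX' := nm_iff.1 h8.2
        have h9 := c.AN_lab hj h8.1.1 hX'
        have h10 : F.toPS.W {F.lab h j} ≠ 3 := by rwa [c.W_lab h8.1.1 hX']
        have h11 := c.two_M1 h9 h10 hj hj3
        have h12 := c.aff1 h9 h10
        rw [h11] at h12
        have h13 : h • y = (h * w⁻¹ * h⁻¹ * w) • y := by
          rw [mul_smul, mul_smul, inv_smul_eq_iff.2 (show h • w • y = w • y from h8.1.2).symm, mul_smul, inv_smul_smul]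
        rw [h13]
        exact hX (h12.uniq y (c.same_fix aj h12 hj3 h1) _ (mul_mem (nm_conj ((c.cj_M1 hX' j).trans h11) (inv_mem hw)) hw)
          (h13 ▸ (c.lab_mem_J h8.1.1 hX').2 h1)))
    rw [Set.ncard_singleton] at h5
    omega
  exact ⟨k, h5, fun w' hw' h6 => aj.mem_J_of c hw h2 hw' h6 h1 h4⟩

theorem eq_of_three {j : I} {M : Subgroup G} (hj : F.Aff Ω T j M) (h3 : F.toPS.W {j} ≠ 3) {K L : Subgroup G}
    (h : ∀ w ∈ M, w ∉ F.X → cj w K = L) : K = L := by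
  obtain ⟨u, hu, u', hu', h4, h5, h6⟩ := hj.three h3
  rw [← h _ (mul_mem (inv_mem hu) hu') h6, cj_mul, h u' hu' h5, ← h u hu h4, cj_inv_cj]

/-- **all affine nodes have `q = 2`** -/
theorem W_eq_three (hI : ∃ i i', i' ∉ F.Ob T a i) {j : I} (hj : F.AN T a j) : F.toPS.W {j} = 3 := by
  by_contra hj3
  have aj := c.aff1 hj hj3
  have ng : ∀ g, cj g F.X = F.X → j ∈ F.J (g • a) → g • a = a := fun g hg h1 => by
    by_contra h2
    obtain ⟨k, h3, h4⟩ := c.exists_k hj hj3 h2 h1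
    refine h3 ((c.mem_J_iff hg).2 (c.eq_of_three aj hj3 fun w hw h5 => ?_))
    have h6 := h4 w hw h5
    rw [← mul_smul, c.mem_J_iff (nm_mul (aj.nmX w hw) hg)] at h6
    rw [c.cj_atm (aj.nmX w hw) hg, c.lab_M1 hw, h6]
  obtain ⟨y, hy, h1⟩ := aj.exists_pt c
  obtain ⟨k, h2, h3⟩ := c.exists_k hj hj3 hy h1
  obtain ⟨i, hi⟩ : ∃ i, k ∉ F.Ob T a i := by
    obtain ⟨i, i', h4⟩ := hI
    by_cases h5 : k ∈ F.Ob T a i
    · exact ⟨i', fun h6 => h4 (c.Ob_eq h5 ▸ c.Ob_symm h6)⟩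
    · exact ⟨i, h5⟩
  obtain ⟨Q, hQ⟩ := c.exists_mdl i
  by_cases h4 : F.toPS.Act (F.toPS.V (F.Ob T a i)ᶜ) Q k
  · obtain ⟨M, ak⟩ := FS.AIn.exists_aff ⟨hQ, hi, h4⟩ c
    obtain ⟨g, hg, h5⟩ := ak.exists_fix c ((F.toPS.X_le _).trans h1)
    refine h2 (le_trans (c.eq_of_three aj hj3 fun w hw h6 => ?_).ge h5)
    have h7 := cj_le_stab (g := w).2 h5
    rw [c.cj_atm (aj.nmX w hw) hg, c.lab_M1 hw] at h7 ⊢
    rw [← FS.atm_one]
    exact ak.atm_unique c (nm_mul (aj.nmX w hw) hg) (cj_one _) h7 (by rw [FS.atm_one]; exact h3 w hw h6)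
  · obtain ⟨z, hz, h5⟩ := hQ.md.exists_Cm (F.toPS.X_le _) hQ.ne
    have h6 := hQ.nm_X hz
    obtain ⟨w, hw, h7⟩ := aj.ex _ (c.X_fix h6)
    rw [← mul_smul] at h7
    have h8 := ng _ (nm_mul (aj.nmX w hw) h6) h7
    rw [mul_smul, ← eq_inv_smul_iff] at h8
    have h9 : w⁻¹ ∉ F.X := fun h9 => h5 (hQ.md.reg.le ⟨hz.1, h8.trans (c.S.X_fix h9)⟩)
    have h10 : k ∈ F.J (w⁻¹ • a) := h8 ▸ (c.mem_J_of_nm (hQ.nm_D (Set.singleton_subset_iff.2 hi)
      (not_not.1 h4 hz))).2 (c.self_mem_J k)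
    exact h2 ((c.mem_J_of_nm (c.nm_D_M1 aj (inv_mem hw) h9 (inv_mem hw) h10)).1 (h3 _ (inv_mem hw) h9))

end Cx

end Cfsg.Agent.TH.Own
end

-- part: TH/Own/OneC
section
/-!
# S3541, `BoxOne`: affine nodes with `q = 2`, blocks, at most two orbits (helper74)
-/

set_option autoImplicit false
set_option linter.unusedSectionVars false
set_option linter.unusedVariables false

namespace Cfsg.Agent.TH.Own

open MulAction

variable {G : Type*} [Group G] {p : ℕ} {I : Type*} {Ω : Type*} [MulAction G Ω]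

theorem two_mul_lt_three_pow (b : ℕ) : 2 * b < 3 ^ b := by
  induction b with
  | zero => simp
  | succ b ih =>
    have := Nat.one_le_pow b 3 (by norm_num)
    rw [pow_succ]
    omega

/-- all active nodes have `q = 2` -/
structure Cx2 (F : FS G p I) (T : Subgroup G) (m : ℕ) (a : Ω) : Prop extends Cx F T m a where
  three : ∀ j, F.AN T a j → F.toPS.W {j} = 3

/-- the group generated by the translation groups -/
noncomputable def FS.MS (F : FS G p I) (A : Set I) : Subgroup G := F.X ⊔ ⨆ j ∈ A, F.M2 j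

/-- the word with all coordinates in `A` changed -/
def FS.Top (F : FS G p I) (a : Ω) (A : Set I) (y : Ω) : Prop := (∃ u ∈ F.MS A, u • a = y) ∧ ∀ j ∈ A, j ∉ F.J y

variable {F : FS G p I} {T : Subgroup G} {m : ℕ} {a : Ω} [Finite G] [hp : Fact p.Prime] [Finite I]

theorem Cx.J_prod (c : Cx F T m a) {w : G} (hw : cj w F.X = F.X) {k : I} (hk : k ∈ F.J (w • a)) (b : Ω) :
    k ∈ F.J (w • b) ↔ F.lab w⁻¹ k ∈ F.J b := by
  rw [FS.mem_J, ← (c.mem_J_iff hw).1 hk, FS.atm, cj_le_stab, FS.mem_J]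

theorem Cx.cj_MS (c : Cx F T m a) {g : G} (hg : cj g F.X = F.X) {A B : Set I} (h : ∀ k, k ∈ A ↔ F.lab g k ∈ B) :
    cj g (F.MS A) = F.MS B := by
  have key : ∀ {g : G}, cj g F.X = F.X → ∀ {A B : Set I}, (∀ k ∈ A, F.lab g k ∈ B) → cj g (F.MS A) ≤ F.MS B := by
    intro g hg A B h
    rw [FS.MS, cj_sup, hg, cj_iSup]
    refine sup_le_sup_left (iSup_le fun k => ?_) _
    rw [cj_iSup]
    exact iSup_le fun hk => (c.cj_M2 hg k).le.trans (le_iSup₂ (f := fun j (_ : j ∈ B) => F.M2 j) _ (h k hk))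
  refine le_antisymm (key hg fun k => (h k).1) ?_
  have h1 := key (nm_inv hg) (A := B) (B := A) fun k hk => (h _).2 (by rwa [c.lab_lab_inv hg])
  rwa [cj_le_iff, inv_inv] at h1

theorem Cx.top_smul (c : Cx F T m a) {g : G} (ha : g • a = a) (hg : cj g F.X = F.X) {A B : Set I}
    (h : ∀ k, k ∈ A ↔ F.lab g k ∈ B) {y : Ω} (hy : F.Top a A y) : F.Top a B (g • y) := by
  obtain ⟨⟨u, hu, rfl⟩, h1⟩ := hy
  refine ⟨⟨g * u * g⁻¹, c.cj_MS hg h ▸ conj_mem_cj g hu, by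
    rw [mul_smul, mul_smul, inv_smul_eq_iff.2 ha.symm]⟩, fun k hk h2 => ?_⟩
  rw [← c.lab_lab_inv hg k] at hk h2
  exact h1 _ ((h _).2 hk) ((c.lab_mem_J ha hg).1 h2)

omit [Finite G] hp [Finite I] in
theorem FS.M2_le_MS {A : Set I} {j : I} (hj : j ∈ A) : F.M2 j ≤ F.MS A :=
  (le_iSup₂ (f := fun j (_ : j ∈ A) => F.M2 j) j hj).trans le_sup_right

omit [Finite G] hp [Finite I] in
theorem FS.MS_le {A : Set I} {K : Subgroup G} (h1 : F.X ≤ K) (h2 : ∀ j ∈ A, F.M2 j ≤ K) : F.MS A ≤ K :=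
  sup_le h1 (iSup₂_le h2)

namespace Cx2

variable (c : Cx2 F T m a)

include c

theorem aff {j : I} (h : F.AN T a j) : F.Aff Ω T j (F.M2 j) := by
  obtain ⟨i, Q, h1⟩ := h
  exact (h1.aff2 c.toCx (c.three j ⟨i, Q, h1⟩)).1

theorem smul_eq {j : I} (h : F.AN T a j) {w w' : G} (hw : w ∈ F.M2 j) (h1 : w ∉ F.X) (hw' : w' ∈ F.M2 j) (h2 : w' ∉ F.X)
    {b : Ω} (hb : F.X ≤ stabilizer G b) : w • b = w' • b := by
  have h3 : (w⁻¹ * w') • b = b := hb ((c.aff h).two (c.three j h) w hw w' hw' h1 h2)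
  rw [mul_smul, inv_smul_eq_iff] at h3
  exact h3.symm

theorem inv_smul_eq {j : I} (h : F.AN T a j) {w : G} (hw : w ∈ F.M2 j) (h1 : w ∉ F.X) {b : Ω}
    (hb : F.X ≤ stabilizer G b) : w⁻¹ • b = w • b :=
  c.smul_eq h (inv_mem hw) (fun h2 => h1 (inv_mem_iff.1 h2)) hw h1 hb

theorem atm_two {j : I} (h : F.AN T a j) {w : G} (hw : w ∈ F.M2 j) (h1 : w ∉ F.X) {g : G} (hg : cj g F.X = F.X)
    (h2 : j ∉ F.J (g • a)) : F.atm g j = cj w (F.D {j}) := by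
  obtain ⟨u, hu, h3⟩ := (c.aff h).exists_atm c.toCx hg
  have h4 : u ∉ F.X := fun h4 => h2 ((c.toCx.mem_J_iff hg).2 (h3.trans (F.toPS.nm_X h4 _)))
  rw [h3, ← mul_inv_cancel_left w u, cj_mul, F.toPS.nm_X ((c.aff h).two (c.three j h) w hw u hu h1 h4)]

theorem atm_eq_of {j : I} (h : F.AN T a j) {g g' : G} (hg : cj g F.X = F.X) (hg' : cj g' F.X = F.X)
    (h1 : j ∉ F.J (g • a)) (h2 : j ∉ F.J (g' • a)) : F.atm g j = F.atm g' j := by
  obtain ⟨w, hw, h3⟩ := (c.aff h).ne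
  rw [c.atm_two h hw h3 hg h1, c.atm_two h hw h3 hg' h2]

theorem eq_of_J_eq {g g' : G} (hg : cj g F.X = F.X) (hg' : cj g' F.X = F.X)
    (h1 : ∀ k, k ∈ F.J (g • a) ↔ k ∈ F.J (g' • a)) (h2 : ∀ k, k ∉ F.J (g • a) → F.AN T a k) : g • a = g' • a :=
  c.toCx.smul_eq_of_atm hg hg' fun k => by
    by_cases hk : k ∈ F.J (g • a)
    · rw [(c.toCx.mem_J_iff hg).1 hk, (c.toCx.mem_J_iff hg').1 ((h1 k).1 hk)]
    · exact c.atm_eq_of (h2 k hk) hg hg' hk fun h3 => hk ((h1 k).2 h3)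

theorem nm_of_atm {j : I} (h : F.AN T a j) {g : G} (hg : cj g F.X = F.X) (h1 : j ∉ F.J (g • a)) {K : Subgroup G}
    (h2 : ∀ d ∈ F.D {j}, cj d K = K) (h3 : ∀ d ∈ F.atm g j, cj d K = K) {w : G} (hw : w ∈ F.M2 j) : cj w K = K := by
  refine nm_iff.1 ((iSup_le fun x d hd => nm_iff.2 ?_ : F.YY j ≤ Subgroup.normalizer (K : Set G)) (FS.M2_le j hw))
  by_cases h4 : j ∈ F.J ((x : G) • a)
  · exact h2 d ((c.toCx.mem_J_iff x.2).1 h4 ▸ hd)
  · exact h3 d (c.atm_eq_of h x.2 hg h4 h1 ▸ hd)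

theorem nm_D_of_swap {j k : I} (h : F.AN T a j) (hne : j ≠ k) (hn : ¬ F.toPS.Adj j k) {u : G} (h1 : cj u F.X = F.X)
    (h2 : cj u (F.toPS.V {j}) = F.toPS.V {j}) (h3 : cj u (F.D {k}) = F.D {k}) (h4 : j ∉ F.J (u • a)) {w : G}
    (hw : w ∈ F.M2 j) : cj w (F.D {k}) = F.D {k} := by
  have h5 := c.nm_of_atm h h1 h4 (K := F.toPS.RR {j} {k}) (fun d hd => F.toPS.nm_RR_of_not_adj hne hn hd)
    (fun d hd => by
      rw [← c.toCx.lab_of_nm_V h1 h2, c.toCx.atm_lab h1] at hd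
      rw [← F.toPS.cj_RR h2 h3]
      exact nm_cj_iff.2 (F.toPS.nm_RR_of_not_adj hne hn (mem_cj.1 hd))) hw
  rw [← F.toPS.RR_sup (J := {j}) hne.symm]
  exact nm_sup h5 ((c.aff h).nmX w hw)

/-- independence inside a module -/
theorem nm_D {i j k : I} {Q : Subgroup G} (h : F.AIn T a (F.Ob T a i)ᶜ Q j) (hk : k ∉ F.Ob T a i) (hne : j ≠ k) {w : G}
    (hw : w ∈ F.M2 j) : cj w (F.D {k}) = F.D {k} := by
  by_cases h1 : F.toPS.Act (F.toPS.V (F.Ob T a i)ᶜ) Q k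
  · obtain ⟨h2, h3⟩ := Md.rank2 (S := F.toPS) h.md hne h.mem hk h.split (FS.split_of_act h.md hk h1) h.act h1
    obtain ⟨z, hz, h4⟩ := SetLike.not_le_iff_exists.1 h.act
    obtain ⟨u, hu, v, hv, rfl⟩ := h3 z hz
    have h5 := Cm_anti (F.toPS.X_le _) hv
    exact c.nm_D_of_swap ⟨i, Q, h⟩ hne h2 (h.toMdl.nm_X h5) (h.toMdl.nm_V h.sub h5)
      (h.toMdl.nm_D (Set.singleton_subset_iff.2 hk) hv)
      (fun h6 => h4 (mul_mem hu ((Md.mem_D (S := F.toPS) h.md h.sub).2 ⟨hv.1, h6⟩))) hw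
  · exact nm_of_sup (fun x hx => F.toPS.nm_X hx _)
      (fun z hz => h.toMdl.nm_D (Set.singleton_subset_iff.2 hk) (not_not.1 h1 hz)) w
      ((h.aff2 c.toCx (c.three j ⟨i, Q, h⟩)).2 hw)

theorem mem_J {i j k : I} {Q : Subgroup G} (h : F.AIn T a (F.Ob T a i)ᶜ Q j) (hk : k ∉ F.Ob T a i) (hne : j ≠ k) {w : G}
    (hw : w ∈ F.M2 j) : k ∈ F.J (w • a) := (c.toCx.mem_J_of_nm (c.nm_D h hk hne hw)).2 (c.toCx.self_mem_J k)

theorem lab_mem_J {j : I} (h : F.AN T a j) {w : G} (hw : w ∈ F.M2 j) (h1 : w ∉ F.X) {k : I} (hk : k ∈ F.J (w • a)) :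
    F.lab w k ∈ F.J (w • a) := by
  have h2 := (c.aff h).nmX w hw
  have h3 := (cj_le_stab (g := w)).2 hk
  rw [← c.inv_smul_eq h hw h1 c.toCx.S.X_fix, smul_inv_smul, ← c.toCx.atm_lab h2, ← one_smul G a,
    c.toCx.atm_fix_iff (cj_one _) h2, FS.atm_one] at h3
  exact (c.toCx.mem_J_iff h2).2 h3.symm

theorem lab_inv_not_mem_J {j : I} (h : F.AN T a j) {w : G} (hw : w ∈ F.M2 j) (h1 : w ∉ F.X) {k : I}
    (hk : k ∉ F.J (w • a)) : F.lab w⁻¹ k ∉ F.J (w • a) := fun h2 =>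
  hk (c.toCx.lab_lab_inv ((c.aff h).nmX w hw) k ▸ c.lab_mem_J h hw h1 h2)

theorem conj_mem {j : I} {w g : G} (hw : w ∈ F.M2 j) (h1 : w ∉ F.X) (hg : cj g F.X = F.X) :
    g * w * g⁻¹ ∈ F.M2 (F.lab g j) ∧ g * w * g⁻¹ ∉ F.X :=
  ⟨c.toCx.cj_M2 hg j ▸ conj_mem_cj g hw, fun h2 => h1 (conj_mem_cj_iff.1 (hg.symm ▸ h2))⟩

theorem smul_wt {j k : I} (hk : F.AN T a k) {w w' g : G} (hw : w ∈ F.M2 j) (h1 : w ∉ F.X) (hw' : w' ∈ F.M2 k)
    (h2 : w' ∉ F.X) (hg : cj g F.X = F.X) (h3 : F.lab g j = k) {b : Ω} (hb : F.X ≤ stabilizer G b) :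
    g • w • b = w' • g • b := by
  obtain ⟨h4, h5⟩ := c.conj_mem hw h1 hg
  rw [← c.smul_eq hk (h3 ▸ h4) h5 hw' h2 (le_stab_smul hg hb), ← mul_smul, ← mul_smul, inv_mul_cancel_right]

theorem fix_wt {j : I} (hj : F.AN T a j) {w g : G} (hw : w ∈ F.M2 j) (h1 : w ∉ F.X) (ha : g • a = a)
    (hg : cj g F.X = F.X) (h3 : F.lab g j = j) : g • w • a = w • a := by
  rw [c.smul_wt hj hw h1 hw h1 hg h3 c.toCx.S.X_fix, ha]

theorem lab_eq_of {g g' : G} (hg : cj g F.X = F.X) (hg' : cj g' F.X = F.X) {j : I} (h : F.lab g j = F.lab g' j) :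
    F.lab (g⁻¹ * g') j = j := by rw [c.toCx.lab_mul (nm_inv hg) hg', ← h, c.toCx.lab_inv_lab hg]

/-- two blocks meet -/
theorem blocks_meet {j k : I} (hj : F.AN T a j) (hk : F.AN T a k) {w w' : G} (hw : w ∈ F.M2 j) (h1 : w ∉ F.X)
    (hw' : w' ∈ F.M2 k) (h2 : w' ∉ F.X) : ∃ l, l ∉ F.J (w • a) ∧ l ∉ F.J (w' • a) := by
  by_contra hc
  push Not at hc
  wlog hle : (F.J (w • a))ᶜ.ncard ≤ (F.J (w' • a))ᶜ.ncard generalizing j k w w'
  · exact this hk hj hw' h2 hw h1 (fun l hl => by_contra fun h3 => hl (hc l h3)) (le_of_not_ge hle)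
  have x₁ := (c.aff hj).nmX w hw
  have x₂ := (c.aff hk).nmX w' hw'
  have x₃ := nm_mul x₁ x₂
  have h3 : ∀ l, l ∉ F.J (w • a) → l ∉ F.J ((w * w') • a) := fun l hl h3 => hl ((c.toCx.J_congr x₃ x₁
    (c.toCx.atm_prod x₁ x₂ (A := (F.J (w • a))ᶜ) (fun l hl => c.lab_inv_not_mem_J hj hw h1 hl) hc hl)).1 h3)
  have h4 : F.lab w '' (F.J (w' • a))ᶜ ⊆ F.J (w • a) := by
    rintro _ ⟨l, hl, rfl⟩
    exact c.lab_mem_J hj hw h1 (by_contra fun h4 => hl (hc l h4))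
  have h5 : (F.lab w '' (F.J (w' • a))ᶜ).ncard = (F.J (w' • a))ᶜ.ncard :=
    Set.ncard_image_of_injective _ fun _ _ h => c.toCx.lab_inj x₁ h
  have h6 := (c.aff hj).not_mem_J c.toCx hw h1
  have h7 := c.toCx.S.pt c.A (c.toCx.ne_of_not_J h6) (c.toCx.ne_of_not_J (h3 j h6)) (c.toCx.X_fix x₁) (c.toCx.X_fix x₃)
    (F.toPS.pow_mul_le (A := F.lab w '' (F.J (w' • a))ᶜ) (Set.toFinite _) (Set.disjoint_left.2 (by
      rintro _ ⟨l, hl, rfl⟩ h7
      rw [mul_smul, c.toCx.J_prod x₁ (h4 ⟨l, hl, rfl⟩), c.toCx.lab_inv_lab x₁] at h7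
      exact hl h7)) h4 fun l hl => by_contra fun h7 => h3 l h7 hl)
    (fun g => F.lab g j) ((F.J (w • a))ᶜ ∪ F.lab w '' (F.J (w' • a))ᶜ) (Set.toFinite _)
    (fun g hg => by
      by_cases h7 : F.lab g j ∈ F.J (w • a)
      · refine Or.inr ⟨_, fun h8 => h3 j h6 ?_, c.toCx.lab_lab_inv x₁ _⟩
        rw [← c.toCx.lab_mem_J hg.1.1 (nm_iff.1 hg.2), show g • (w * w') • a = (w * w') • a from hg.1.2, mul_smul,
          c.toCx.J_prod x₁ h7]
        exact h8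
      · exact Or.inl h7)
    (fun g hg g' hg' h7 => c.fix_wt hj hw h1 (mul_mem (inv_mem hg) hg').1.1 (nm_iff.1 (mul_mem (inv_mem hg) hg').2)
      (c.lab_eq_of (nm_iff.1 hg.2) (nm_iff.1 hg'.2) h7))
  have h8 := Set.ncard_union_le (F.J (w • a))ᶜ (F.lab w '' (F.J (w' • a))ᶜ)
  have h9 := two_mul_lt_three_pow (F.J (w' • a))ᶜ.ncard
  rw [h5] at h7 h8
  omega

/-- no block is a singleton -/
theorem exists_blk {j : I} (hj : F.AN T a j) {w : G} (hw : w ∈ F.M2 j) (h1 : w ∉ F.X) :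
    ∃ k, k ≠ j ∧ k ∉ F.J (w • a) := by
  by_contra hc
  push Not at hc
  have aj := c.aff hj
  have x₁ := aj.nmX w hw
  have h2 : ∀ g, g • a = a → cj g F.X = F.X → F.lab g j = j := fun g ha hg => by
    obtain ⟨h2, h3⟩ := c.conj_mem hw h1 hg
    obtain ⟨l, h4, h5⟩ := c.blocks_meet hj (c.toCx.AN_lab hj ha hg) hw h1 h2 h3
    obtain rfl : l = j := by_contra fun h6 => h4 (hc l h6)
    rw [mul_smul, mul_smul, inv_smul_eq_iff.2 ha.symm, ← c.toCx.lab_lab_inv hg l, c.toCx.lab_mem_J ha hg] at h5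
    have h6 : F.lab g⁻¹ l = l := by_contra fun h6 => h5 (hc _ h6)
    conv_lhs => rw [← h6]
    exact c.toCx.lab_lab_inv hg l
  obtain ⟨y, hy, h3⟩ := aj.exists_pt c.toCx
  have hX : F.X ≤ stabilizer G y := (F.toPS.X_le _).trans h3
  have h4 : j ∉ F.J (w • y) := fun h4 => h1 (aj.uniq y h3 w hw h4)
  have h5 : ∀ k, k ≠ j → cj w (F.D {k}) = F.D {F.lab w k} := fun k hk => by
    rw [← c.toCx.atm_lab x₁, (c.toCx.mem_J_iff x₁).1 (c.lab_mem_J hj hw h1 (hc k hk))]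
  have h6 : cj w (F.D (F.J y \ {j})) = F.D (F.J (w • y)) := F.toPS.cj_D_eq x₁
    (fun k hk => ⟨_, by rw [FS.mem_J, ← h5 k hk.2, cj_le_stab]; exact hk.1, h5 k hk.2⟩) fun k hk => by
      have h6 : F.lab w⁻¹ k ≠ j := fun h6 => h4 (by rwa [← c.toCx.lab_lab_inv x₁ k, h6, aj.lab c.toCx hw] at hk)
      have h7 := h5 _ h6
      rw [c.toCx.lab_lab_inv x₁] at h7
      exact ⟨_, ⟨by rwa [FS.mem_J, ← h7, cj_le_stab] at hk, h6⟩, h7⟩
  have h7 := c.toCx.S.pt c.A hy (c.toCx.ne_of_not_J h4) hX (le_stab_smul x₁ hX) (c := 3)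
    (by
      rw [F.toPS.W_eq_of_cj x₁ h6]
      exact F.toPS.three_mul_le' Set.sdiff_subset (fun h7 => h7.2 rfl) h3)
    (fun _ => ()) {()} (Set.toFinite _) (fun _ _ => rfl) (fun g hg g' hg' _ => by
      have h8 := mul_mem (inv_mem hg) hg'
      generalize g⁻¹ * g' = h at h8
      have h9 := c.smul_wt hj hw h1 hw h1 (nm_iff.1 h8.2) (h2 h h8.1.1 (nm_iff.1 h8.2)) hX
      exact MulAction.injective w (h9.symm.trans h8.1.2))
  rw [Set.ncard_singleton] at h7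
  omega

/-- there is no third orbit -/
theorem two_orbits {i j : I} {Q : Subgroup G} (h : F.AIn T a (F.Ob T a i)ᶜ Q j) (l : I) :
    l ∈ F.Ob T a i ∨ l ∈ F.Ob T a j := by
  by_contra hc
  push Not at hc
  have hj : F.AN T a j := ⟨i, Q, h⟩
  have aj := c.aff hj
  obtain ⟨w, hw, h1⟩ := aj.ne
  have x₁ := aj.nmX w hw
  have h2 : j ∉ F.Ob T a l := fun h2 => hc.2 (c.toCx.Ob_symm h2)
  have h3 : ∀ k, k ∉ F.J (w • a) → k = j ∨ k ∈ F.Ob T a i := fun k hk => by_contra fun h3 =>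
    hk (c.mem_J h (fun h4 => h3 (Or.inr h4)) (fun h4 => h3 (Or.inl h4.symm)) hw)
  have h4 : ∀ k ∈ F.Ob T a l, k ∈ F.J (w • a) := fun k hk => by_contra fun h4 => (h3 k h4).elim
    (fun h5 => h2 (h5 ▸ hk)) fun h5 => hc.1 (c.toCx.Ob_eq h5 ▸ c.toCx.Ob_symm hk)
  rcases c.toCx.pas_or l with ⟨R, hR⟩ | ⟨k, R, hR⟩
  · obtain ⟨k, h5, h6⟩ := c.toCx.pas_disj' hR x₁ (aj.smul_ne c.toCx hw h1)
    exact h6 (h4 k h5)
  have h5 : ¬ F.toPS.Act (F.toPS.V (F.Ob T a l)ᶜ) R j := fun h5 => by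
    obtain ⟨k', h6, h7⟩ := c.exists_blk hj hw h1
    exact h7 (c.mem_J ⟨hR.toMdl, h2, h5⟩ (fun h8 => h7 (h4 k' h8)) h6.symm hw)
  have h6 : k ∉ F.J (w • a) := by
    have hk : F.AN T a k := ⟨l, R, hR⟩
    obtain ⟨w', hw', h6⟩ := (c.aff hk).ne
    obtain ⟨k', h7, h8⟩ := c.blocks_meet hj hk hw h1 hw' h6
    rwa [show k = k' from by_contra fun h9 => h8 (c.mem_J hR (fun h10 => h7 (h4 k' h10)) h9 hw')]
  have h7 : ∀ k', F.AIn T a (F.Ob T a l)ᶜ R k' → j ≠ k' ∧ ¬ F.toPS.Adj j k' := fun k' hk' =>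
    ⟨fun h7 => h5 (h7 ▸ hk'.act), fun h7 => aj.not_mem_J c.toCx hw h1 (Md.aff2 (S := F.toPS) hR.md c.toCx.S c.A hR.semi
      hk'.mem h2 hk'.split hk'.act h5 (F.toPS.adj_symm h7) (c.toCx.X_fix x₁) ((F.toPS.V_le _).trans (c.toCx.X_fix x₁)))⟩
  have h8 := c.lab_inv_not_mem_J hj hw h1 h6
  have h9 : F.AIn T a (F.Ob T a l)ᶜ R (F.lab w⁻¹ k) := c.toCx.ain_of_Ob hR (c.toCx.Ob_trans
    ((h3 k h6).resolve_left (h7 k hR).1.symm) ((h3 _ h8).resolve_left fun h9 => (h7 k hR).1 (by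
      rw [← c.toCx.lab_lab_inv x₁ k, h9, aj.lab c.toCx hw])))
  obtain ⟨u, hu, h10⟩ := SetLike.not_le_iff_exists.1 hR.act
  have x₂ := hR.toMdl.nm_X hu
  have hjl : ({j} : Set I) ⊆ (F.Ob T a l)ᶜ := Set.singleton_subset_iff.2 h2
  have h11 : cj u (F.D {k}) = cj w (F.D {F.lab w⁻¹ k}) := by
    rw [← hR.atm_eq c.toCx hu]
    exact c.atm_eq_of ⟨l, R, hR⟩ x₂ x₁ (fun h11 => h10 ((Md.mem_D (S := F.toPS) hR.md hR.sub).2 ⟨hu.1, h11⟩)) h6
  have h12 := F.toPS.cj_RR (h := w⁻¹ * u) (nm_mul (nm_inv (aj.nmV w hw)) (hR.toMdl.nm_V hjl hu))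
    (by rw [cj_mul, h11, cj_inv_cj] : cj (w⁻¹ * u) (F.D {k}) = F.D {F.lab w⁻¹ k})
  have h13 := c.nm_of_atm hj x₁ (aj.not_mem_J c.toCx hw h1) (K := cj w (F.toPS.RR {j} {F.lab w⁻¹ k}))
    (fun d hd => by
      rw [← h12, ← cj_mul w, mul_inv_cancel_left]
      exact nm_cj_iff.2 (F.toPS.nm_RR_of_not_adj (h7 k hR).1 (h7 k hR).2
        (nm_conj' (hR.toMdl.nm_D hjl (not_not.1 h5 hu)) hd)))
    (fun d hd => by
      rw [aj.atm_eq c.toCx hw] at hd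
      exact nm_cj_iff.2 (F.toPS.nm_RR_of_not_adj (h7 _ h9).1 (h7 _ h9).2 (mem_cj.1 hd))) hw
  refine h8 ((c.toCx.mem_J_of_nm ?_).2 (c.toCx.self_mem_J _))
  rw [← F.toPS.RR_sup (J := {j}) (h7 _ h9).1.symm]
  exact nm_sup (cj_inj w h13) x₁

section Fam

variable {i : I} {Q : Subgroup G} (hO : ∀ j, j ∉ F.Ob T a i → F.AIn T a (F.Ob T a i)ᶜ Q j)
  (hQ : F.Mdl T a (F.Ob T a i)ᶜ Q)

include hO hQ

theorem MS_le {A : Set I} (hA : A ⊆ (F.Ob T a i)ᶜ) : F.MS A ≤ F.X ⊔ Cm Q (F.toPS.V (F.Ob T a i)ᶜ) F.X :=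
  FS.MS_le le_sup_left fun j hj => ((hO j (hA hj)).aff2 c.toCx (c.three j ⟨i, Q, hO j (hA hj)⟩)).2

theorem MS_nmX {A : Set I} (hA : A ⊆ (F.Ob T a i)ᶜ) {u : G} (hu : u ∈ F.MS A) : cj u F.X = F.X :=
  nm_of_sup (fun _ hx => cj_of_mem hx) (fun _ hz => hQ.nm_X hz) u (c.MS_le hO hQ hA hu)

theorem MS_nmV {A : Set I} (hA : A ⊆ (F.Ob T a i)ᶜ) {u : G} (hu : u ∈ F.MS A) {j : I} (hj : j ∉ F.Ob T a i) :
    cj u (F.toPS.V {j}) = F.toPS.V {j} :=
  nm_of_sup (fun _ hx => F.toPS.nm_V (F.toPS.X_le _ hx)) (fun _ hz => hQ.nm_V (Set.singleton_subset_iff.2 hj) hz) u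
    (c.MS_le hO hQ hA hu)

theorem MS_lab {A : Set I} (hA : A ⊆ (F.Ob T a i)ᶜ) {u : G} (hu : u ∈ F.MS A) {j : I} (hj : j ∉ F.Ob T a i) :
    F.lab u j = j := c.toCx.lab_of_nm_V (c.MS_nmX hO hQ hA hu) (c.MS_nmV hO hQ hA hu hj)

theorem MS_isP : IsPGroup p (F.MS (F.Ob T a i)ᶜ) :=
  hQ.isP_sup.to_le ((c.MS_le hO hQ subset_rfl).trans (sup_le_sup_left Cm_le _))

theorem MS_T : F.MS (F.Ob T a i)ᶜ ≤ T :=
  (c.MS_le hO hQ subset_rfl).trans (sup_le c.toCx.S.X_T (Cm_le.trans hQ.leT))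

theorem exists_flip {b : Ω} (hb : F.X ≤ stabilizer G b) :
    ∃ u ∈ F.MS (F.Ob T a i)ᶜ, ∀ j, j ∉ F.Ob T a i → j ∉ F.J (u • b) := by
  have key : ∀ A : Set I, A.Finite → A ⊆ (F.Ob T a i)ᶜ → ∃ u ∈ F.MS (F.Ob T a i)ᶜ, ∀ j ∈ A, j ∉ F.J (u • b) := by
    intro A hA
    induction A, hA using Set.Finite.induction_on with
    | empty => exact fun _ => ⟨1, one_mem _, fun _ h => h.elim⟩
    | @insert j A _ _ ih =>
      intro h1
      obtain ⟨u, hu, h2⟩ := ih ((Set.subset_insert _ _).trans h1)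
      have hj : j ∉ F.Ob T a i := h1 (Set.mem_insert _ _)
      by_cases h3 : j ∈ F.J (u • b)
      · have aj := c.aff ⟨i, Q, hO j hj⟩
        obtain ⟨w, hw, h4⟩ := aj.ne
        refine ⟨w * u, mul_mem (FS.M2_le_MS hj hw) hu, fun k hk h5 => ?_⟩
        rw [mul_smul] at h5
        by_cases h6 : j = k
        · exact h4 (aj.uniq _ h3 w hw (h6 ▸ h5))
        · exact h2 k (hk.resolve_left (Ne.symm h6)) ((c.toCx.mem_J_of_nm (c.nm_D (hO j hj) (h1 hk) h6 hw)).1 h5)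
      · exact ⟨u, hu, by rintro k (rfl | hk); exacts [h3, h2 k hk]⟩
  exact key _ (Set.toFinite _) subset_rfl

theorem mem_X_of_nm {u : G} (hu : u ∈ F.MS (F.Ob T a i)ᶜ) (h : ∀ j, j ∉ F.Ob T a i → cj u (F.D {j}) = F.D {j}) :
    u ∈ F.X := by
  have key : ∀ A : Set I, A.Finite → A ⊆ (F.Ob T a i)ᶜ → ∀ u ∈ F.MS A, (∀ j ∈ A, cj u (F.D {j}) = F.D {j}) →
      u ∈ F.X := by
    intro A hA
    induction A, hA using Set.Finite.induction_on with
    | empty => exact fun _ u hu _ => FS.MS_le le_rfl (fun _ h => h.elim) hu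
    | @insert j A hjA _ ih =>
      intro h1 u hu h2
      have hA := (Set.subset_insert _ _).trans h1
      have hj : j ∉ F.Ob T a i := h1 (Set.mem_insert _ _)
      obtain ⟨v, hv, w, hw, rfl⟩ := mem_sup_nm (P := F.MS A) (Q := F.M2 j)
        (fun x hx => by rw [c.toCx.cj_M2 (c.MS_nmX hO hQ hA hx), c.MS_lab hO hQ hA hx hj])
        (FS.MS_le (le_sup_left.trans le_sup_left) (by
          rintro k (rfl | hk)
          exacts [le_sup_right, (FS.M2_le_MS hk).trans le_sup_left]) hu)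
      have h3 : cj v (F.D {j}) = F.D {j} := nm_iff.1 (FS.MS_le (K := Subgroup.normalizer (F.D {j} : Set G))
        (fun x hx => nm_iff.2 (F.toPS.nm_X hx _))
        (fun k hk x hx => nm_iff.2 (c.nm_D (hO k (hA hk)) hj (fun h3 => hjA (h3 ▸ hk)) hx)) hv)
      have h4 := (c.aff ⟨i, Q, hO j hj⟩).mem_of_nm c.toCx hw (by
        have h4 := nm_mul (nm_inv h3) (h2 j (Set.mem_insert _ _))
        rwa [inv_mul_cancel_left] at h4)
      exact ih hA _ (mul_mem hv (Subgroup.mem_sup_left h4)) fun k hk => h2 k (Set.mem_insert_of_mem _ hk)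
  exact key _ (Set.toFinite _) subset_rfl u hu h

theorem exists_top : ∃ y, F.Top a (F.Ob T a i)ᶜ y := by
  obtain ⟨u, hu, h⟩ := c.exists_flip hO hQ c.toCx.S.X_fix
  exact ⟨_, ⟨u, hu, rfl⟩, h⟩

theorem top_unique {y y' : Ω} (h : F.Top a (F.Ob T a i)ᶜ y) (h' : F.Top a (F.Ob T a i)ᶜ y') : y = y' := by
  obtain ⟨⟨u, hu, rfl⟩, h1⟩ := h
  obtain ⟨⟨u', hu', rfl⟩, h2⟩ := h'
  have x₁ := c.MS_nmX hO hQ subset_rfl hu
  have x₂ := c.MS_nmX hO hQ subset_rfl hu'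
  have h3 := c.mem_X_of_nm hO hQ (mul_mem (inv_mem hu) hu') fun j hj => by
    have h3 := c.atm_eq_of ⟨i, Q, hO j hj⟩ x₁ x₂ (h1 j hj) (h2 j hj)
    rw [FS.atm, FS.atm, c.MS_lab hO hQ subset_rfl (inv_mem hu) hj, c.MS_lab hO hQ subset_rfl (inv_mem hu') hj] at h3
    rw [cj_mul, ← h3, cj_inv_cj]
  have h4 : (u⁻¹ * u') • a = a := c.toCx.S.X_fix h3
  rw [mul_smul, inv_smul_eq_iff] at h4
  exact h4.symm

theorem top_fix {y : Ω} (h : F.Top a (F.Ob T a i)ᶜ y) {g : G} (ha : g • a = a) (hg : cj g F.X = F.X)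
    (h1 : ∀ k, F.lab g k ∈ F.Ob T a i ↔ k ∈ F.Ob T a i) : g • y = y :=
  c.top_unique hO hQ (c.toCx.top_smul ha hg (fun k => not_congr (h1 k).symm) h) h

/-- the type of the top word is empty or the whole orbit -/
theorem top_J {y : Ω} (h : F.Top a (F.Ob T a i)ᶜ y) : F.J y = ∅ ∨ F.J y = F.Ob T a i := by
  rcases (F.J y).eq_empty_or_nonempty with h1 | ⟨k, hk⟩
  · exact Or.inl h1
  refine Or.inr (Set.Subset.antisymm (fun l hl => by_contra fun h2 => h.2 l h2 hl) fun l hl => ?_)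
  obtain ⟨g, hg, rfl⟩ := c.toCx.Ob_trans (by_contra fun h2 => h.2 k h2 hk) hl
  rw [← c.top_fix hO hQ h (Np_fix hg) (Np_nm hg) fun k => c.toCx.lab_mem_Ob_iff hg]
  exact (c.toCx.lab_mem_J (Np_fix hg) (Np_nm hg)).2 hk

omit hQ in
/-- the orbit is a singleton if the type of `y_j` is small -/
theorem eq_of_W_le {j : I} (hj : j ∉ F.Ob T a i) {w : G} (hw : w ∈ F.M2 j)
    (h : F.toPS.W (F.J (w • a)) ≤ (F.Ob T a i)ᶜ.ncard) {k : I} (hk : k ∉ F.Ob T a i) : k = j := by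
  have h1 := (F.toPS.pow_le_W (Set.toFinite ((F.Ob T a i)ᶜ \ {j}))).trans ((F.toPS.W_mono
    fun l hl => c.mem_J (hO j hj) hl.1 (Ne.symm hl.2) hw).trans h)
  have h2 := two_mul_lt_three_pow ((F.Ob T a i)ᶜ \ {j}).ncard
  have h3 := Set.ncard_sdiff_singleton_add_one (s := (F.Ob T a i)ᶜ) hj
  by_contra h4
  have h5 := (Set.ncard_pos (Set.toFinite ((F.Ob T a i)ᶜ \ {j}))).2 ⟨k, hk, h4⟩
  omega

end Fam

end Cx2

end Cfsg.Agent.TH.Own
end

-- part: TH/Own/OneD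
section
/-!
# S3541: `BoxOne` (helper74).  Two orbits of nodes: both active (C1), active and passive (C2).
-/

set_option autoImplicit false
set_option linter.unusedSectionVars false
set_option linter.unusedVariables false

namespace Cfsg.Agent.TH.Own

open MulAction

variable {G : Type*} [Group G] {p : ℕ} {I : Type*} {Ω : Type*} [MulAction G Ω]

/-- two orbits, both active -/
structure FS.Both (F : FS G p I) (T : Subgroup G) (a : Ω) (i j : I) (Q R : Subgroup G) : Prop where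
  hij : ∀ k, k ∉ F.Ob T a i ↔ k ∈ F.Ob T a j
  hQ : F.Mdl T a (F.Ob T a i)ᶜ Q
  hO : ∀ k, k ∉ F.Ob T a i → F.AIn T a (F.Ob T a i)ᶜ Q k
  hR : F.Mdl T a (F.Ob T a j)ᶜ R
  hO' : ∀ k, k ∉ F.Ob T a j → F.AIn T a (F.Ob T a j)ᶜ R k

variable {F : FS G p I} {T : Subgroup G} {m : ℕ} {a : Ω}

theorem FS.Both.symm {i j : I} {Q R : Subgroup G} (h : F.Both T a i j Q R) : F.Both T a j i R Q :=
  ⟨fun k => by rw [← h.hij, not_not], h.hR, h.hO', h.hQ, h.hO⟩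

theorem FS.Both.AN {i j : I} {Q R : Subgroup G} (h : F.Both T a i j Q R) (k : I) : F.AN T a k := by
  by_cases hk : k ∈ F.Ob T a i
  · exact ⟨j, R, h.hO' k ((h.symm.hij k).2 hk)⟩
  · exact ⟨i, Q, h.hO k hk⟩

variable [Finite G] [hp : Fact p.Prime] [Finite I]

theorem Cx.pres (c : Cx F T m a) {g : G} (ha : g • a = a) (hg : cj g F.X = F.X) {i l : I} (hl : l ∈ F.Ob T a i) {j : I}
    (h : F.lab g l ∈ F.Ob T a j) (k : I) : F.lab g k ∈ F.Ob T a j ↔ k ∈ F.Ob T a i := by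
  rw [← c.Ob_eq h, c.lab_Ob ha hg, c.Ob_eq hl]

theorem Cx.pt1 (c : Cx F T m a) {y z : Ω} (hy : y ≠ a) (hz : z ≠ a) (hXy : F.X ≤ stabilizer G y)
    (hXz : F.X ≤ stabilizer G z) (h : ∀ g ∈ BH a z F.X, g • y = y) :
    ¬ 3 * F.toPS.W (F.J z) ≤ F.toPS.W (F.J y) := fun h1 => by
  have h2 := c.S.pt c.A hy hz hXy hXz h1 (fun _ => ()) {()} (Set.toFinite _) (fun _ _ => rfl)
    fun g hg g' hg' _ => h _ (mul_mem (inv_mem hg) hg')
  rw [Set.ncard_singleton] at h2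
  omega

theorem PS.three_mul_empty (S : PS G p I) {L : Set I} {i : I} (h : i ∈ L) : 3 * S.W ∅ ≤ S.W L :=
  S.three_mul_le' (Set.empty_subset _) (Set.notMem_empty i) h

/-- if `X` is a Sylow subgroup of `T_a` then all its fixed points are good -/
theorem Cx.good (c : Cx F T m a) (h : MaxP p (T ⊓ stabilizer G a) F.X) {b : Ω} (hb : F.X ≤ stabilizer G b) :
    ∃ g, cj g F.X = F.X ∧ g • a = b := by
  obtain ⟨R, h1, h2, h3⟩ := c.A.exists_S a b F.isP c.S.X_T c.S.X_fix hb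
  rw [h.max R h2.isP h2.le h1] at h3
  obtain ⟨t, -, rfl⟩ := c.A.trans a b
  obtain ⟨e, he, h4⟩ := (c.conj t).S.inf_mem h3
  refine ⟨e * t, ?_, by rw [mul_smul]; exact (c.conj t).S.fix he⟩
  rw [cj_mul]
  exact Subgroup.eq_of_le_of_card_ge (h4.ge.trans inf_le_left) (by rw [card_cj, card_cj])

namespace Cx2

variable (c : Cx2 F T m a)

include c

section C1

variable {i j : I} {Q R : Subgroup G} (h : F.Both T a i j Q R)

include h

theorem pres_or {g : G} (ha : g • a = a) (hg : cj g F.X = F.X) :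
    (∀ k, F.lab g k ∈ F.Ob T a i ↔ k ∈ F.Ob T a i) ∨ ∀ k, F.lab g k ∈ F.Ob T a j ↔ k ∈ F.Ob T a i := by
  by_cases h1 : F.lab g i ∈ F.Ob T a i
  · exact Or.inl (c.toCx.pres ha hg (c.toCx.self_mem_Ob i) h1)
  · exact Or.inr (c.toCx.pres ha hg (c.toCx.self_mem_Ob i) ((h.hij _).1 h1))

theorem top_X {y : Ω} (hy : F.Top a (F.Ob T a i)ᶜ y) : y ≠ a ∧ F.X ≤ stabilizer G y := by
  refine ⟨c.toCx.ne_of_not_J (hy.2 j ((h.hij j).2 (c.toCx.self_mem_Ob j))), ?_⟩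
  obtain ⟨⟨u, hu, rfl⟩, -⟩ := hy
  exact c.toCx.X_fix (c.MS_nmX h.hO h.hQ subset_rfl hu)

theorem not_both {y z : Ω} (hy : F.Top a (F.Ob T a i)ᶜ y) (hz : F.Top a (F.Ob T a j)ᶜ z) (h1 : F.J y = F.Ob T a i)
    (h2 : F.J z = F.Ob T a j) : False := by
  obtain ⟨h3, h4⟩ := c.top_X h hy
  have hy' := hy
  obtain ⟨⟨u, hu, rfl⟩, h5⟩ := hy
  obtain ⟨⟨v, hv, rfl⟩, h6⟩ := hz
  have x₁ := c.MS_nmX h.hO h.hQ subset_rfl hu
  have x₂ := c.MS_nmX h.hO' h.hR subset_rfl hv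
  have x₃ := nm_mul x₁ x₂
  have h7 : F.J ((u * v) • a) = ∅ := Set.eq_empty_of_forall_notMem fun k hk => by
    by_cases h7 : k ∈ F.Ob T a i
    · rw [mul_smul, c.toCx.J_prod x₁ (h1 ▸ h7), h2] at hk
      exact (h.hij _).2 hk (c.toCx.lab_inv_mem x₁ (fun l hl => c.MS_lab h.hO h.hQ subset_rfl hu hl) h7)
    · exact h5 k h7 ((c.toCx.J_congr x₃ x₁ (c.toCx.atm_prod x₁ x₂ (A := (F.Ob T a i)ᶜ)
        (fun l hl => by rwa [c.MS_lab h.hO h.hQ subset_rfl (inv_mem hu) hl])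
        (fun l hl => h2 ▸ (h.hij l).1 hl) h7)).1 hk)
  have h8 := c.toCx.S.pt c.A h3 (c.toCx.ne_of_not_J (k := i) (h7 ▸ Set.notMem_empty i)) h4 (c.toCx.X_fix x₃) (c := 3)
    (by
      show 3 * F.toPS.W (F.J _) ≤ F.toPS.W (F.J _)
      rw [h7, h1]
      exact F.toPS.three_mul_empty (c.toCx.self_mem_Ob i))
    (fun g => F.Ob T a (F.lab g i)) {F.Ob T a i, F.Ob T a j} (Set.toFinite _)
    (fun g _ => by
      by_cases h8 : F.lab g i ∈ F.Ob T a i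
      · exact Or.inl (c.toCx.Ob_eq h8)
      · exact Or.inr (c.toCx.Ob_eq ((h.hij _).1 h8)))
    (fun g hg g' hg' h8 => by
      have h9 := mul_mem (inv_mem hg) hg'
      rw [← inv_smul_eq_iff.1 (c.top_fix h.hO h.hQ hy' (inv_mem h9).1.1 (nm_iff.1 (inv_mem h9).2)
        (c.toCx.stab_Ob hg.1.1 (nm_iff.1 hg.2) hg'.1.1 (nm_iff.1 hg'.2) h8))])
  have h9 := ncard_pair_le_two (F.Ob T a i) (F.Ob T a j)
  omega

theorem empty_of_empty {y z : Ω} (hy : F.Top a (F.Ob T a i)ᶜ y) (hz : F.Top a (F.Ob T a j)ᶜ z) (h1 : F.J y = ∅) :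
    F.J z = ∅ := by
  refine (c.top_J h.hO' h.hR hz).resolve_right fun h2 => ?_
  refine c.toCx.pt1 (c.top_X h.symm hz).1 (c.top_X h hy).1 (c.top_X h.symm hz).2 (c.top_X h hy).2 (fun g hg => ?_)
    (by rw [h1, h2]; exact F.toPS.three_mul_empty (c.toCx.self_mem_Ob j))
  have hX := nm_iff.1 hg.2
  rcases c.pres_or h.symm hg.1.1 hX with h3 | h3
  · exact c.top_fix h.hO' h.hR hz hg.1.1 hX h3
  · have h4 := c.top_unique h.hO h.hQ (c.toCx.top_smul hg.1.1 hX (fun k => not_congr (h3 k).symm) hz) hy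
    exact h4.trans (MulAction.injective g (h4.trans (show g • y = y from hg.1.2).symm)).symm

/-- a good point of empty type fixed by `B_H` -/
theorem exists_star : ∃ u, cj u F.X = F.X ∧ F.J (u • a) = ∅ ∧ ∀ g, g • a = a → cj g F.X = F.X → g • u • a = u • a := by
  obtain ⟨y, hy⟩ := c.exists_top h.hO h.hQ
  obtain ⟨z, hz⟩ := c.exists_top h.hO' h.hR
  have h1 : F.J y = ∅ := (c.top_J h.hO h.hQ hy).resolve_right fun h1 => by
    rcases c.top_J h.hO' h.hR hz with h2 | h2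
    · exact Set.notMem_empty i (c.empty_of_empty h.symm hz hy h2 ▸ h1 ▸ c.toCx.self_mem_Ob i)
    · exact c.not_both h hy hz h1 h2
  obtain ⟨⟨u, hu, rfl⟩, -⟩ := hy
  have x₁ := c.MS_nmX h.hO h.hQ subset_rfl hu
  refine ⟨u, x₁, h1, fun g ha hg => ?_⟩
  rw [← mul_smul]
  refine c.eq_of_J_eq (nm_mul hg x₁) x₁ (fun k => ?_) fun k _ => h.AN k
  rw [mul_smul, ← c.toCx.lab_lab_inv hg k, c.toCx.lab_mem_J ha hg, h1]
  rfl

theorem p_eq : p = 2 := by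
  obtain ⟨k, Q', h1⟩ := h.AN i
  obtain ⟨n, hn, h2⟩ := h1.split.exists_pow
  rw [c.three i (h.AN i)] at h2
  exact (Nat.prime_dvd_prime_iff_eq hp.1 Nat.prime_two).1 ((show p ^ n = 2 by omega) ▸ dvd_pow_self p hn.ne')

theorem single {k : I} (hk : k ∉ F.Ob T a i) : k = j := by
  obtain ⟨u, x₁, h1, h2⟩ := c.exists_star h
  choose w hw hw' using fun l => (c.aff (h.AN l)).ne
  have hj : j ∉ F.Ob T a i := (h.hij j).2 (c.toCx.self_mem_Ob j)
  have aj := c.aff (h.AN j)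
  have hy := aj.smul_ne c.toCx (hw j) (hw' j)
  have hX := c.toCx.X_fix (aj.nmX _ (hw j))
  have hz : u • a ≠ a := c.toCx.ne_of_not_J (k := i) (h1 ▸ Set.notMem_empty i)
  have h3 : ∀ g, g • a = a → cj g F.X = F.X → (∀ k, F.lab g k ∈ F.Ob T a i ↔ k ∈ F.Ob T a i) →
      g • w j • a ∈ (fun l => w l • a) '' (F.Ob T a i)ᶜ := fun g ha hg h3 =>
    ⟨F.lab g j, fun h4 => hj ((h3 j).1 h4), by
      rw [c.smul_wt (h.AN _) (hw j) (hw' j) (hw _) (hw' _) hg rfl c.toCx.S.X_fix, ha]⟩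
  refine c.eq_of_W_le h.hO hj (hw j) (le_trans ?_ (Set.ncard_image_le (f := fun l => w l • a))) hk
  refine c.toCx.S.pt c.A hy hz hX (c.toCx.X_fix x₁) (by
    show _ * F.toPS.W (F.J _) ≤ _
    rw [h1, F.toPS.W_empty, mul_one]) (fun g => g • w j • a) _ (Set.toFinite _) (fun g hg => ?_)
    fun g _ g' _ h4 => by rw [mul_smul, ← h4, inv_smul_smul]
  rcases c.pres_or h hg.1.1 (nm_iff.1 hg.2) with h4 | h4
  · exact h3 g hg.1.1 (nm_iff.1 hg.2) h4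
  -- an element of the stabiliser of `y_j` swaps the orbits
  obtain ⟨s, hs, h5⟩ : ∃ s ∈ BH a (w j • a) F.X, ∀ k, F.lab s k ∈ F.Ob T a j ↔ k ∈ F.Ob T a i := by
    by_contra h5
    let N := Subgroup.normalizer (F.D (F.Ob T a i) : Set G)
    have e1 : ∀ s, s • a = a → cj s F.X = F.X → (s ∈ N ↔ F.lab s i ∈ F.Ob T a i) := fun s ha hs => by
      rcases c.pres_or h ha hs with h6 | h6
      · exact iff_of_true (nm_iff.2 (c.toCx.cj_D_set ha hs fun k => (h6 k).symm)) ((h6 i).2 (c.toCx.self_mem_Ob i))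
      · refine iff_of_false (fun h7 => hj ?_) ((h.hij _).2 ((h6 i).2 (c.toCx.self_mem_Ob i)))
        rw [F.toPS.D_inj ((nm_iff.1 h7).symm.trans (c.toCx.cj_D_set ha hs fun k => (h6 k).symm))]
        exact c.toCx.self_mem_Ob j
    have e2 : BH a (w j • a) F.X ≤ BH a (u • a) F.X ⊓ N := fun s hs =>
      ⟨⟨⟨hs.1.1, h2 s hs.1.1 (nm_iff.1 hs.2)⟩, hs.2⟩, (e1 s hs.1.1 (nm_iff.1 hs.2)).2
        (((c.pres_or h hs.1.1 (nm_iff.1 hs.2)).resolve_right fun h6 => h5 ⟨s, hs, h6⟩) i |>.2 (c.toCx.self_mem_Ob i))⟩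
    have e3 : N.relIndex (BH a (u • a) F.X) = 2 := Subgroup.index_eq_two_iff.2 ⟨⟨g, hg⟩, fun b => by
      have hb := nm_iff.1 b.2.2
      rw [Subgroup.mem_subgroupOf, Subgroup.mem_subgroupOf, e1 _ (b * ⟨g, hg⟩).2.1.1 (nm_iff.1 (b * ⟨g, hg⟩).2.2),
        e1 _ b.2.1.1 hb, Subgroup.coe_mul, c.toCx.lab_mul hb (nm_iff.1 hg.2)]
      have h6 := (h4 i).2 (c.toCx.self_mem_Ob i)
      rcases c.pres_or h b.2.1.1 hb with h7 | h7
      · exact Or.inr ⟨(h7 i).2 (c.toCx.self_mem_Ob i), fun h8 => (h.hij _).2 h6 ((h7 _).1 h8)⟩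
      · exact Or.inl ⟨by_contra fun h8 => (h.hij _).2 h6 ((h7 _).1 ((h.hij _).1 h8)),
          (h.hij _).2 ((h7 i).2 (c.toCx.self_mem_Ob i))⟩⟩
    have e4 := card_mul_relIndex (inf_le_left : BH a (u • a) F.X ⊓ N ≤ _)
    have e5 := card_mul_relIndex e2
    have e6 := (c.toCx.S.m_eq c.A hy hX).trans (c.toCx.S.m_eq c.A hz (c.toCx.X_fix x₁)).symm
    rw [Subgroup.inf_relIndex_left, e3, ← e5] at e4
    rw [show F.toPS.typ (stabilizer G (u • a)) = ∅ from h1, F.toPS.W_empty, one_mul, ← e4, mul_comm, mul_assoc] at e6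
    refine F.toPS.not_dvd_W (F.toPS.typ (stabilizer G (w j • a))) ?_
    rw [Nat.eq_of_mul_eq_mul_left Nat.card_pos e6]
    exact Dvd.dvd.mul_left (dvd_of_eq (c.p_eq h)) _
  have h6 := h3 (g * s) (by rw [mul_smul, show s • a = a from hs.1.1]; exact hg.1.1)
    (nm_mul (nm_iff.1 hg.2) (nm_iff.1 hs.2)) fun k => by
      rw [c.toCx.lab_mul (nm_iff.1 hg.2) (nm_iff.1 hs.2), ← h5 k, ← h.hij, ← h4 (F.lab s k), h.symm.hij]
  rwa [mul_smul, show s • w j • a = w j • a from hs.1.2] at h6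

theorem c1 : False := by
  obtain ⟨u, x₁, h1, h2⟩ := c.exists_star h
  have hI : ∀ k, k = i ∨ k = j := fun k => by
    by_cases hk : k ∈ F.Ob T a i
    · exact Or.inl (c.single h.symm ((h.symm.hij k).2 hk))
    · exact Or.inr (c.single h hk)
  have hsp : ∀ k, F.toPS.Split k := fun k => by
    obtain ⟨_, _, h3⟩ := h.AN k
    exact h3.split
  have hadj : ∀ k, ∃ l, F.toPS.Adj k l := fun k => by
    by_contra h3
    have h4 := F.iso5 k (hsp k) fun l hl => h3 ⟨l, hl⟩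
    have h5 : nS (F.D {k}) F.X = 3 := c.three k (h.AN k)
    omega
  have hNp : ∀ g ∈ Np p T a F.X, ∀ k, F.lab g k = k := fun g hg k => by
    rcases hI k with rfl | rfl
    · exact c.single h.symm ((h.symm.hij _).2 (c.toCx.lab_mem_Ob hg (c.toCx.self_mem_Ob _)))
    · exact c.single h ((h.hij _).2 (c.toCx.lab_mem_Ob hg (c.toCx.self_mem_Ob _)))
  have hz : u • a ≠ a := c.toCx.ne_of_not_J (k := i) (h1 ▸ Set.notMem_empty i)
  -- `p` does not divide the order of the centraliser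
  obtain ⟨V, -, hV⟩ := exists_maxP (p := p) (L := CA T a (F.D Set.univ)) (P := ⊥) IsPGroup.of_bot bot_le
  obtain rfl : V = ⊥ := by
    by_contra h3
    obtain ⟨Q', h4, -, h5, h6, -⟩ := c.toCx.S.exists_md c.A hV h3
    obtain ⟨k, hk⟩ := h4.exists_act_univ c.toCx.S c.A h5
    obtain ⟨l, hl⟩ := hadj k
    by_cases h7 : F.toPS.Act V Q' l
    · exact (h4.rank2 hl.1 trivial trivial (hsp k) (hsp l) hk h7).1 hl
    · exact Set.notMem_empty l (h1 ▸ h4.aff2 c.toCx.S c.A h6 trivial trivial (hsp k) hk h7 hl (c.toCx.X_fix x₁)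
        fun v hv => h2 v (hV.le hv).1.2 (nm_of_comm fun x hx => ((hV.le hv).2 x (F.toPS.X_le _ hx)).symm))
  -- `X` is a Sylow subgroup of `T_a`
  have hS : MaxP p (T ⊓ stabilizer G a) F.X := ⟨c.toCx.S.X_le, F.isP, fun P hP h3 h4 => le_antisymm (fun g hg => by
    have h5 := c.toCx.S.le_Np hP (h3.trans inf_le_left) (h3.trans inf_le_right) h4 hg
    obtain ⟨x, hx, h6⟩ := c.h.rig2 (fun k => ⟨hsp k, c.three k (h.AN k)⟩) g (Np_fix h5) (Np_nm h5)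
      fun k => by rw [c.toCx.cj_D (Np_fix h5) (Np_nm h5), hNp g h5]
    have h7 := mul_mem (h4 hx) hg
    have h8 := hV.max (Subgroup.zpowers (x * g)) (hP.to_le (Subgroup.zpowers_le.2 h7))
      (Subgroup.zpowers_le.2 ⟨h3 h7, fun e he => (c.toCx.S.comm_of_fix c.A h6 e he).symm⟩) bot_le
    rw [Subgroup.zpowers_eq_bot, mul_eq_one_iff_inv_eq] at h8
    exact h8 ▸ inv_mem hx) h4⟩
  have h3 : ∀ b, b ≠ a → F.X ≤ stabilizer G b → b = u • a := fun b hb hX => by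
    obtain ⟨g, hg, rfl⟩ := c.toCx.good hS hX
    refine c.eq_of_J_eq hg x₁ (fun k => ?_) fun k _ => h.AN k
    rw [h1]
    refine iff_of_false (fun hk => ?_) (Set.notMem_empty k)
    have h3 := c.toCx.S.pt c.A hb hz hX (c.toCx.X_fix x₁) (c := 3) (by
      show 3 * F.toPS.W (F.J _) ≤ F.toPS.W (F.J _)
      rw [h1]
      exact F.toPS.three_mul_empty hk) (fun s => F.lab s i) {i, j} (Set.toFinite _) (fun s _ => hI _)
      (fun s hs s' hs' h3 => by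
        have h4 := mul_mem (inv_mem hs) hs'
        have h5 := c.lab_eq_of (nm_iff.1 hs.2) (nm_iff.1 hs'.2) h3
        generalize s⁻¹ * s' = r at h4 h5
        have h6 := nm_iff.1 h4.2
        have h7 : ∀ l, F.lab r l = l := fun l => by
          rcases hI l with rfl | rfl
          · exact h5
          · exact (hI _).elim (fun h7 => by rw [c.toCx.lab_inj h6 (h7.trans h5.symm), h5]) id
        rw [← mul_smul]
        refine c.eq_of_J_eq (nm_mul h6 hg) hg (fun l => ?_) fun l _ => h.AN l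
        conv_lhs => rw [mul_smul, ← h7 l]
        exact c.toCx.lab_mem_J h4.1.1 h6)
    have h4 := ncard_pair_le_two i j
    omega
  exact c.toCx.not_two fun b d hb hd h4 h5 => ⟨1, one_smul _ _, by rw [one_smul, h3 b hb h4, h3 d hd h5]⟩

end C1

/-- two orbits, one active and one passive -/
theorem c2 {i j : I} {Q R : Subgroup G} (hij : ∀ k, k ∉ F.Ob T a i ↔ k ∈ F.Ob T a j) (hQ : F.Mdl T a (F.Ob T a i)ᶜ Q)
    (hO : ∀ k, k ∉ F.Ob T a i → F.AIn T a (F.Ob T a i)ᶜ Q k) (hR : F.PasQ T a j R) : False := by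
  have := c.A.nrm
  have hAN : ∀ k, k ∉ F.Ob T a i → F.AN T a k := fun k hk => ⟨i, Q, hO k hk⟩
  have hj : j ∉ F.Ob T a i := (hij j).2 (c.toCx.self_mem_Ob j)
  have hi := c.toCx.self_mem_Ob i
  have hinv : ∀ g, g • a = a → cj g F.X = F.X → ∀ k, F.lab g k ∈ F.Ob T a i ↔ k ∈ F.Ob T a i := fun g ha hg k => by
    rw [← not_iff_not, hij, hij, c.toCx.pas_inv hR ha hg]
  have hRD : ∀ v ∈ R, ∀ k ∈ F.Ob T a i, cj v (F.D {k}) = F.D {k} := fun v hv k hk =>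
    hR.nm_D hv fun h1 => (hij k).2 h1 hk
  have hRJ : ∀ v ∈ R, ∀ k ∈ F.Ob T a i, k ∈ F.J (v • a) := fun v hv k hk =>
    (c.toCx.mem_J_of_nm (hRD v hv k hk)).2 (c.toCx.self_mem_J k)
  obtain ⟨y, hy⟩ := c.exists_top hO hQ
  have hfix : ∀ g, g • a = a → cj g F.X = F.X → g • y = y := fun g ha hg => c.top_fix hO hQ hy ha hg (hinv g ha hg)
  have hJ := c.top_J hO hQ hy
  have hya : y ≠ a := c.toCx.ne_of_not_J (hy.2 j hj)
  obtain ⟨⟨u, hu, rfl⟩, hy⟩ := hy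
  have x₁ := c.MS_nmX hO hQ subset_rfl hu
  have hX := c.toCx.X_fix x₁
  choose! w hw hw' using fun l hl => (c.aff (hAN l hl)).ne
  have xw : ∀ l, l ∉ F.Ob T a i → cj (w l) F.X = F.X := fun l hl => (c.aff (hAN l hl)).nmX _ (hw l hl)
  have nw : ∀ l, l ∉ F.Ob T a i → l ∉ F.J (w l • a) := fun l hl =>
    (c.aff (hAN l hl)).not_mem_J c.toCx (hw l hl) (hw' l hl)
  obtain ⟨v₀, hv₀, hv₀'⟩ := hR.exists_ne
  obtain ⟨l₀, hl₀⟩ := c.toCx.exists_not_J (hR.nm_X hv₀) hv₀'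
  have hl₀' : l₀ ∉ F.Ob T a i := fun h1 => hl₀ (hRJ v₀ hv₀ l₀ h1)
  replace hJ : F.J (u • a) = F.Ob T a i := hJ.resolve_left fun h1 => by
    have h2 : ∀ k, k ∉ F.Ob T a i → k = j := fun k hk => c.eq_of_W_le hO hj (hw j hj) (c.toCx.S.pt c.A
      (c.toCx.ne_of_not_J (nw j hj)) hya (c.toCx.X_fix (xw j hj)) hX (by
        show _ * F.toPS.W (F.J _) ≤ _
        rw [h1, F.toPS.W_empty, mul_one]) (fun g => F.lab g j) _ (Set.toFinite _)
      (fun g hg h2 => hj ((hinv g hg.1.1 (nm_iff.1 hg.2) j).1 h2))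
      (fun g hg g' hg' h7 => c.fix_wt (hAN j hj) (hw j hj) (hw' j hj) (mul_mem (inv_mem hg) hg').1.1
        (nm_iff.1 (mul_mem (inv_mem hg) hg').2) (c.lab_eq_of (nm_iff.1 hg.2) (nm_iff.1 hg'.2) h7))) hk
    have h3 : ∀ k, k ∈ F.J (v₀ • a) ↔ k ∈ F.Ob T a i := fun k =>
      ⟨fun hk => by_contra fun h3 => hl₀ (by rwa [h2 l₀ hl₀', ← h2 k h3]), hRJ v₀ hv₀ k⟩
    refine c.toCx.pt1 hv₀' hya (c.toCx.X_fix (hR.nm_X hv₀)) hX (fun g hg => ?_)
      (by rw [h1]; exact F.toPS.three_mul_empty ((h3 i).2 hi))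
    have h4 := nm_iff.1 hg.2
    rw [← mul_smul]
    refine (c.eq_of_J_eq (hR.nm_X hv₀) (nm_mul h4 (hR.nm_X hv₀)) (fun k => ?_)
      fun k hk => hAN k fun h5 => hk ((h3 k).2 h5)).symm
    rw [mul_smul, ← c.toCx.lab_lab_inv h4 k, c.toCx.lab_mem_J hg.1.1 h4, h3, h3, hinv g hg.1.1 h4]
  have g1 : ∀ g, cj g F.X = F.X → (∀ k, k ∉ F.Ob T a i → k ∉ F.J (g • a)) → g • a = u • a := fun g hg h1 => by
    refine (c.eq_of_J_eq x₁ hg (fun k => ?_) fun k hk => hAN k (hJ ▸ hk)).symm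
    rw [hJ]
    refine ⟨fun hk => by_contra fun h2 => ?_, fun hk => by_contra fun h2 => h1 k h2 hk⟩
    exact c.toCx.pt1 hya (c.toCx.ne_of_not_J h2) hX (c.toCx.X_fix hg) (fun s hs => hfix s hs.1.1 (nm_iff.1 hs.2))
      (by rw [hJ]; exact F.toPS.three_mul_le' (fun l hl => by_contra fun h3 => h1 l h3 hl) h2 hk)
  have g3 : R ≤ F.MS (F.Ob T a i)ᶜ := fun v hv => by
    obtain ⟨u', hu', h1⟩ := c.exists_flip hO hQ (c.toCx.X_fix (hR.nm_X hv))
    rw [← mul_smul] at h1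
    have h2 := g1 _ (nm_mul (c.MS_nmX hO hQ subset_rfl hu') (hR.nm_X hv)) h1
    have h3 := c.h.le_X (P := (R ⊔ F.MS (F.Ob T a i)ᶜ) ⊓ stabilizer G a)
      ((isP_sup hR.md.isP (c.MS_isP hO hQ) fun x hx => c.toCx.cj_MS (hR.nm_X hx) fun k => by
        have h3 : ∀ l, l ∉ (F.Ob T a i)ᶜ → F.lab x l = l := fun l hl =>
          c.toCx.lab_of_cj (hR.nm_X hx) (hRD x hx l (not_not.1 hl))
        exact ⟨fun hk h4 => hk (c.toCx.lab_inj (hR.nm_X hx) (h3 _ (not_not.2 h4)) ▸ h4),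
          fun hk h4 => hk (by rwa [h3 k (not_not.2 h4)])⟩).to_le inf_le_left)
      (inf_le_left.trans (sup_le hR.leT (c.MS_T hO hQ))) inf_le_right fun g hg => nm_inf (nm_sup
        (hR.can g (F.toPS.V_eq_of_cj (Np_nm hg) (c.toCx.nm_D_compl hg j)))
        (c.toCx.cj_MS (Np_nm hg) fun k => not_congr (c.toCx.lab_mem_Ob_iff hg).symm)) (nm_stab (Np_fix hg))
    have h4 : u⁻¹ * (u' * v) ∈ F.X := h3 ⟨mul_mem (Subgroup.mem_sup_right (inv_mem hu))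
      (mul_mem (Subgroup.mem_sup_right hu') (Subgroup.mem_sup_left hv)), by
        show (u⁻¹ * (u' * v)) • a = a
        rw [mul_smul, h2, inv_smul_smul]⟩
    exact (mul_mem_cancel_left hu').1 ((mul_mem_cancel_left (inv_mem hu)).1 (Subgroup.mem_sup_left h4))
  have g4 : ∀ k, k ∉ F.Ob T a i → ∀ l, l ≠ k → l ∉ F.J (w k • a) → l ∈ F.Ob T a i ∧ F.toPS.Adj k l :=
    fun k hk l hne hl => by
      have h1 : l ∈ F.Ob T a i := by_contra fun h1 => hl (c.mem_J (hO k hk) h1 hne.symm (hw k hk))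
      refine ⟨h1, by_contra fun h2 => hl ?_⟩
      obtain ⟨g, hg, rfl⟩ := c.toCx.Ob_trans ((hij _).1 hl₀') ((hij _).1 hk)
      have h3 : g * v₀ * g⁻¹ ∈ R := nm_conj (hR.can g (F.toPS.V_eq_of_cj (Np_nm hg) (c.toCx.nm_D_compl hg j))) hv₀
      exact (c.toCx.mem_J_of_nm (c.nm_D_of_swap (hAN _ hk) hne.symm h2 (hR.nm_X h3)
        (c.MS_nmV hO hQ subset_rfl (g3 h3) hk) (hRD _ h3 l h1) (by
          rw [mul_smul, mul_smul, inv_smul_eq_iff.2 (Np_fix hg).symm, c.toCx.lab_mem_J (Np_fix hg) (Np_nm hg)]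
          exact hl₀) (hw _ hk))).2 (c.toCx.self_mem_J l)
  have g5 : ∀ k, k ∉ F.Ob T a i → ∃ k', k' ∉ F.Ob T a i ∧ k' ≠ k := fun k hk => by
    by_contra h1
    push Not at h1
    obtain ⟨l, h2, h3⟩ := c.exists_blk (hAN k hk) (hw k hk) (hw' k hk)
    rw [g1 _ (xw k hk) fun l hl => by rw [h1 l hl]; exact nw k hk, hJ] at h3
    exact h2 (h1 l h3)
  have g6 : ∀ k, k ∉ F.Ob T a i → ∀ k', k' ∉ F.Ob T a i → k' ≠ k → ∃ l ∈ F.Ob T a i, l ∉ F.J (w k • a) ∧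
      F.toPS.Adj k l ∧ F.toPS.Adj k' l := fun k hk k' hk' hne => by
    obtain ⟨l, h1, h2⟩ := c.blocks_meet (hAN k hk) (hAN k' hk') (hw k hk) (hw' k hk) (hw k' hk') (hw' k' hk')
    have h3 : l ≠ k := fun h3 => h2 (h3 ▸ c.mem_J (hO k' hk') hk hne (hw k' hk'))
    have h4 : l ≠ k' := fun h4 => h1 (h4 ▸ c.mem_J (hO k hk) hk' hne.symm (hw k hk))
    exact ⟨l, (g4 k hk l h3 h1).1, h1, (g4 k hk l h3 h1).2, (g4 k' hk' l h4 h2).2⟩
  obtain ⟨e, he⟩ := F.endn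
  have hend : ∀ k ∈ F.Ob T a e, ∀ l l', F.toPS.Adj k l → F.toPS.Adj k l' → l = l' := fun k hk l l' h1 h2 => by
    obtain ⟨g, hg, h3⟩ := c.toCx.Ob_symm hk
    exact c.toCx.lab_inj (Np_nm hg) (he _ _ (h3 ▸ c.toCx.adj_lab (Np_fix hg) (Np_nm hg) h1)
      (h3 ▸ c.toCx.adj_lab (Np_fix hg) (Np_nm hg) h2))
  obtain ⟨j', hj', hne⟩ := g5 j hj
  obtain ⟨l, hl, h1, h2, h3⟩ := g6 j hj j' hj' hne
  have he' : e ∉ F.Ob T a i := fun h4 =>
    hne (hend l (c.toCx.Ob_trans h4 hl) _ _ (F.toPS.adj_symm h3) (F.toPS.adj_symm h2))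
  replace hend : ∀ k, k ∉ F.Ob T a i → ∀ l l', F.toPS.Adj k l → F.toPS.Adj k l' → l = l' := fun k hk =>
    hend k (c.toCx.Ob_trans ((hij _).1 he') ((hij _).1 hk))
  have h4 : ∀ k ∈ F.Ob T a i, k = l := fun k hk => by
    obtain ⟨g, hg, rfl⟩ := c.toCx.Ob_trans hl hk
    have h4 : F.lab g j ∉ F.Ob T a i := fun h4 => hj ((c.toCx.lab_mem_Ob_iff hg).1 h4)
    refine hend _ h4 _ _ (c.toCx.adj_lab (Np_fix hg) (Np_nm hg) h2) ?_
    by_cases h5 : F.lab g j = j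
    · rwa [h5]
    · obtain ⟨l', -, -, h6, h7⟩ := g6 j hj _ h4 h5
      rwa [hend j hj _ _ h2 h6]
  have aj := c.aff (hAN j hj)
  have h5 : ∀ k, k ≠ j → k ∉ F.J (w j • u • a) := fun k hk h5 => by
    by_cases h6 : k ∈ F.Ob T a i
    · rw [h4 k h6, FS.mem_J, ← inv_inv (w j), ← cj_le_stab', ← c.toCx.atm_lab (nm_inv (xw j hj)),
        h4 _ (by_contra fun h7 => ?_ : F.lab (w j)⁻¹ l ∈ F.Ob T a i), c.toCx.atm_fix_iff x₁ (nm_inv (xw j hj)),
        (c.toCx.mem_J_iff x₁).1 (hJ ▸ hl), eq_comm, ← c.toCx.mem_J_iff (nm_inv (xw j hj)),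
        c.inv_smul_eq (hAN j hj) (hw j hj) (hw' j hj) c.toCx.S.X_fix] at h5
      · exact h1 h5
      · have h8 := c.MS_lab hO hQ subset_rfl (FS.M2_le_MS hj (hw j hj)) h7
        rw [c.toCx.lab_lab_inv (xw j hj)] at h8
        exact h7 (h8 ▸ hl)
    · exact hy k h6 ((c.toCx.mem_J_of_nm (c.nm_D (hO j hj) h6 hk.symm (hw j hj))).1 h5)
  have h6 : j ∈ F.J (w j • u • a) := by
    obtain ⟨v, hv, h6⟩ := aj.ex _ hX
    rwa [c.smul_eq (hAN j hj) hv (fun h7 => hy j hj (by rwa [show v • u • a = u • a from hX h7] at h6))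
      (hw j hj) (hw' j hj) hX] at h6
  have h7 := (c.toCx.S.m_eq c.A (c.toCx.ne_of_not_J (h5 j' hne)) (le_stab_smul (xw j hj) hX)).trans
    (c.toCx.S.m_eq c.A hya hX).symm
  have h8 : F.toPS.W (F.J (w j • u • a)) ≤ F.toPS.W (F.J (u • a)) :=
    (F.toPS.W_mono (L := {j}) fun k hk => by_contra fun h8 => h5 k h8 hk).trans ((c.three j (hAN j hj)).le.trans
      ((F.toPS.three_le l).trans (F.toPS.W_mono (Set.singleton_subset_iff.2 (hJ ▸ hl)))))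
  have h9 : BH a (w j • u • a) F.X = BH a (u • a) F.X := Subgroup.eq_of_le_of_card_ge
    (fun s hs => ⟨⟨hs.1.1, hfix s hs.1.1 (nm_iff.1 hs.2)⟩, hs.2⟩)
    (Nat.le_of_mul_le_mul_left (h7.ge.trans (Nat.mul_le_mul_right _ h8)) (F.toPS.W_pos _))
  obtain ⟨g, hg, rfl⟩ := (hij _).1 hj'
  have h10 : g ∈ BH a (w j • u • a) F.X := h9.ge ⟨⟨Np_fix hg, hfix g (Np_fix hg) (Np_nm hg)⟩, nm_iff.2 (Np_nm hg)⟩
  exact h5 _ hne ((show g • w j • u • a = w j • u • a from h10.1.2) ▸ (c.toCx.lab_mem_J (Np_fix hg) (Np_nm hg)).2 h6)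

end Cx2

theorem Cx.mem_Ob (c : Cx F T m a) (i k : I) : k ∈ F.Ob T a i := by
  by_contra hc
  have c2 : Cx2 F T m a := ⟨c, fun j hj => c.W_eq_three ⟨i, k, hc⟩ hj⟩
  obtain ⟨i, j, Q, h⟩ : ∃ i j Q, F.AIn T a (F.Ob T a i)ᶜ Q j := by
    rcases c.pas_or i with ⟨Q, hQ⟩ | ⟨j, Q, h⟩
    · rcases c.pas_or k with ⟨R, hR⟩ | ⟨j, R, h⟩
      · exact absurd (c.two_pas hQ hR) hc
      · exact ⟨k, j, R, h⟩
    · exact ⟨i, j, Q, h⟩
  have hij : ∀ l, l ∉ F.Ob T a i ↔ l ∈ F.Ob T a j := fun l =>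
    ⟨(c2.two_orbits h l).resolve_left, fun h1 h2 => h.mem (c.Ob_eq h2 ▸ c.Ob_symm h1)⟩
  have hO : ∀ l, l ∉ F.Ob T a i → F.AIn T a (F.Ob T a i)ᶜ Q l := fun l hl => c.ain_of_Ob h ((hij l).1 hl)
  rcases c.pas_or j with ⟨R, hR⟩ | ⟨l, R, hR⟩
  · exact c2.c2 hij h.toMdl hO hR
  · exact c2.c1 ⟨hij, h.toMdl, hO, hR.toMdl, fun l' hl' => c.ain_of_Ob hR ((c2.two_orbits hR l').resolve_left hl')⟩

/-- **[ONE]** -/
theorem boxOne : BoxOne := by
  intro G _ _ Ω _ T p m a I _ F A h i k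
  have := Fact.mk A.prime
  have c : Cx F T m a := ⟨A, h⟩
  obtain ⟨g, hg, rfl⟩ := c.mem_Ob i k
  exact ⟨g, hg, c.cj_D (Np_fix hg) (Np_nm hg) i⟩

end Cfsg.Agent.TH.Own
end

private theorem dce_b5e136c86d22 : _root_.True := by
  try have : _root_.True := by simp only [_root_.Cfsg.Agent.TH.Own.FS.YY.eq_1]
  try have : _root_.True := by simp only [_root_.Cfsg.Agent.TH.Own.FS.lab.eq_1]
  try have : _root_.True := by simp only [_root_.Cfsg.Agent.TH.Own.FS.R1.eq_1]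
  try have : _root_.True := by simp only [_root_.Cfsg.Agent.TH.Own.FS.MS.eq_1]
  try have : _root_.True := by simp only [_root_.Cfsg.Agent.TH.Own.FS.M1.eq_1]
  try have : _root_.True := by simp only [_root_.Cfsg.Agent.TH.Own.FS.M2.eq_1]
  try have : _root_.True := by simp only [_root_.Cfsg.Agent.TH.Own.FS.atm.eq_1]
  exact _root_.True.intro
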